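import Cfsg.Agent.H946.ExcNum_m3
import Mathlib
import Cfsg.Agent.H416.Arith
import Cfsg.Agent.H405.UE.GD
import Cfsg.Agent.H77.E4Poly_m3
import Cfsg.Agent.H414.IsoE8_m3
import Cfsg.Agent.H378.RegE7
import Cfsg.Agent.H341.ThreeList_m3
import Cfsg.Agent.H426.LieEx_m3
import Cfsg.Agent.H72.AdjPSL
import Cfsg.Agent.H72.AdjPSUW
import Cfsg.Agent.H72.Task106
import Cfsg.Agent.H102.TPsl
import Cfsg.Agent.S2468
import Cfsg.Agent.S0279
import Cfsg.Agent.H824.E7.Facts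
import Cfsg.Agent.H868.KSL2
import Cfsg.Agent.S2475
import Cfsg.Agent.H493.EigFast
import Mathlib.Tactic
import Cfsg.Agent.H377.OddThree_m3
import Cfsg.Agent.H706.ESeven.Ctx
import Cfsg.Agent.H420.ExcStep
import Cfsg.Agent.H376.CocAlt_m3
import Cfsg.Agent.H416.SporPrimes
import Cfsg.Agent.FastGrp
import Cfsg.Agent.Prune
set_option linter.all false

section
prune_inst 0x7ffafdf8cbbc27ffdfff7e7ffed9dffc1bd15fffa6dffb43ffe8e1ff0bdf038839c5fb8d1de050ff0ed6e09410b87813fb7eeeffea6fdc7ffffdfff41ffbee4fe5f7b500119080240f380ff703f07f8e7f3fffffffffdfffffffffffffffffbeffffffffffff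

-- part: H627/E7/Common
section
prune_inst 0x20000000000000000000000000000000
set_option linter.all false
open scoped Cfsg.Agent.FastGrp

-- part: H627/E7/Num
section
/-!
# S3482 (`E₇(q)`): the numbers `NN q i`, `TT q i` (helper627)

* `NN_eq_ncl` : `NN q i = ncl i q`, `i = 7, 9, 14, 18`; `prim_of_dvd_NN`, `dvd_NN`;
* `q_le` : `q ^ 6 ≤ 8 * NN q i` (`i = 14, 18`, `7 ≤ q`); `TT_le` : `TT q i ≤ q ^ 7` (`i = 14, 18`, `q` odd, `3 ≤ q`);
* `odd_TT`, `odd_TT_even` : `TT q 14`, `TT q 18` are odd (`q % 4 = 1`), all four are odd (`q` even);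
* `NN_dvd_TT`, `TT_pos`.
-/

set_option autoImplicit false

namespace Cfsg.Agent.H627.E7

open Cfsg.Agent.H436 Cfsg.Agent.H962.E7 Cfsg.Agent.H563.KG

variable {q i r : ℕ}

theorem mem_C4 : i ∈ C4 ↔ i = 7 ∨ i = 9 ∨ i = 14 ∨ i = 18 := by simp [C4]

theorem mem_C8 : i ∈ C8 ↔ i = 5 ∨ i = 7 ∨ i = 8 ∨ i = 9 ∨ i = 10 ∨ i = 12 ∨ i = 14 ∨ i = 18 := by simp [C8]

theorem C4_sub (h : i ∈ C4) : i ∈ C8 := by
  rw [mem_C4] at h
  rw [mem_C8]
  omega

theorem cls_of_C4 (h : i ∈ C4) : Cls i := by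
  rw [mem_C4] at h
  unfold Cls
  omega

theorem Ph7_mul (hq : 1 ≤ q) : (q - 1) * Ph 7 q = q ^ 7 - 1 := by
  obtain ⟨t, rfl⟩ : ∃ t, q = t + 1 := ⟨q - 1, by omega⟩
  have h1 : 1 ≤ (t + 1) ^ 7 := Nat.one_le_pow _ _ (by omega)
  apply Nat.cast_injective (R := ℤ)
  rw [Nat.cast_mul, Nat.cast_sub h1, cast_Ph7, Nat.add_sub_cancel]
  push_cast
  ring

theorem Ph14_mul (hq : 1 ≤ q) : (q + 1) * Ph 14 q = q ^ 7 + 1 := by
  apply Nat.cast_injective (R := ℤ)
  rw [Nat.cast_mul, cast_Ph14 _ hq]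
  push_cast
  ring

theorem gcd_eq {c a b : ℕ} (hc : c.Prime) (h : c ∣ a ↔ c ∣ b) : Nat.gcd c a = Nat.gcd c b := by
  by_cases h1 : c ∣ a
  · rw [Nat.gcd_eq_left h1, Nat.gcd_eq_left (h.1 h1)]
  · rw [(hc.coprime_iff_not_dvd.2 h1 : Nat.gcd c a = 1), (hc.coprime_iff_not_dvd.2 fun h2 => h1 (h.2 h2) : Nat.gcd c b = 1)]

theorem dvd_sub_one (hq : 1 ≤ q) (c : ℕ) : c ∣ q - 1 ↔ (q : ZMod c) = 1 := by
  rw [← ZMod.natCast_eq_zero_iff, Nat.cast_sub hq, Nat.cast_one, sub_eq_zero]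

theorem dvd_add_one (c : ℕ) : c ∣ q + 1 ↔ (q : ZMod c) = -1 := by
  rw [← ZMod.natCast_eq_zero_iff, Nat.cast_add, Nat.cast_one, ← eq_neg_iff_add_eq_zero]

theorem NN_eq_ncl (hi : i ∈ C4) (hq : 2 ≤ q) : NN q i = ncl i q := by
  have hq1 : 1 ≤ q := by omega
  rw [mem_C4] at hi
  rcases hi with rfl | rfl | rfl | rfl
  · have e : Nat.gcd 7 (q - 1) = Nat.gcd 7 (Ph 7 q) := by
      apply gcd_eq (by norm_num)
      rw [dvd_sub_one hq1, ← ZMod.natCast_eq_zero_iff (Ph 7 q) 7, cast_Ph7]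
      generalize (q : ZMod 7) = x; revert x; decide +kernel
    rw [NN, if_pos rfl, ← Ph7_mul hq1, e, Nat.mul_div_mul_left _ _ (by omega)]
    rfl
  · have e : Nat.gcd 3 (q - 1) = Nat.gcd 3 (Ph 9 q) := by
      apply gcd_eq (by norm_num)
      rw [dvd_sub_one hq1, ← ZMod.natCast_eq_zero_iff (Ph 9 q) 3, cast_Ph9]
      generalize (q : ZMod 3) = x; revert x; decide +kernel
    rw [NN, if_neg (by norm_num), if_pos rfl, e]
    rfl
  · have e : Nat.gcd 7 (q + 1) = Nat.gcd 7 (Ph 14 q) := by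
      apply gcd_eq (by norm_num)
      rw [dvd_add_one, ← ZMod.natCast_eq_zero_iff (Ph 14 q) 7, cast_Ph14 _ hq1]
      generalize (q : ZMod 7) = x; revert x; decide +kernel
    rw [NN, if_neg (by norm_num), if_neg (by norm_num), if_pos rfl, ← Ph14_mul hq1, e, Nat.mul_div_mul_left _ _ (by omega)]
    rfl
  · have e : Nat.gcd 3 (q + 1) = Nat.gcd 3 (Ph 18 q) := by
      apply gcd_eq (by norm_num)
      rw [dvd_add_one, ← ZMod.natCast_eq_zero_iff (Ph 18 q) 3, cast_Ph18 _ hq1]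
      generalize (q : ZMod 3) = x; revert x; decide +kernel
    have e2 : q ^ 6 - q ^ 3 + 1 = Ph 18 q := by
      have h1 := pow_le_pow' hq1 (show 3 ≤ 6 by norm_num)
      change _ = (q ^ 6 + 1) - q ^ 3
      omega
    rw [NN, if_neg (by norm_num), if_neg (by norm_num), if_neg (by norm_num), if_pos rfl, e, e2]
    rfl

/-- the primes of `NN q i` are the primes of class `i` -/
theorem prim_of_dvd_NN (hi : i ∈ C4) (hq : 2 ≤ q) (hr : r.Prime) (h : r ∣ NN q i) : Prim q i r :=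
  prim_of_dvd (cls_of_C4 hi) (by omega) hr (NN_eq_ncl hi hq ▸ h)

theorem dvd_NN (hi : i ∈ C4) (hq : 2 ≤ q) (h : Prim q i r) : r ∣ NN q i := by
  rw [NN_eq_ncl hi hq]
  exact dvd_ncl (cls_of_C4 hi) (by omega) h

theorem NN_pos (hi : i ∈ C4) (hq : 2 ≤ q) : 0 < NN q i := by
  rw [NN_eq_ncl hi hq]
  exact ncl_pos _ (by omega)

/-- a prime of class `i ∈ C8` exists -/
theorem exists_prim8 (hi : i ∈ C8) (hq : 2 ≤ q) : ∃ r, Prim q i r := by
  rw [mem_C8] at hi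
  exact exists_prim hq (by omega) (by omega)

/-- the primes of class `i` are greater than `i` -/
theorem lt_prim8 (hq : 2 ≤ q) (h : Prim q i r) : i < r := by
  have hF := Fact.mk h.prime
  have h4 : i ∣ r - 1 := by
    rw [← h.dvd_iff]
    have h5 : ((q : ZMod r)) ≠ 0 := by
      rw [Ne, ZMod.natCast_eq_zero_iff]
      exact h.not_dvd
    have h6 := ZMod.pow_card_sub_one_eq_one h5
    have h7 : 1 ≤ q ^ (r - 1) := Nat.one_le_pow _ _ (by omega)
    rw [← ZMod.natCast_eq_zero_iff, Nat.cast_sub h7, Nat.cast_pow, Nat.cast_one, h6, sub_self]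
  have h8 := h.prime.two_le
  have h9 := Nat.le_of_dvd (by omega) h4
  omega

theorem three_lt (hi : i ∈ C8) (hq : 2 ≤ q) (h : Prim q i r) : 3 < r := by
  have h1 := lt_prim8 hq h
  rw [mem_C8] at hi
  omega

/-- lower bound -/
theorem q_le (hi : i = 14 ∨ i = 18) (hq : 7 ≤ q) : q ^ 6 ≤ 8 * NN q i := by
  have hq1 : 1 ≤ q := by omega
  have h4 : i ∈ C4 := by rw [mem_C4]; omega
  rw [NN_eq_ncl h4 (by omega)]
  rcases hi with rfl | rfl
  · have h1 := Ph_le 14 q (by decide)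
    have h2 := Ph14_mul hq1
    change Ph 14 q ≤ ncl 14 q * 7 at h1
    have h3 : (q + 1) * Ph 14 q ≤ (q + 1) * (ncl 14 q * 7) := Nat.mul_le_mul_left _ h1
    have h5 : (q + 1) * q ^ 6 ≤ (q + 1) * (8 * ncl 14 q) := by
      have h6 : 7 * ((q + 1) * q ^ 6) ≤ 8 * (q ^ 7 + 1) := by
        have h7 : 7 * q ^ 6 ≤ q * q ^ 6 := Nat.mul_le_mul_right _ hq
        have h8 : q ^ 7 = q * q ^ 6 := by ring
        rw [h8]
        nlinarith
      nlinarith
    exact Nat.le_of_mul_le_mul_left h5 (by omega)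
  · have h1 := Ph_le 18 q (by decide)
    change (q ^ 6 + 1) - q ^ 3 ≤ ncl 18 q * 3 at h1
    have h2 : q ^ 6 = q ^ 3 * q ^ 3 := by ring
    have h3 : 2 ≤ q ^ 3 := by
      calc 2 ≤ q ^ 1 := by rw [pow_one]; omega
        _ ≤ q ^ 3 := Nat.pow_le_pow_right hq1 (by norm_num)
    have h4 : 2 * q ^ 3 ≤ q ^ 6 := by rw [h2]; exact Nat.mul_le_mul_right _ h3
    omega

/-- upper bound -/
theorem TT_le (hi : i = 14 ∨ i = 18) (hq : 2 ≤ q) (ho : q % 2 = 1) : TT q i ≤ q ^ 7 := by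
  have e : Nat.gcd 2 (q - 1) = 2 := Nat.gcd_eq_left (by omega)
  have hq1 : 1 ≤ q := by omega
  have h7 : q ^ 7 = q * q ^ 6 := by ring
  have h6 : 1 ≤ q ^ 6 := Nat.one_le_pow _ _ hq1
  have h3 : 1 ≤ q ^ 3 := Nat.one_le_pow _ _ hq1
  have h36 : q ^ 3 ≤ q ^ 6 := pow_le_pow' hq1 (by norm_num)
  rcases hi with rfl | rfl
  · rw [TT, if_neg (by norm_num), if_neg (by norm_num), if_pos rfl, e]
    have : 1 ≤ q ^ 7 := Nat.one_le_pow _ _ hq1
    omega
  · rw [TT, if_neg (by norm_num), if_neg (by norm_num), if_neg (by norm_num), if_pos rfl, e]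
    have h1 : (q + 1) * (q ^ 6 - q ^ 3 + 1) ≤ (q + 1) * q ^ 6 := Nat.mul_le_mul_left _ (by omega)
    have h2 : (q + 1) * q ^ 6 ≤ 2 * (q * q ^ 6) := by nlinarith
    rw [h7]
    omega

theorem odd_TT (hi : i = 14 ∨ i = 18) (hq : q % 4 = 1) : ¬ 2 ∣ TT q i := by
  have e : Nat.gcd 2 (q - 1) = 2 := Nat.gcd_eq_left (by omega)
  have h1 : (q : ZMod 4) = 1 := by
    have : (q : ZMod 4) = ((q % 4 : ℕ) : ZMod 4) := by rw [ZMod.natCast_mod]
    rw [this, hq, Nat.cast_one]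
  have key : ∀ n : ℕ, ((n : ℕ) : ZMod 4) = 2 → ¬ 2 ∣ n / 2 := by
    intro n hn h
    have h2 : n % 4 = 2 := by
      have h3 : ((n : ℕ) : ZMod 4) = ((2 : ℕ) : ZMod 4) := by rw [hn]; rfl
      have := (ZMod.natCast_eq_natCast_iff' _ _ _).1 h3
      omega
    omega
  have hq1 : 1 ≤ q := by omega
  rcases hi with rfl | rfl
  · rw [TT, if_neg (by norm_num), if_neg (by norm_num), if_pos rfl, e]
    apply key
    push_cast
    rw [h1]
    decide +kernel
  · rw [TT, if_neg (by norm_num), if_neg (by norm_num), if_neg (by norm_num), if_pos rfl, e]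
    apply key
    have h36 : q ^ 3 ≤ q ^ 6 := pow_le_pow' hq1 (by norm_num)
    rw [Nat.cast_mul, Nat.cast_add, Nat.cast_add, Nat.cast_sub h36]
    push_cast
    rw [h1]
    decide +kernel

theorem odd_TT_even (hi : i ∈ C4) (hq : q % 2 = 0) (h2 : 2 ≤ q) : ¬ 2 ∣ TT q i := by
  have e : Nat.gcd 2 (q - 1) = 1 := by
    have h1 : ¬ 2 ∣ q - 1 := by omega
    exact (Nat.Prime.coprime_iff_not_dvd Nat.prime_two).2 h1
  have hq1 : 1 ≤ q := by omega
  have h0 : (q : ZMod 2) = 0 := (ZMod.natCast_eq_zero_iff q 2).2 (Nat.dvd_of_mod_eq_zero hq)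
  have h36 : q ^ 3 ≤ q ^ 6 := pow_le_pow' hq1 (by norm_num)
  have h7 : 1 ≤ q ^ 7 := Nat.one_le_pow _ _ hq1
  rw [mem_C4] at hi
  rw [← ZMod.natCast_eq_zero_iff]
  rcases hi with rfl | rfl | rfl | rfl
  · rw [TT, if_pos rfl, e, Nat.div_one, Nat.cast_sub h7]
    push_cast
    rw [h0]
    decide +kernel
  · rw [TT, if_neg (by norm_num), if_pos rfl, e, Nat.div_one, Nat.cast_mul, Nat.cast_sub hq1]
    push_cast
    rw [h0]
    decide +kernel
  · rw [TT, if_neg (by norm_num), if_neg (by norm_num), if_pos rfl, e, Nat.div_one]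
    push_cast
    rw [h0]
    decide +kernel
  · rw [TT, if_neg (by norm_num), if_neg (by norm_num), if_neg (by norm_num), if_pos rfl, e, Nat.div_one, Nat.cast_mul,
      Nat.cast_add, Nat.cast_add, Nat.cast_sub h36]
    push_cast
    rw [h0]
    decide +kernel

end Cfsg.Agent.H627.E7
end

-- part: H627/E7/Common
section
/-!
# S3482 (`E₇(q)`): common facts on `Row p k S` (helper627)

* `IsCoq S ρ` : cocliques (the fields of `H420.QR.IsCoq`: `⟨h.prime, h.dvd, h.nadj⟩`); this file does not import `H420`;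
* `coq` : a coclique of seven primes `> 3` of `S`;
* `nadj_two` : 2 is not adjacent to the primes of the classes 14, 18 (`p ≠ 2`), 7, 9, 14, 18 (`p = 2`);
* `q_ge` : `13 ≤ p ^ k` if `p ≠ 2`.
-/

set_option autoImplicit false

namespace Cfsg.Agent.H627.E7

open Cfsg.Agent.H436 Cfsg.Agent.H962.E7

universe u

/-- cocliques of the prime graph -/
structure IsCoq (G : Type*) [Group G] (ρ : Finset ℕ) : Prop where
  prime : ∀ r ∈ ρ, r.Prime
  dvd : ∀ r ∈ ρ, r ∣ Nat.card G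
  nadj : ∀ r ∈ ρ, ∀ s ∈ ρ, r ≠ s → ¬ ∃ x : G, orderOf x = r * s

variable {p k : ℕ} {S : Type u} [Group S]

theorem two_le (R : Row p k S) : 2 ≤ p ^ k :=
  R.hp.two_le.trans (Nat.le_self_pow (by have := R.hk; omega) p)

theorem q_mod (R : Row p k S) (h : p ≠ 2) : (p ^ k) % 4 = 1 := by
  have h1 : p % 4 = 1 := by
    rcases R.cas with h1 | h1 | h1 <;> omega
  rw [Nat.pow_mod, h1, one_pow]
  rfl

theorem q_ge (R : Row p k S) (h : p ≠ 2) : 13 ≤ p ^ k := by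
  have h1 : 13 ≤ p := by
    rcases R.cas with h1 | h1 | h1 <;> omega
  exact h1.trans (Nat.le_self_pow (by have := R.hk; omega) p)

theorem q_even (R : Row p k S) (h : p = 2) : (p ^ k) % 2 = 0 := by
  subst h
  have := R.hk
  obtain ⟨j, rfl⟩ : ∃ j, k = j + 1 := ⟨k - 1, by omega⟩
  rw [pow_succ]
  omega

/-- `TT` is odd -/
theorem odd_TT' (R : Row p k S) {i : ℕ} (hi : i ∈ C4) (h : p = 2 ∨ i = 14 ∨ i = 18) : ¬ 2 ∣ TT (p ^ k) i := by
  by_cases h2 : p = 2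
  · exact odd_TT_even hi (q_even R h2) (two_le R)
  · exact odd_TT (h.resolve_left h2) (q_mod R h2)

/-- 2 is not adjacent to the primes of class `i` -/
theorem nadj_two (R : Row p k S) {i r : ℕ} (hi : i ∈ C4) (h : p = 2 ∨ i = 14 ∨ i = 18) (hr : Prim (p ^ k) i r) :
    ¬ ∃ x : S, orderOf x = 2 * r := by
  rintro ⟨x, hx⟩
  have h1 := R.tor i hi x r hr (by rw [hx]; exact Dvd.intro_left _ rfl)
  rw [hx] at h1
  exact odd_TT' R hi h ((Dvd.intro _ rfl).trans h1)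

theorem nadj_two' (R : Row p k S) {i r : ℕ} (hi : i ∈ C4) (h : p = 2 ∨ i = 14 ∨ i = 18) (hr : Prim (p ^ k) i r) :
    ¬ ∃ x : S, orderOf x = r * 2 := by
  rw [mul_comm]
  exact nadj_two R hi h hr

/-- the classes 14, 18 (all four if `p = 2`) -/
theorem fl (R : Row p k S) {i : ℕ} (hi : i ∈ C4) (h : p = 2 ∨ i = 14 ∨ i = 18) : Fl S (p ^ k) i := by
  rcases h with h | h
  · exact R.even h i hi
  · exact R.top i (by simpa using h)

/-- one prime for each of the classes of `C ⊆ C8` -/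
theorem coq_of (R : Row p k S) (C : Finset ℕ) (hC : C ⊆ C8) (hF : ∀ i ∈ C, Fl S (p ^ k) i) :
    ∃ f : ℕ → ℕ, (∀ i ∈ C, Prim (p ^ k) i (f i)) ∧ IsCoq S (C.image f) ∧ (∀ r ∈ C.image f, 3 < r) ∧
      (C.image f).card = C.card := by
  classical
  have hex : ∀ i ∈ C, ∃ r, Prim (p ^ k) i r := fun i hi => exists_prim8 (hC hi) (two_le R)
  choose! f hf using hex
  refine ⟨f, hf, ⟨?_, ?_, ?_⟩, ?_, ?_⟩
  · intro r hr
    obtain ⟨i, hi, rfl⟩ := Finset.mem_image.1 hr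
    exact (hf i hi).prime
  · intro r hr
    obtain ⟨i, hi, rfl⟩ := Finset.mem_image.1 hr
    exact (hF i hi).dvd _ (hf i hi)
  · intro r hr s hs hrs
    obtain ⟨i, hi, rfl⟩ := Finset.mem_image.1 hr
    obtain ⟨j, hj, rfl⟩ := Finset.mem_image.1 hs
    exact R.nad i (hC hi) j (hC hj) (fun h => hrs (by rw [h])) _ _ (hf i hi) (hf j hj)
  · intro r hr
    obtain ⟨i, hi, rfl⟩ := Finset.mem_image.1 hr
    exact three_lt (hC hi) (two_le R) (hf i hi)
  · apply Finset.card_image_of_injOn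
    intro i hi j hj hij
    have h1 := hf i hi
    have h2 := hf j hj
    rw [← hij] at h2
    exact h1.unique h2

/-- **A coclique of seven primes `> 3`.** -/
theorem coq (R : Row p k S) : ∃ ρ : Finset ℕ, IsCoq S ρ ∧ (∀ r ∈ ρ, 3 < r) ∧ ρ.card = 7 := by
  classical
  obtain ⟨C, hC, hcard, hF⟩ : ∃ C : Finset ℕ, C ⊆ C8 ∧ C.card = 7 ∧ ∀ i ∈ C, Fl S (p ^ k) i := by
    by_cases h : ∀ i ∈ C8, Fl S (p ^ k) i
    · exact ⟨C8.erase 5, Finset.erase_subset _ _, by decide, fun i hi => h i (Finset.mem_of_mem_erase hi)⟩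
    · push Not at h
      obtain ⟨i, hi, hni⟩ := h
      refine ⟨C8.erase i, Finset.erase_subset _ _, ?_, fun j hj => ?_⟩
      · rw [Finset.card_erase_of_mem hi]
        decide
      · obtain ⟨h1, h2⟩ := Finset.mem_erase.1 hj
        exact (R.one j h2 i hi h1).resolve_right hni
  obtain ⟨f, -, h1, h2, h3⟩ := coq_of R C hC hF
  exact ⟨_, h1, h2, h3.trans hcard⟩

/-- one of the classes 7, 9 is in `S` -/
theorem side (R : Row p k S) : Fl S (p ^ k) 7 ∨ Fl S (p ^ k) 9 :=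
  R.one 7 (by decide) 9 (by decide) (by decide)

end Cfsg.Agent.H627.E7
end

private theorem dce_454257ff201b : _root_.True := by
  try have : _root_.True := by simp only [_root_.Cfsg.Agent.H962.E7.TT.eq_1]
  try have : _root_.True := by simp only [_root_.Cfsg.Agent.H962.E7.C8.eq_1]
  try have : _root_.True := by simp only [_root_.Cfsg.Agent.H962.E7.NN.eq_1]
  try have : _root_.True := by simp only [_root_.Cfsg.Agent.H962.E7.C4.eq_1]
  exact _root_.True.intro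
end

-- part: H500/E7/Row_mg
section
prune_inst 0x10400000000000000000000002000000000000008000000002000200000000000000000000000000000000000000000000400000000000000400000000000088800460c10000000000000000000000000000020000000000000000000000000000000
set_option linter.all false
open scoped Cfsg.Agent.FastGrp

-- part: H500/E7/FE8
section
/-!
# Facts on `E₈(u)` used in S3482 (helper500; proved by helper962)
-/

set_option autoImplicit false

namespace Cfsg.Agent.H500.E7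

open Cfsg.Agent.H436

universe u

/-- the classes of the isolated tori of `E₈(u)` -/
def I8 : Finset ℕ := {15, 20, 24, 30}

/-- the value of a cyclotomic polynomial -/
noncomputable def Ph (i u : ℕ) : ℕ := ((Polynomial.cyclotomic i ℤ).eval (u : ℤ)).natAbs

/-- what is used of `S = E₈(u)`, `u` a power of `v` -/
structure FE8 (v u : ℕ) (S : Type*) [Group S] : Prop where
  /-- `r` divides `|E₇(u)|`, an element of order `r` centralises a root subgroup `SL₂(u)` -/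
  low : ∀ r : ℕ, r.Prime → r ∣ Nat.card S → r ≠ v → (∀ i ∈ I8, ¬ Prim u i r) →
    ∃ x : S, orderOf x = r ∧ ∀ n ∈ ({v, u - 1, u + 1} : Finset ℕ), ∃ y : S, orderOf y = n ∧ Commute x y
  vtwo : v ≠ 2 → ∃ x : S, orderOf x = 2 * v
  exi : ∀ i ∈ I8, ∃ x : S, orderOf x = Ph i u
  top : ∀ i ∈ I8, ∀ (x : S) (r : ℕ), Prim u i r → r ∣ orderOf x → orderOf x ∣ Ph i u

end Cfsg.Agent.H500.E7
end

-- part: H500/E7/Num
section
/-!
# Number theory for `E₈(u)` in S3482 (helper500)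

`F_i` (`i = 15, 20, 24, 30`) : `F_i (1 - 2 u² (u² - 1)) ≡ 1` modulo `u (u² - 1)²`.
-/

set_option autoImplicit false

namespace Cfsg.Agent.H500.E7

open Cfsg.Agent.H436

theorem mem_I8 {i : ℕ} : i ∈ I8 ↔ i = 15 ∨ i = 20 ∨ i = 24 ∨ i = 30 := by simp [I8]

theorem eval_20 (x : ℤ) : (Polynomial.cyclotomic 20 ℤ).eval x = x ^ 8 - x ^ 6 + x ^ 4 - x ^ 2 + 1 := by
  have h4 : ∀ y : ℤ, (Polynomial.cyclotomic 4 ℤ).eval y = y ^ 2 + 1 := by
    intro y
    rw [show (4 : ℕ) = 2 ^ (1 + 1) by norm_num, Polynomial.cyclotomic_prime_pow_eq_geom_sum Nat.prime_two]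
    simp only [Finset.sum_range_succ, _root_.pow_one, _root_.Finset.range_one, _root_.Finset.sum_singleton, _root_.pow_zero, _root_.Polynomial.eval_add, _root_.Polynomial.eval_one, _root_.Polynomial.eval_pow, _root_.Polynomial.eval_X]; ring
  have h := Cfsg.Agent.Lib.Zsigmondy.eval_cyclotomic_mul (r := 5) (m := 4) Nat.prime_five (by norm_num) x
  rw [h4, h4] at h
  have h0 : x ^ 2 + 1 ≠ 0 := by positivity
  apply mul_right_cancel₀ h0
  rw [show (20 : ℕ) = 4 * 5 by norm_num, ← h]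
  ring

variable {u : ℕ}

theorem cast15 (hu : 2 ≤ u) : ((Ph 15 u : ℕ) : ℤ) = (u : ℤ) ^ 8 - (u : ℤ) ^ 7 + (u : ℤ) ^ 5 - (u : ℤ) ^ 4 + (u : ℤ) ^ 3 -
    (u : ℤ) + 1 := (Cfsg.Agent.H416.Arith.cast_c 15 hu).trans (Cfsg.Agent.H416.Arith.eval_15 _)

theorem cast20 (hu : 2 ≤ u) : ((Ph 20 u : ℕ) : ℤ) = (u : ℤ) ^ 8 - (u : ℤ) ^ 6 + (u : ℤ) ^ 4 - (u : ℤ) ^ 2 + 1 :=
  (Cfsg.Agent.H416.Arith.cast_c 20 hu).trans (eval_20 _)

theorem cast24 (hu : 2 ≤ u) : ((Ph 24 u : ℕ) : ℤ) = (u : ℤ) ^ 8 - (u : ℤ) ^ 4 + 1 :=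
  (Cfsg.Agent.H416.Arith.cast_c 24 hu).trans (Cfsg.Agent.H416.Arith.eval_24 _)

theorem cast30 (hu : 2 ≤ u) : ((Ph 30 u : ℕ) : ℤ) = (u : ℤ) ^ 8 + (u : ℤ) ^ 7 - (u : ℤ) ^ 5 - (u : ℤ) ^ 4 - (u : ℤ) ^ 3 +
    (u : ℤ) + 1 := (Cfsg.Agent.H416.Arith.cast_c 30 hu).trans (Cfsg.Agent.H416.Arith.eval_30 _)

/-- the modulus -/
def MM (x : ℤ) : ℤ := x * (x ^ 2 - 1) ^ 2

/-- the inverse of `F_i` modulo `MM` -/
def ee (x : ℤ) : ℤ := 1 - 2 * x ^ 2 * (x ^ 2 - 1)

theorem Ph_mul {i : ℕ} (hi : i ∈ I8) (hu : 2 ≤ u) : ∃ h : ℤ, (Ph i u : ℤ) * ee u = 1 + MM u * h := by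
  rw [mem_I8] at hi
  unfold ee MM
  rcases hi with rfl | rfl | rfl | rfl
  · exact ⟨-2 * (u : ℤ) ^ 7 + 2 * (u : ℤ) ^ 6 - 2 * (u : ℤ) ^ 5 + (u : ℤ) ^ 3 - 3 * (u : ℤ) ^ 2 + 2 * (u : ℤ) - 1, by
      rw [cast15 hu]; ring⟩
  · exact ⟨-2 * (u : ℤ) ^ 7 - (u : ℤ) ^ 3 + (u : ℤ), by rw [cast20 hu]; ring⟩
  · exact ⟨-2 * (u : ℤ) ^ 7 - 2 * (u : ℤ) ^ 5 + (u : ℤ) ^ 3 + 2 * (u : ℤ), by rw [cast24 hu]; ring⟩
  · exact ⟨-2 * (u : ℤ) ^ 7 - 2 * (u : ℤ) ^ 6 - 2 * (u : ℤ) ^ 5 + (u : ℤ) ^ 3 + 3 * (u : ℤ) ^ 2 + 2 * (u : ℤ) + 1, by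
      rw [cast30 hu]; ring⟩

/-- **the congruence** -/
theorem key {a c : ℕ} (ha : a ∈ I8) (hc : c ∈ I8) (hu : 2 ≤ u) {X Z δ : ℤ}
    (h : X * (Ph a u : ℤ) - Z * (Ph c u : ℤ) = δ) : ∃ t : ℤ, X - Z = δ * ee u + MM u * t := by
  obtain ⟨s, hs⟩ := Ph_mul ha hu
  obtain ⟨t, ht⟩ := Ph_mul hc hu
  refine ⟨Z * t - X * s, ?_⟩
  have h1 : X * ((Ph a u : ℤ) * ee u) - Z * ((Ph c u : ℤ) * ee u) = δ * ee u := by rw [← h]; ring
  rw [hs, ht] at h1
  linarith only [h1]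

theorem Ph_bd {i : ℕ} (hi : i ∈ I8) (hu : 2 ≤ u) :
    (u : ℤ) ^ 7 * ((u : ℤ) - 1) ≤ (Ph i u : ℤ) ∧ (Ph i u : ℤ) ≤ (u : ℤ) ^ 7 * ((u : ℤ) + 1) := by
  have h1 : (2 : ℤ) ≤ u := by exact_mod_cast hu
  obtain ⟨t, ht⟩ : ∃ t : ℕ, u = t + 2 := ⟨u - 2, by omega⟩
  have ht' : (u : ℤ) = (t : ℤ) + 2 := by rw [ht]; push_cast; ring
  have ht0 : (0 : ℤ) ≤ t := Int.natCast_nonneg t
  rw [mem_I8] at hi
  rcases hi with rfl | rfl | rfl | rfl
  · rw [cast15 hu, ht']
    constructor <;> (rw [← sub_nonneg]; ring_nf; (clear * -; positivity))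
  · rw [cast20 hu, ht']
    constructor <;> (rw [← sub_nonneg]; ring_nf; (clear * -; positivity))
  · rw [cast24 hu, ht']
    constructor <;> (rw [← sub_nonneg]; ring_nf; (clear * -; positivity))
  · rw [cast30 hu, ht']
    constructor <;> (rw [← sub_nonneg]; ring_nf; (clear * -; positivity))

/-- lower bounds -/
theorem low_one {x n t : ℤ} (hx : 5 ≤ x) (h : n = ee x + MM x * t) : 2 * x ^ 2 * (x ^ 2 - 1) - 1 ≤ |n| := by
  have h2 : 25 ≤ x ^ 2 := by nlinarith only [hx]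
  have h3 : 0 ≤ x * (x ^ 2 - 1) := by nlinarith only [hx]
  rcases le_or_gt t 0 with ht | ht
  · have h4 : n ≤ ee x := by
      rw [h]
      have : MM x * t ≤ 0 := by
        refine mul_nonpos_of_nonneg_of_nonpos ?_ ht
        unfold MM
        positivity
      linarith
    have h5 := neg_abs_le n
    unfold ee at h4
    linarith
  · have h4 : ee x + MM x ≤ n := by
      rw [h]
      have : MM x * 1 ≤ MM x * t := by
        refine mul_le_mul_of_nonneg_left (by omega) ?_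
        unfold MM
        positivity
      linarith
    have h5 := le_abs_self n
    have h6 : 2 * x ^ 2 * (x ^ 2 - 1) - 1 ≤ ee x + MM x := by
      unfold ee MM
      have h7 : 0 ≤ (x * (x ^ 2 - 1)) * (x ^ 2 - 4 * x - 1) := by
        refine mul_nonneg h3 ?_
        nlinarith only [h2]
      linarith only [h7]
    linarith

theorem low_two {x n t : ℤ} (hx : 7 ≤ x) (h : n = 2 * ee x + MM x * t) : 2 * x ^ 4 ≤ |n| := by
  have h2 : 49 ≤ x ^ 2 := by nlinarith only [hx]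
  have h3 : 0 ≤ x * (x ^ 2 - 1) := by nlinarith only [hx]
  rcases le_or_gt t 0 with ht | ht
  · have h4 : n ≤ 2 * ee x := by
      rw [h]
      have : MM x * t ≤ 0 := by
        refine mul_nonpos_of_nonneg_of_nonpos ?_ ht
        unfold MM
        positivity
      linarith
    have h5 := neg_abs_le n
    unfold ee at h4
    nlinarith only [h2, h4, h5]
  · have h4 : 2 * ee x + MM x ≤ n := by
      rw [h]
      have : MM x * 1 ≤ MM x * t := by
        refine mul_le_mul_of_nonneg_left (by omega) ?_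
        unfold MM
        (clear * - hx; positivity)
      linarith
    have h5 := le_abs_self n
    have h6 : 2 * x ^ 4 ≤ 2 * ee x + MM x := by
      unfold ee MM
      obtain ⟨t, rfl⟩ : ∃ t : ℤ, x = t + 7 := ⟨x - 7, by ring⟩
      have ht : 0 ≤ t := by linarith
      rw [← sub_nonneg]
      ring_nf
      (clear * - ht; positivity)
    linarith

theorem low_three {n t : ℤ} (h : n = 2 * ee 3 + MM 3 * t) : 94 ≤ |n| := by
  unfold ee MM at h
  norm_num at h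
  rw [le_abs]
  omega

theorem low_five {n t : ℤ} (h : n = 2 * ee 5 + MM 5 * t) : 482 ≤ |n| := by
  unfold ee MM at h
  norm_num at h
  rw [le_abs]
  omega

/-- the final contradiction -/
theorem fin_one {q x : ℤ} (hx : 6 ≤ x) (h1 : 2 * x ^ 4 ≤ 7 * (q + 1)) (h2 : q ^ 6 ≤ 8 * (x ^ 7 * (x + 1))) : False := by
  have h4 : 1296 ≤ x ^ 4 := by
    have : (6 : ℤ) ^ 4 ≤ x ^ 4 := by gcongr
    linarith
  have h3 : x ^ 4 ≤ 4 * q := by linarith
  have h5 : 324 ≤ q := by linarith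
  have h6 : 8 * (x ^ 7 * (x + 1)) ≤ 16 * (x ^ 4 * x ^ 4) := by
    have h7 : 0 ≤ x ^ 7 := by positivity
    have h8 : x + 1 ≤ 2 * x := by linarith
    linarith only [mul_le_mul_of_nonneg_left h8 h7]
  have h7 : x ^ 4 * x ^ 4 ≤ (4 * q) * (4 * q) := by
    apply mul_le_mul h3 h3 (by positivity) (by linarith)
  have h8 : q ^ 6 ≤ 256 * q ^ 2 := by linarith only [h2, h6, h7]
  have h9 : (324 : ℤ) ^ 4 ≤ q ^ 4 := by gcongr
  have h10 : 0 < q ^ 2 := by positivity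
  have h11 : q ^ 6 = q ^ 4 * q ^ 2 := by ring
  rw [h11] at h8
  have h12 : q ^ 4 ≤ 256 := by
    by_contra hlt
    push Not at hlt
    nlinarith only [h2, h6, h7, h9]
  norm_num at h9
  linarith

/-- `j = 9` -/
theorem fin_nine {q A B Fb Fc x : ℤ} (hx : 6 ≤ x) (hq : 13 ≤ q) (hB : 0 ≤ B)
    (hb : x ^ 7 * (x - 1) ≤ Fb ∧ Fb ≤ x ^ 7 * (x + 1)) (hc : x ^ 7 * (x - 1) ≤ Fc ∧ Fc ≤ x ^ 7 * (x + 1))
    (h : A * Fb - B * Fc = 1) (hL : 2 * x ^ 2 * (x ^ 2 - 1) - 1 ≤ |A - B|)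
    (hBF : 2 * (B * Fc) ≤ q ^ 9) (hF : q ^ 6 - q ^ 3 + 1 ≤ 3 * Fb) : False := by
  obtain ⟨L, hLdef⟩ : ∃ L, L = 2 * x ^ 2 * (x ^ 2 - 1) - 1 := ⟨_, rfl⟩
  rw [← hLdef] at hL
  have hx2 : 36 ≤ x ^ 2 := by nlinarith only [hx]
  have hL0 : 0 ≤ L := by
    rw [hLdef]
    nlinarith only [hx2]
  have hx7 : 0 < x ^ 7 := by positivity
  have hFb0 : 0 ≤ Fb := le_trans (mul_nonneg hx7.le (by linarith)) hb.1
  -- `L (x - 1) ≤ 2 B`
  have h1 : |A - B| * Fb ≤ 1 + B * (2 * x ^ 7) := by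
    have e1 : (A - B) * Fb = 1 + B * (Fc - Fb) := by linarith
    have e2 : |A - B| * Fb = |(A - B) * Fb| := by rw [abs_mul, abs_of_nonneg hFb0]
    rw [e2, e1]
    have e3 : |Fc - Fb| ≤ 2 * x ^ 7 := by
      rw [abs_le]
      constructor <;> linarith only [hb.1, hb.2, hc.1, hc.2]
    calc |1 + B * (Fc - Fb)| ≤ |1| + |B * (Fc - Fb)| := abs_add_le _ _
      _ = 1 + B * |Fc - Fb| := by rw [abs_one, abs_mul, abs_of_nonneg hB]
      _ ≤ _ := by linarith [mul_le_mul_of_nonneg_left e3 hB]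
  have h2 : L * (x - 1) ≤ 2 * B := by
    have e1 : L * (x ^ 7 * (x - 1)) ≤ 1 + B * (2 * x ^ 7) := by
      calc L * (x ^ 7 * (x - 1)) ≤ |A - B| * Fb :=
            mul_le_mul hL hb.1 (mul_nonneg hx7.le (by linarith)) (abs_nonneg _)
        _ ≤ _ := h1
    have e2 : x ^ 7 * (L * (x - 1) - 2 * B) ≤ 1 := by linarith
    by_contra hlt
    push Not at hlt
    have e3 : x ^ 7 * 1 ≤ x ^ 7 * (L * (x - 1) - 2 * B) := mul_le_mul_of_nonneg_left (by omega) hx7.le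
    have e4 : (6 : ℤ) ^ 7 ≤ x ^ 7 := by gcongr
    norm_num at e4
    linarith
  -- `L (x - 1)² x ^ 7 ≤ q ^ 9`
  have h3 : L * (x - 1) * (x ^ 7 * (x - 1)) ≤ q ^ 9 := by
    have e0 : 0 ≤ x ^ 7 * (x - 1) := mul_nonneg hx7.le (by linarith)
    calc L * (x - 1) * (x ^ 7 * (x - 1)) ≤ 2 * B * (x ^ 7 * (x - 1)) := mul_le_mul_of_nonneg_right h2 e0
      _ ≤ 2 * B * Fc := mul_le_mul_of_nonneg_left hc.1 (by linarith)
      _ = 2 * (B * Fc) := by ring
      _ ≤ q ^ 9 := hBF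
  have hq0 : 0 ≤ q := by linarith
  have h4 : 1000 * q ^ 6 ≤ 3002 * (x ^ 7 * (x + 1)) := by
    have e1 : (13 : ℤ) ^ 3 ≤ q ^ 3 := by gcongr
    norm_num at e1
    have e2 : q ^ 6 = q ^ 3 * q ^ 3 := by ring
    have e3 : 2197 * q ^ 3 ≤ q ^ 3 * q ^ 3 := mul_le_mul_of_nonneg_right e1 (by positivity)
    have e4 := hb.2
    linarith only [hb, hF, e1, e3]
  have h5 : (L * (x - 1) * (x ^ 7 * (x - 1))) ^ 2 ≤ (q ^ 6) ^ 3 := by
    have e1 : (q ^ 6) ^ 3 = (q ^ 9) ^ 2 := by ring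
    rw [e1]
    have e2 : 0 ≤ L * (x - 1) * (x ^ 7 * (x - 1)) := by
      have : 0 ≤ x - 1 := by linarith
      (clear * - hx hL0 this; positivity)
    exact pow_le_pow_left₀ e2 h3 2
  have h6 : (1000 * q ^ 6) ^ 3 ≤ (3002 * (x ^ 7 * (x + 1))) ^ 3 := pow_le_pow_left₀ (by positivity) h4 3
  have h7 : x ^ 14 * ((L * (x - 1) ^ 2) ^ 2) ≤ x ^ 14 * (28 * (x ^ 7 * (x + 1) ^ 3)) := by
    have e1 : x ^ 14 * ((L * (x - 1) ^ 2) ^ 2) = (L * (x - 1) * (x ^ 7 * (x - 1))) ^ 2 := by ring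
    have e2 : x ^ 14 * (28 * (x ^ 7 * (x + 1) ^ 3)) = 28 * (x ^ 7 * (x + 1)) ^ 3 := by ring
    rw [e1, e2]
    have e3 : 0 ≤ (x ^ 7 * (x + 1)) ^ 3 := by positivity
    have e4 : (1000 * q ^ 6) ^ 3 = 1000000000 * (q ^ 6) ^ 3 := by ring
    have e5 : (3002 * (x ^ 7 * (x + 1))) ^ 3 = 27054036008 * (x ^ 7 * (x + 1)) ^ 3 := by ring
    rw [e4, e5] at h6
    linarith
  have h8 : (L * (x - 1) ^ 2) ^ 2 ≤ 28 * (x ^ 7 * (x + 1) ^ 3) := le_of_mul_le_mul_left h7 (by positivity)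
  rw [hLdef] at h8
  obtain ⟨t, rfl⟩ : ∃ t : ℤ, x = t + 6 := ⟨x - 6, by ring⟩
  have ht : 0 ≤ t := by linarith
  have h9 : 0 < ((2 * (t + 6) ^ 2 * ((t + 6) ^ 2 - 1) - 1) * (t + 6 - 1) ^ 2) ^ 2 - 28 * ((t + 6) ^ 7 * (t + 6 + 1) ^ 3) := by
    ring_nf
    (clear * - ht; positivity)
  linarith only [h8, h9]

end Cfsg.Agent.H500.E7
end

-- part: H500/E7/Grp
section
/-!
# S3482, R10 : `S = E₈(u)`, the classes 7, 9, 14, 18 of `q` (helper500)
-/

set_option autoImplicit false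

namespace Cfsg.Agent.H500.E7

open Cfsg.Agent.H436 Cfsg.Agent.H962.E7 Cfsg.Agent.H627.E7

universe w

/-! ### tori of `E₇(q)` -/

/-- `TT q i = NN q i * C` with `C ≤ 7 (q + 1) / 2`, resp. `7 (q + 1)` -/
theorem TT_two {q : ℕ} (hq : 2 ≤ q) (ho : q % 2 = 1) :
    2 * TT q 7 = q ^ 7 - 1 ∧ 2 * TT q 9 = (q - 1) * (q ^ 6 + q ^ 3 + 1) ∧ 2 * TT q 14 = q ^ 7 + 1 ∧
      2 * TT q 18 = (q + 1) * (q ^ 6 - q ^ 3 + 1) := by
  have e : Nat.gcd 2 (q - 1) = 2 := Nat.gcd_eq_left (by omega)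
  obtain ⟨a, rfl⟩ : ∃ a, q = 2 * a + 1 := ⟨q / 2, by omega⟩
  have h1 : 1 ≤ (2 * a + 1) ^ 7 := Nat.one_le_pow _ _ (by omega)
  have h7 : 2 ∣ (2 * a + 1) ^ 7 - 1 := by
    have h2 := Nat.sub_dvd_pow_sub_pow (2 * a + 1) 1 7
    rw [one_pow, Nat.add_sub_cancel] at h2
    exact (Dvd.intro _ rfl).trans h2
  refine ⟨?_, ?_, ?_, ?_⟩
  · rw [TT, if_pos rfl, e]
    exact Nat.mul_div_cancel' h7
  · rw [TT, if_neg (by norm_num), if_pos rfl, e]
    refine Nat.mul_div_cancel' (Dvd.dvd.mul_right ?_ _)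
    rw [Nat.add_sub_cancel]
    exact Dvd.intro _ rfl
  · rw [TT, if_neg (by norm_num), if_neg (by norm_num), if_pos rfl, e]
    refine Nat.mul_div_cancel' ?_
    have h2 : (2 * a + 1) ^ 7 + 1 = ((2 * a + 1) ^ 7 - 1) + 2 := by omega
    rw [h2]
    exact (Nat.dvd_add_right h7).2 (dvd_refl 2)
  · rw [TT, if_neg (by norm_num), if_neg (by norm_num), if_neg (by norm_num), if_pos rfl, e]
    refine Nat.mul_div_cancel' (Dvd.dvd.mul_right ?_ _)
    exact ⟨a + 1, by ring⟩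

theorem TT_one {q : ℕ} (hq : 2 ≤ q) (ho : q % 2 = 0) :
    TT q 7 = q ^ 7 - 1 ∧ TT q 14 = q ^ 7 + 1 := by
  have e : Nat.gcd 2 (q - 1) = 1 := by
    have h1 : ¬ 2 ∣ q - 1 := by omega
    exact (Nat.Prime.coprime_iff_not_dvd Nat.prime_two).2 h1
  refine ⟨?_, ?_⟩
  · rw [TT, if_pos rfl, e, Nat.div_one]
  · rw [TT, if_neg (by norm_num), if_neg (by norm_num), if_pos rfl, e, Nat.div_one]

/-- `NN` -/
theorem NN_mul {q : ℕ} (hq : 2 ≤ q) :
    (∃ g, 1 ≤ g ∧ g ≤ 7 ∧ NN q 7 * ((q - 1) * g) = q ^ 7 - 1) ∧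
      (∃ g, 1 ≤ g ∧ g ≤ 3 ∧ NN q 9 * g = q ^ 6 + q ^ 3 + 1) ∧
      (∃ g, 1 ≤ g ∧ g ≤ 7 ∧ NN q 14 * ((q + 1) * g) = q ^ 7 + 1) ∧
      (∃ g, 1 ≤ g ∧ g ≤ 3 ∧ NN q 18 * g = q ^ 6 - q ^ 3 + 1) := by
  have hq1 : 1 ≤ q := by omega
  have key : ∀ e, e ∈ C4 → ∃ g, 1 ≤ g ∧ g ≤ H563.KG.cc e ∧ NN q e * g = H563.KG.Ph e q := by
    intro e he
    have hc : 0 < H563.KG.cc e := by
      rw [mem_C4] at he
      rcases he with rfl | rfl | rfl | rfl <;> decide
    refine ⟨Nat.gcd (H563.KG.cc e) (H563.KG.Ph e q), Nat.gcd_pos_of_pos_left _ hc, Nat.gcd_le_left _ hc, ?_⟩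
    rw [NN_eq_ncl he hq]
    exact Nat.div_mul_cancel (Nat.gcd_dvd_right _ _)
  refine ⟨?_, ?_, ?_, ?_⟩
  · obtain ⟨g, h1, h2, h3⟩ := key 7 (by decide)
    refine ⟨g, h1, h2, ?_⟩
    rw [← Ph7_mul hq1, ← h3]
    ring
  · obtain ⟨g, h1, h2, h3⟩ := key 9 (by decide)
    exact ⟨g, h1, h2, h3⟩
  · obtain ⟨g, h1, h2, h3⟩ := key 14 (by decide)
    refine ⟨g, h1, h2, ?_⟩
    rw [← Ph14_mul hq1, ← h3]
    ring
  · obtain ⟨g, h1, h2, h3⟩ := key 18 (by decide)
    refine ⟨g, h1, h2, ?_⟩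
    rw [h3]
    have h1 := Nat.pow_le_pow_right hq1 (show 3 ≤ 6 by norm_num)
    change (q ^ 6 + 1) - q ^ 3 = _
    omega

/-! ### groups -/

variable {p k v u : ℕ} {S : Type w} [Group S] [Finite S]

/-- `w` is a prime of one of the isolated classes -/
def Iso8 (u w : ℕ) : Prop := ∃ a ∈ I8, Prim u a w

theorem prim_dvd_Ph {a w : ℕ} (hu : 2 ≤ u) (ha : a ∈ I8) (h : Prim u a w) : w ∣ Ph a u := by
  have ha0 : 0 < a := by
    rw [mem_I8] at ha
    omega
  have h1 := h.dvd (dvd_refl a)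
  rw [← Cfsg.Agent.H416.Arith.prod_c ha0 hu, h.prime.prime.dvd_finset_prod_iff] at h1
  obtain ⟨d, hd, hw⟩ := h1
  have hd' := Nat.mem_divisors.1 hd
  have hd0 : 0 < d := Nat.pos_of_mem_divisors hd
  have h2 := hw.trans (Cfsg.Agent.H416.Arith.c_dvd hd0 hu (dvd_refl d))
  have h3 := (h.dvd_iff d).1 h2
  have h4 := Nat.dvd_antisymm hd'.1 h3
  rw [h4] at hw
  exact hw

theorem exists_mul {G : Type*} [Group G] [Finite G] {x : G} {r s : ℕ} (hr : r.Prime) (hs : s.Prime) (hrs : r ≠ s)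
    (h1 : r ∣ orderOf x) (h2 : s ∣ orderOf x) : ∃ z : G, orderOf z = r * s := by
  obtain ⟨m, hm⟩ := Nat.Coprime.mul_dvd_of_dvd_of_dvd ((Nat.coprime_primes hr hs).2 hrs) h1 h2
  have h0 : 0 < orderOf x := orderOf_pos x
  have hm0 : m ≠ 0 := by
    rintro rfl
    rw [mul_zero] at hm
    omega
  refine ⟨x ^ m, ?_⟩
  rw [orderOf_pow_of_dvd hm0 (by rw [hm]; exact dvd_mul_left _ _), hm, Nat.mul_div_cancel _ (Nat.pos_of_ne_zero hm0)]

theorem exists_mul_of_comm {G : Type*} [Group G] [Finite G] {x y : G} {r s n : ℕ} (hr : r.Prime) (hs : s.Prime)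
    (hrs : r ≠ s) (hx : orderOf x = r) (hy : orderOf y = n) (hsn : s ∣ n) (hc : Commute x y) :
    ∃ z : G, orderOf z = r * s := by
  have h0 : 0 < orderOf y := orderOf_pos y
  obtain ⟨m, hm⟩ := hsn
  have hm0 : m ≠ 0 := by
    rintro rfl
    rw [mul_zero] at hm
    omega
  have h1 : orderOf (y ^ m) = s := by
    rw [orderOf_pow_of_dvd hm0 (by rw [hy, hm]; exact dvd_mul_left _ _), hy, hm,
      Nat.mul_div_cancel _ (Nat.pos_of_ne_zero hm0)]
  refine ⟨x * y ^ m, ?_⟩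
  rw [(hc.pow_right m).orderOf_mul_eq_mul_orderOf_of_coprime (by rw [hx, h1]; exact (Nat.coprime_primes hr hs).2 hrs),
    hx, h1]

/-- the primes which are not isolated -/
theorem low_mul (E : FE8 v u S) {r s : ℕ} (hr : r.Prime) (hrS : r ∣ Nat.card S) (hrv : r ≠ v) (hri : ¬ Iso8 u r)
    (hs : s.Prime) (hsv : s ∣ v ∨ s ∣ u - 1 ∨ s ∣ u + 1) (hsr : r ≠ s) : ∃ z : S, orderOf z = r * s := by
  obtain ⟨x, hx, hy⟩ := E.low r hr hrS hrv fun i hi h => hri ⟨i, hi, h⟩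
  rcases hsv with h | h | h
  · obtain ⟨y, hy1, hy2⟩ := hy v (by simp)
    exact exists_mul_of_comm hr hs hsr hx hy1 h hy2
  · obtain ⟨y, hy1, hy2⟩ := hy (u - 1) (by simp)
    exact exists_mul_of_comm hr hs hsr hx hy1 h hy2
  · obtain ⟨y, hy1, hy2⟩ := hy (u + 1) (by simp)
    exact exists_mul_of_comm hr hs hsr hx hy1 h hy2

/-- primes not adjacent to 2 are isolated -/
theorem iso_of_nadj (E : FE8 v u S) (hv : v.Prime) (hu : ∃ f, 1 ≤ f ∧ u = v ^ f) {r : ℕ} (hr : r.Prime)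
    (hrS : r ∣ Nat.card S) (hr2 : r ≠ 2) (h : ¬ ∃ x : S, orderOf x = 2 * r) : Iso8 u r := by
  by_contra hi
  by_cases hrv : r = v
  · subst hrv
    exact h (E.vtwo hr2)
  · have h2 : 2 ∣ v ∨ 2 ∣ u - 1 ∨ 2 ∣ u + 1 := by
      rcases hv.eq_two_or_odd with h1 | h1
      · left; rw [h1]
      · right; left
        obtain ⟨f, -, rfl⟩ := hu
        have h3 : v ^ f % 2 = 1 := by rw [Nat.pow_mod, h1, one_pow]; rfl
        omega
    obtain ⟨z, hz⟩ := low_mul E hr hrS hrv hi Nat.prime_two h2 hr2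
    exact h ⟨z, by rw [hz, mul_comm]⟩

/-- the order of the torus of `E₈(u)` -/
theorem tor_dvd (R : Row p k S) (E : FE8 v u S) (hu2 : 2 ≤ u) {i a r : ℕ} (hi : i ∈ C4) (hr : Prim (p ^ k) i r) (ha : a ∈ I8)
    (hra : Prim u a r) : Ph a u ∣ TT (p ^ k) i := by
  obtain ⟨x, hx⟩ := E.exi a ha
  rw [← hx]
  refine R.tor i hi x r hr ?_
  rw [hx]
  exact prim_dvd_Ph hu2 ha hra

theorem NN_dvd (R : Row p k S) (E : FE8 v u S) {i a r : ℕ} (hi : i ∈ C4) (hr : Prim (p ^ k) i r) (hF : Fl S (p ^ k) i)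
    (ha : a ∈ I8) (hra : Prim u a r) : NN (p ^ k) i ∣ Ph a u := by
  obtain ⟨x, hx⟩ := hF.elt hi
  rw [← hx]
  refine E.top a ha x r hra ?_
  rw [hx]
  exact dvd_NN hi (two_le R) hr

theorem ne_class (R : Row p k S) (E : FE8 v u S) (hu2 : 2 ≤ u) {i j a r s : ℕ} (hi : i ∈ C8) (hj : j ∈ C8) (hij : i ≠ j)
    (hr : Prim (p ^ k) i r) (hs : Prim (p ^ k) j s) (ha : a ∈ I8) (hra : Prim u a r) (hsa : Prim u a s) : False := by
  obtain ⟨x, hx⟩ := E.exi a ha
  refine R.nad i hi j hj hij r s hr hs ?_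
  refine exists_mul hr.prime hs.prime ?_ (x := x) ?_ ?_
  · rintro rfl
    exact hij (hr.unique hs)
  · rw [hx]; exact prim_dvd_Ph hu2 ha hra
  · rw [hx]; exact prim_dvd_Ph hu2 ha hsa

theorem abs_sub_le' {X Z C : ℤ} (h1 : 0 ≤ X) (h2 : X ≤ C) (h3 : 0 ≤ Z) (h4 : Z ≤ C) : |X - Z| ≤ C := by
  rw [abs_le]
  constructor <;> linarith only [h1, h4, h2, h3]

/-- **`p = 2`** -/
theorem row_two (R : Row p k S) (E : FE8 v u S) (hv : v.Prime) (hu : ∃ f, 1 ≤ f ∧ u = v ^ f) (hpv : p ≠ v)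
    (hp2 : p = 2) : False := by
  have hq2 := two_le R
  have hqe := q_even R hp2
  obtain ⟨q, hq⟩ : ∃ q, q = p ^ k := ⟨_, rfl⟩
  have hv3 : 3 ≤ v := by
    have := hv.two_le
    omega
  have hodd : v % 2 = 1 := by
    rcases hv.eq_two_or_odd with h1 | h1
    · exact absurd (hp2.trans h1.symm) hpv
    · exact h1
  have huo : u % 2 = 1 := by
    obtain ⟨f, -, rfl⟩ := hu
    rw [Nat.pow_mod, hodd, one_pow]; rfl
  have hu3 : 3 ≤ u := by
    obtain ⟨f, hf, rfl⟩ := hu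
    exact hv3.trans (Nat.le_self_pow (by omega) v)
  have hu2 : 2 ≤ u := by omega
  obtain ⟨r, hr⟩ := exists_prim8 (i := 14) (by decide) hq2
  obtain ⟨s, hs⟩ := exists_prim8 (i := 7) (by decide) hq2
  have hF14 := fl R (i := 14) (by decide) (Or.inl hp2)
  have hF7 := fl R (i := 7) (by decide) (Or.inl hp2)
  obtain ⟨a, ha, hra⟩ := iso_of_nadj E hv hu hr.prime (hF14.dvd r hr) (by
    have := three_lt (i := 14) (by decide) hq2 hr
    omega) (nadj_two R (by decide) (Or.inl hp2) hr)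
  obtain ⟨c, hc, hsc⟩ := iso_of_nadj E hv hu hs.prime (hF7.dvd s hs) (by
    have := three_lt (i := 7) (by decide) hq2 hs
    omega) (nadj_two R (by decide) (Or.inl hp2) hs)
  obtain ⟨X, hX⟩ := tor_dvd R E hu2 (i := 14) (by decide) hr ha hra
  obtain ⟨Z, hZ⟩ := tor_dvd R E hu2 (i := 7) (by decide) hs hc hsc
  have hNa := NN_dvd R E (i := 14) (by decide) hr hF14 ha hra
  have hNc := NN_dvd R E (i := 7) (by decide) hs hF7 hc hsc
  rw [← hq] at hX hZ hNa hNc hq2 hqe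
  obtain ⟨hT7, hT14⟩ := TT_one hq2 hqe
  obtain ⟨⟨g7, g71, g72, g73⟩, -, ⟨g14, g141, g142, g143⟩, -⟩ := NN_mul hq2
  have hPa : 0 < Ph a u := Cfsg.Agent.H416.Arith.c_pos a hu2
  have hPc : 0 < Ph c u := Cfsg.Agent.H416.Arith.c_pos c hu2
  have hq7 : 1 ≤ q ^ 7 := Nat.one_le_pow _ _ (by omega)
  have hNap : 0 < NN q 14 := NN_pos (by decide) hq2
  have hNcp : 0 < NN q 7 := NN_pos (by decide) hq2
  -- bounds for `X`, `Z`
  have hXb : X ≤ 7 * (q + 1) := by
    have h1 : NN q 14 * X ≤ NN q 14 * ((q + 1) * g14) := by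
      rw [g143, ← hT14, hX]
      exact Nat.mul_le_mul_right _ (Nat.le_of_dvd hPa hNa)
    have h2 := Nat.le_of_mul_le_mul_left h1 hNap
    nlinarith only [g142, h2]
  have hZb : Z ≤ 7 * (q + 1) := by
    have h1 : NN q 7 * Z ≤ NN q 7 * ((q - 1) * g7) := by
      rw [g73, ← hT7, hZ]
      exact Nat.mul_le_mul_right _ (Nat.le_of_dvd hPc hNc)
    have h2 := Nat.le_of_mul_le_mul_left h1 hNcp
    have h3 : (q - 1) * g7 ≤ (q + 1) * 7 := Nat.mul_le_mul (by omega) g72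
    omega
  have heq : (X : ℤ) * (Ph a u : ℤ) - (Z : ℤ) * (Ph c u : ℤ) = 2 := by
    have h1 : ((Ph a u * X : ℕ) : ℤ) = ((q ^ 7 + 1 : ℕ) : ℤ) := by rw [← hX, hT14]
    have h2 : ((Ph c u * Z : ℕ) : ℤ) = ((q ^ 7 - 1 : ℕ) : ℤ) := by rw [← hZ, hT7]
    rw [Nat.cast_sub hq7] at h2
    push_cast at h1 h2
    linarith only [hX, hT14, h2]
  obtain ⟨t, ht⟩ := key ha hc hu2 heq
  have habs : |(X : ℤ) - Z| ≤ 7 * ((q : ℤ) + 1) :=
    abs_sub_le' (Int.natCast_nonneg _) (by exact_mod_cast hXb) (Int.natCast_nonneg _) (by exact_mod_cast hZb)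
  have hbd := (Ph_bd ha hu2).2
  have hq6 : 7 ≤ q → (q : ℤ) ^ 6 ≤ 8 * ((u : ℤ) ^ 7 * ((u : ℤ) + 1)) := by
    intro h7
    have h1 := q_le (i := 14) (Or.inl rfl) h7
    have h2 := Nat.le_of_dvd hPa hNa
    have h3 : q ^ 6 ≤ 8 * Ph a u := h1.trans (Nat.mul_le_mul_left _ h2)
    have h4 : (q : ℤ) ^ 6 ≤ 8 * (Ph a u : ℤ) := by exact_mod_cast h3
    linarith only [hbd, h1, h2]
  have hcases : u = 3 ∨ u = 5 ∨ 7 ≤ u := by (clear * - huo hu3; omega)
  rcases hcases with rfl | rfl | hu7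
  · have h1 := low_three (n := (X : ℤ) - Z) (t := t) (by rw [ht]; norm_num)
    have h2 : (13 : ℤ) ≤ q := by linarith only [habs, h1]
    have h3 := hq6 (by have : (13 : ℤ) ≤ q := h2; omega)
    have h4 : (13 : ℤ) ^ 6 ≤ (q : ℤ) ^ 6 := by gcongr
    norm_num at h3 h4
    linarith only [h3, h4]
  · have h1 := low_five (n := (X : ℤ) - Z) (t := t) (by rw [ht]; norm_num)
    have h2 : (60 : ℤ) ≤ q := by linarith only [habs, h1]
    have h3 := hq6 (by have : (60 : ℤ) ≤ q := h2; omega)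
    have h4 : (60 : ℤ) ^ 6 ≤ (q : ℤ) ^ 6 := by gcongr
    norm_num at h3 h4
    linarith only [h3, h4]
  · have hx : (7 : ℤ) ≤ u := by exact_mod_cast hu7
    have h1 := low_two hx ht
    have h2 : 2 * (u : ℤ) ^ 4 ≤ 7 * ((q : ℤ) + 1) := h1.trans habs
    have h4 : (7 : ℤ) ^ 4 ≤ (u : ℤ) ^ 4 := by gcongr
    norm_num at h4
    have h3 : (7 : ℤ) ≤ q := by linarith only [habs, h1, h4]
    exact fin_one (by linarith only [hu7]) h2 (hq6 (by omega))

end Cfsg.Agent.H500.E7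
end

-- part: H500/E7/Row
section
/-!
# S3482, R10 : `S = E₈(u)` in characteristic `≠ p` (helper500)

* `row_of` : the row, given the facts `FE8`.
-/

set_option autoImplicit false

namespace Cfsg.Agent.H500.E7

open Cfsg.Agent.H436 Cfsg.Agent.H962.E7 Cfsg.Agent.H627.E7

universe w

variable {p k v u : ℕ} {S : Type w} [Group S] [Finite S]

/-- another class which is not isolated -/
theorem exists_other (R : Row p k S) (E : FE8 v u S) (hu2 : 2 ≤ u) {j : ℕ} (hj : j ∈ C8) :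
    ∃ i ∈ C8, i ≠ j ∧ ∃ r, Prim (p ^ k) i r ∧ r ∣ Nat.card S ∧ ¬ Iso8 u r := by
  classical
  by_contra hcon
  push Not at hcon
  obtain ⟨C, hC, hcard, hF⟩ : ∃ C : Finset ℕ, C ⊆ C8.erase j ∧ 6 ≤ C.card ∧ ∀ i ∈ C, Fl S (p ^ k) i := by
    by_cases h : ∀ i ∈ C8, Fl S (p ^ k) i
    · refine ⟨C8.erase j, Finset.Subset.refl _, ?_, fun i hi => h i (Finset.mem_of_mem_erase hi)⟩
      rw [Finset.card_erase_of_mem hj]
      decide
    · push Not at h
      obtain ⟨m, hm, hnm⟩ := h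
      refine ⟨(C8.erase j).erase m, Finset.erase_subset _ _, ?_, fun i hi => ?_⟩
      · have h1 := Finset.pred_card_le_card_erase (s := C8.erase j) (a := m)
        rw [Finset.card_erase_of_mem hj] at h1
        have h2 : C8.card = 8 := by decide
        omega
      · obtain ⟨h1, h2⟩ := Finset.mem_erase.1 hi
        exact (R.one i (Finset.mem_of_mem_erase h2) m hm h1).resolve_right hnm
  have hC8 : ∀ i ∈ C, i ∈ C8 := fun i hi => Finset.mem_of_mem_erase (hC hi)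
  have hex : ∀ i ∈ C, ∃ r, Prim (p ^ k) i r ∧ ∃ a, a ∈ I8 ∧ Prim u a r := by
    intro i hi
    obtain ⟨r, hr⟩ := exists_prim8 (hC8 i hi) (two_le R)
    obtain ⟨a, ha, hra⟩ := hcon i (hC8 i hi) (Finset.ne_of_mem_erase (hC hi)) r hr ((hF i hi).dvd r hr)
    exact ⟨r, hr, a, ha, hra⟩
  choose! r hr a ha hra using hex
  have h1 : C.card ≤ I8.card := by
    refine Finset.card_le_card_of_injOn a (fun i hi => ha i hi) ?_
    intro i hi i' hi' h
    by_contra hne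
    have h2 := hra i' hi'
    rw [← h] at h2
    exact ne_class R E hu2 (hC8 i hi) (hC8 i' hi') hne (hr i hi) (hr i' hi') (ha i hi) (hra i hi) h2
  have h2 : I8.card = 4 := by decide
  omega

theorem ne_of_class {q i j r s : ℕ} (hij : i ≠ j) (hr : Prim q i r) (hs : Prim q j s) : r ≠ s := by
  rintro rfl
  exact hij (hr.unique hs)

/-- `u² - 1` divides `(q - 1) g` -/
theorem sq_dvd (R : Row p k S) (E : FE8 v u S) (hu2 : 2 ≤ u) {j t C : ℕ} (hj : j ∈ C4)
    (ht : Prim (p ^ k) j t) (htS : t ∣ Nat.card S) (hti : ¬ Iso8 u t) (hC : TT (p ^ k) j = NN (p ^ k) j * C) :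
    (u - 1) * (u + 1) ∣ 2 * C := by
  have hj8 := C4_sub hj
  obtain ⟨i, hi, hij, s, hs, hsS, hsi⟩ := exists_other R E hu2 hj8
  have hts : t ≠ s := ne_of_class (Ne.symm hij) ht hs
  have hsv : s ≠ v := by
    intro h
    have htv : t ≠ v := fun h' => hts (h'.trans h.symm)
    obtain ⟨z, hz⟩ := low_mul E ht.prime htS htv hti hs.prime (Or.inl (by rw [h])) hts
    exact R.nad j hj8 i hi (Ne.symm hij) t s ht hs ⟨z, hz⟩
  have htv : t ≠ v := by
    intro h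
    obtain ⟨z, hz⟩ := low_mul E hs.prime hsS hsv hsi ht.prime (Or.inl (by rw [h])) hts.symm
    exact R.nad i hi j hj8 hij s t hs ht ⟨z, hz⟩
  have htn : ∀ {n : ℕ}, n = u - 1 ∨ n = u + 1 → ¬ t ∣ n := by
    intro n hn hd
    obtain ⟨z, hz⟩ := low_mul E hs.prime hsS hsv hsi ht.prime (Or.inr (by
      rcases hn with rfl | rfl
      · exact Or.inl hd
      · exact Or.inr hd)) hts.symm
    exact R.nad i hi j hj8 hij s t hs ht ⟨z, hz⟩
  have hsn : ∀ {n : ℕ}, n = u - 1 ∨ n = u + 1 → ¬ s ∣ n := by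
    intro n hn hd
    obtain ⟨z, hz⟩ := low_mul E ht.prime htS htv hti hs.prime (Or.inr (by
      rcases hn with rfl | rfl
      · exact Or.inl hd
      · exact Or.inr hd)) hts
    exact R.nad j hj8 i hi (Ne.symm hij) t s ht hs ⟨z, hz⟩
  have key : ∀ {n : ℕ}, n = u - 1 ∨ n = u + 1 → n ∣ C := by
    intro n hn
    obtain ⟨x, hx, hy⟩ := E.low t ht.prime htS htv fun i hi h => hti ⟨i, hi, h⟩
    obtain ⟨y, hy1, hy2⟩ := hy n (by
      rcases hn with rfl | rfl <;> simp only [_root_.Finset.mem_insert, _root_.Finset.mem_singleton, _root_.Nat.pred_eq_succ_iff, _root_.Nat.left_eq_add, _root_.OfNat.ofNat_ne_zero, _root_.or_false, _root_.or_true, _root_.Nat.add_left_cancel_iff])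
    have hcop : Nat.Coprime t n := (ht.prime.coprime_iff_not_dvd).2 (htn hn)
    have hxy : orderOf (x * y) = t * n := by
      rw [hy2.orderOf_mul_eq_mul_orderOf_of_coprime (by rw [hx, hy1]; exact hcop), hx, hy1]
    have h1 := R.tor j hj (x * y) t ht (by rw [hxy]; exact dvd_mul_right _ _)
    rw [hxy] at h1
    have h2 : n ∣ NN (p ^ k) j * C := by
      rw [← hC]
      exact (dvd_mul_left _ _).trans h1
    refine Nat.Coprime.dvd_of_dvd_mul_left ?_ h2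
    rw [Nat.coprime_iff_gcd_eq_one]
    by_contra hne
    obtain ⟨l, hl, hld⟩ := Nat.exists_prime_and_dvd hne
    have hl1 : l ∣ n := hld.trans (Nat.gcd_dvd_left _ _)
    have hl2 := prim_of_dvd_NN hj (two_le R) hl (hld.trans (Nat.gcd_dvd_right _ _))
    have hsl : s ≠ l := by
      rintro rfl
      exact hsn hn hl1
    obtain ⟨z, hz⟩ := low_mul E hs.prime hsS hsv hsi hl (Or.inr (by
      rcases hn with rfl | rfl
      · exact Or.inl hl1
      · exact Or.inr hl1)) hsl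
    exact R.nad i hi j hj8 hij s l hs hl2 ⟨z, hz⟩
  have h1 := key (Or.inl rfl)
  have h2 := key (Or.inr rfl)
  have h3 : Nat.gcd (u - 1) (u + 1) ∣ 2 := by
    have h4 := Nat.dvd_sub (Nat.gcd_dvd_right (u - 1) (u + 1)) (Nat.gcd_dvd_left (u - 1) (u + 1))
    have h5 : u + 1 - (u - 1) = 2 := by omega
    rwa [h5] at h4
  rw [← Nat.gcd_mul_lcm]
  exact Nat.mul_dvd_mul h3 (Nat.lcm_dvd h1 h2)

theorem not_dvd13 {a : ℕ} (ha : a ∈ I8) (h6 : 6 ≤ u) (h9 : u ≤ 9) : ¬ 640291 ∣ Ph a u := by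
  intro h
  have h1 : ((640291 : ℕ) : ℤ) ∣ (Ph a u : ℤ) := Int.natCast_dvd_natCast.2 h
  rw [mem_I8] at ha
  rcases ha with rfl | rfl | rfl | rfl
  · rw [cast15 (by omega)] at h1
    interval_cases u <;> norm_num at h1
  · rw [cast20 (by omega)] at h1
    interval_cases u <;> norm_num at h1
  · rw [cast24 (by omega)] at h1
    interval_cases u <;> norm_num at h1
  · rw [cast30 (by omega)] at h1
    interval_cases u <;> norm_num at h1

theorem not_dvd17 {a : ℕ} (ha : a ∈ I8) (h6 : 6 ≤ u) (h9 : u ≤ 10) : ¬ 22796593 ∣ Ph a u := by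
  intro h
  have h1 : ((22796593 : ℕ) : ℤ) ∣ (Ph a u : ℤ) := Int.natCast_dvd_natCast.2 h
  rw [mem_I8] at ha
  rcases ha with rfl | rfl | rfl | rfl
  · rw [cast15 (by omega)] at h1
    interval_cases u <;> norm_num at h1
  · rw [cast20 (by omega)] at h1
    interval_cases u <;> norm_num at h1
  · rw [cast24 (by omega)] at h1
    interval_cases u <;> norm_num at h1
  · rw [cast30 (by omega)] at h1
    interval_cases u <;> norm_num at h1

/-- `q ≤ 149` -/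
theorem q_small {q x : ℤ} (hx : 6 ≤ x) (hq : 13 ≤ q) (h1 : (x - 1) * (x + 1) ≤ 7 * (q - 1))
    (h2 : q ^ 6 ≤ 8 * (x ^ 7 * (x + 1))) : q < 150 := by
  by_contra hlt
  push Not at hlt
  have h3 : x ^ 2 ≤ 7 * q := by linarith only [h1]
  have h4 : (x ^ 2) ^ 4 ≤ (7 * q) ^ 4 := pow_le_pow_left₀ (by positivity) h3 4
  have h5 : 6 * (8 * (x ^ 7 * (x + 1))) ≤ 56 * (x ^ 2) ^ 4 := by
    have h6 : 0 ≤ x ^ 7 := by positivity
    have h7 : 6 * (x + 1) ≤ 7 * x := by linarith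
    have h8 : (x ^ 2) ^ 4 = x ^ 7 * x := by ring
    rw [h8]
    linarith only [mul_le_mul_of_nonneg_left h7 h6]
  have h6 : 6 * q ^ 6 ≤ 56 * (7 * q) ^ 4 := by linarith
  have h7 : q ^ 6 = q ^ 2 * q ^ 4 := by ring
  have h8 : (7 * q) ^ 4 = 2401 * q ^ 4 := by ring
  rw [h7, h8] at h6
  have h9 : 0 < q ^ 4 := by positivity
  have h10 : (22500 : ℤ) ≤ q ^ 2 := by nlinarith only [hq, hlt]
  nlinarith only [h2, h4, h5, h9, h10]

theorem xb {N F X M : ℕ} (hN : 0 < N) (hNF : N ∣ F) (hF : 0 < F) (h : 2 * (F * X) = N * M) : 2 * X ≤ M := by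
  obtain ⟨e, rfl⟩ := hNF
  have he : 0 < e := Nat.pos_of_mul_pos_left hF
  have h1 : N * (2 * (e * X)) = N * M := by rw [← h]; ring
  have h2 := Nat.eq_of_mul_eq_mul_left hN h1
  rw [← h2]
  exact Nat.mul_le_mul_left _ (Nat.le_mul_of_pos_left _ he)

/-- class 7 or 9 not isolated -/
theorem fin_low (R : Row p k S) (E : FE8 v u S) (hp2 : p ≠ 2) {q : ℕ} (hq : q = p ^ k) (hq13 : 13 ≤ q) (hu6 : 6 ≤ u)
    {a : ℕ} (ha : a ∈ I8) (hNa : NN q 14 ∣ Ph a u) (hq6 : (q : ℤ) ^ 6 ≤ 8 * ((u : ℤ) ^ 7 * ((u : ℤ) + 1)))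
    {j t C g : ℕ} (hj : j ∈ C4) (ht : Prim (p ^ k) j t) (htS : t ∣ Nat.card S) (hti : ¬ Iso8 u t)
    (hTC : TT q j = NN q j * C) (hCg : 2 * C = (q - 1) * g) (hg0 : 0 < g) (hg : g ≤ 7) : False := by
  rw [hq] at hTC
  have h1 := sq_dvd R E (by omega) hj ht htS hti hTC
  rw [hCg] at h1
  have h2 := Nat.le_of_dvd (Nat.mul_pos (by omega) hg0) h1
  have h3 : (u - 1) * (u + 1) ≤ 7 * (q - 1) := by
    have : (q - 1) * g ≤ (q - 1) * 7 := Nat.mul_le_mul_left _ hg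
    omega
  have h4 : ((u : ℤ) - 1) * ((u : ℤ) + 1) ≤ 7 * ((q : ℤ) - 1) := by
    have h5 : (((u - 1) * (u + 1) : ℕ) : ℤ) ≤ ((7 * (q - 1) : ℕ) : ℤ) := by exact_mod_cast h3
    rw [Nat.cast_mul, Nat.cast_mul, Nat.cast_sub (by omega), Nat.cast_sub (by omega)] at h5
    push_cast at h5
    exact h5
  have h5 := q_small (q := q) (x := u) (by exact_mod_cast hu6) (by exact_mod_cast hq13) h4 hq6
  have h6 : q < 150 := by exact_mod_cast h5
  have hk : k = 1 := by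
    by_contra hk
    have hk2 : 2 ≤ k := by
      have := R.hk
      omega
    have h7 : 13 ≤ p := by
      rcases R.cas with h1 | h1 | h1 <;> omega
    have h8 : 13 ^ 2 ≤ p ^ k := (Nat.pow_le_pow_left h7 2).trans (Nat.pow_le_pow_right (by omega) hk2)
    omega
  rw [hk, pow_one] at hq
  have h7 : u * u ≤ 7 * q := by
    obtain ⟨x, rfl⟩ : ∃ x, u = x + 1 := ⟨u - 1, by omega⟩
    rw [Nat.add_sub_cancel] at h3
    have h8 : (x + 1) * (x + 1) = x * (x + 1 + 1) + 1 := by ring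
    rw [h8]
    omega
  rcases R.cas with h1 | h1 | h1
  · exact hp2 h1
  · rw [hq, h1] at hNa h7
    have e : NN 13 14 = 640291 := by norm_num [NN]
    rw [e] at hNa
    refine not_dvd13 ha hu6 ?_ hNa
    by_contra hlt
    have h10 : 10 * 10 ≤ u * u := Nat.mul_le_mul (by omega) (by omega)
    omega
  · rw [hq, h1] at hNa h7
    have e : NN 17 14 = 22796593 := by norm_num [NN]
    rw [e] at hNa
    refine not_dvd17 ha hu6 ?_ hNa
    by_contra hlt
    have h10 : 11 * 11 ≤ u * u := Nat.mul_le_mul (by omega) (by omega)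
    omega

/-- class 7 isolated -/
theorem fin_seven {q X Z a c : ℕ} (hu6 : 6 ≤ u) (ha : a ∈ I8) (hc : c ∈ I8)
    (hq6 : (q : ℤ) ^ 6 ≤ 8 * ((u : ℤ) ^ 7 * ((u : ℤ) + 1)))
    (h1 : 2 * (Ph a u * X) = q ^ 7 + 1) (h2 : 2 * (Ph c u * Z) = q ^ 7 - 1) (hq7 : 1 ≤ q ^ 7)
    (hXb : 2 * X ≤ 7 * (q + 1)) (hZb : 2 * Z ≤ 7 * (q + 1)) : False := by
  have heq : (X : ℤ) * (Ph a u : ℤ) - (Z : ℤ) * (Ph c u : ℤ) = 1 := by
    have h1 : ((2 * (Ph a u * X) : ℕ) : ℤ) = ((q ^ 7 + 1 : ℕ) : ℤ) := by rw [h1]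
    have h2 : ((2 * (Ph c u * Z) : ℕ) : ℤ) = ((q ^ 7 - 1 : ℕ) : ℤ) := by rw [h2]
    rw [Nat.cast_sub hq7] at h2
    push_cast at h1 h2
    linarith
  have hx6 : (6 : ℤ) ≤ u := by exact_mod_cast hu6
  obtain ⟨t', ht'⟩ := key ha hc (by omega) heq
  rw [one_mul] at ht'
  have hL := low_one (by linarith only [hu6]) ht'
  have habs : |2 * (X : ℤ) - 2 * Z| ≤ 7 * ((q : ℤ) + 1) :=
    abs_sub_le' (by positivity) (by exact_mod_cast hXb) (by positivity) (by exact_mod_cast hZb)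
  have habs2 : |2 * (X : ℤ) - 2 * Z| = 2 * |(X : ℤ) - Z| := by
    rw [← mul_sub, abs_mul, abs_two]
  rw [habs2] at habs
  refine fin_one hx6 ?_ hq6
  have h36 : (36 : ℤ) ≤ (u : ℤ) ^ 2 := by nlinarith only [hu6]
  have h37 : 36 * (u : ℤ) ^ 2 ≤ (u : ℤ) ^ 2 * (u : ℤ) ^ 2 := mul_le_mul_of_nonneg_right h36 (by positivity)
  have h38 : (u : ℤ) ^ 4 = (u : ℤ) ^ 2 * (u : ℤ) ^ 2 := by ring
  have h39 : 2 * (u : ℤ) ^ 2 * ((u : ℤ) ^ 2 - 1) = 2 * ((u : ℤ) ^ 2 * (u : ℤ) ^ 2) - 2 * (u : ℤ) ^ 2 := by ring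
  rw [h38]
  rw [h39] at hL
  linarith only [hL, habs, h37]

/-- class 9 isolated -/
theorem fin_nine' {q Y Z b c : ℕ} (hq13 : 13 ≤ q) (hu6 : 6 ≤ u) (hb : b ∈ I8) (hc : c ∈ I8)
    (h1 : 2 * (Ph b u * Y) = (q + 1) * (q ^ 6 - q ^ 3 + 1)) (h2 : 2 * (Ph c u * Z) = (q - 1) * (q ^ 6 + q ^ 3 + 1))
    (h4 : q ^ 6 - q ^ 3 + 1 ≤ 3 * Ph b u) : False := by
  have hq36 : q ^ 3 ≤ q ^ 6 := Nat.pow_le_pow_right (by omega) (by norm_num)
  have h1 : (2 : ℤ) * ((Ph b u : ℤ) * Y) = ((q : ℤ) + 1) * ((q : ℤ) ^ 6 - (q : ℤ) ^ 3 + 1) := by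
    have h1 : ((2 * (Ph b u * Y) : ℕ) : ℤ) = (((q + 1) * (q ^ 6 - q ^ 3 + 1) : ℕ) : ℤ) := by rw [h1]
    rw [Nat.cast_mul, Nat.cast_mul, Nat.cast_mul, Nat.cast_add, Nat.cast_add, Nat.cast_sub hq36] at h1
    push_cast at h1
    exact h1
  have h2 : (2 : ℤ) * ((Ph c u : ℤ) * Z) = ((q : ℤ) - 1) * ((q : ℤ) ^ 6 + (q : ℤ) ^ 3 + 1) := by
    have h1 : ((2 * (Ph c u * Z) : ℕ) : ℤ) = (((q - 1) * (q ^ 6 + q ^ 3 + 1) : ℕ) : ℤ) := by rw [h2]
    rw [Nat.cast_mul, Nat.cast_mul, Nat.cast_mul, Nat.cast_sub (by omega)] at h1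
    push_cast at h1
    exact h1
  have e1 : 2 * (((q : ℤ) ^ 2 - q + 1) * Y * (Ph b u : ℤ)) = (q : ℤ) ^ 9 + 1 := by
    have : 2 * (((q : ℤ) ^ 2 - q + 1) * Y * (Ph b u : ℤ)) = ((q : ℤ) ^ 2 - q + 1) * (2 * ((Ph b u : ℤ) * Y)) := by ring
    rw [this, h1]
    ring
  have e2 : 2 * (((q : ℤ) ^ 2 + q + 1) * Z * (Ph c u : ℤ)) = (q : ℤ) ^ 9 - 1 := by
    have : 2 * (((q : ℤ) ^ 2 + q + 1) * Z * (Ph c u : ℤ)) = ((q : ℤ) ^ 2 + q + 1) * (2 * ((Ph c u : ℤ) * Z)) := by ring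
    rw [this, h2]
    ring
  have heq : (((q : ℤ) ^ 2 - q + 1) * Y) * (Ph b u : ℤ) - (((q : ℤ) ^ 2 + q + 1) * Z) * (Ph c u : ℤ) = 1 := by
    linarith only [e1, e2]
  have hx6 : (6 : ℤ) ≤ u := by exact_mod_cast hu6
  obtain ⟨t', ht'⟩ := key hb hc (by omega) heq
  rw [one_mul] at ht'
  have hL := low_one (by linarith only [hu6]) ht'
  refine fin_nine (q := (q : ℤ)) hx6 (by exact_mod_cast hq13) (by (clear * - hq13; positivity)) (Ph_bd hb (by omega))
    (Ph_bd hc (by omega)) heq hL (by linarith only [e2]) ?_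
  have h5 : ((q ^ 6 - q ^ 3 + 1 : ℕ) : ℤ) ≤ ((3 * Ph b u : ℕ) : ℤ) := by exact_mod_cast h4
  rw [Nat.cast_add, Nat.cast_sub hq36] at h5
  push_cast at h5
  exact h5

theorem six_le {q : ℕ} (hq13 : 13 ≤ q) (hq6 : (q : ℤ) ^ 6 ≤ 8 * ((u : ℤ) ^ 7 * ((u : ℤ) + 1))) : 6 ≤ u := by
  by_contra hlt
  push Not at hlt
  have hqz : (13 : ℤ) ≤ q := by exact_mod_cast hq13
  have h4 : (13 : ℤ) ^ 6 ≤ (q : ℤ) ^ 6 := pow_le_pow_left₀ (by norm_num) hqz 6
  have h5 : (u : ℤ) ≤ 5 := by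
    have : u ≤ 5 := by omega
    exact_mod_cast this
  have h6 : (0 : ℤ) ≤ u := Int.natCast_nonneg u
  have h7 : (u : ℤ) ^ 7 * ((u : ℤ) + 1) ≤ 5 ^ 7 * (5 + 1) :=
    mul_le_mul (pow_le_pow_left₀ h6 h5 7) (by linarith) (by linarith) (by norm_num)
  norm_num at h4 h7
  linarith

/-- **`p = 13, 17`** -/
theorem row_odd (R : Row p k S) (E : FE8 v u S) (hv : v.Prime) (hu : ∃ f, 1 ≤ f ∧ u = v ^ f)
    (hp2 : p ≠ 2) : False := by
  have hq2 := two_le R
  have hq4 := q_mod R hp2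
  have hq13 := q_ge R hp2
  obtain ⟨q, hq⟩ : ∃ q, q = p ^ k := ⟨_, rfl⟩
  have hu2 : 2 ≤ u := by
    obtain ⟨f, hf, rfl⟩ := hu
    exact hv.two_le.trans (Nat.le_self_pow (by omega) v)
  obtain ⟨r, hr⟩ := exists_prim8 (i := 14) (by decide) hq2
  obtain ⟨s, hs⟩ := exists_prim8 (i := 18) (by decide) hq2
  have hF14 := fl R (i := 14) (by decide) (Or.inr (Or.inl rfl))
  have hF18 := fl R (i := 18) (by decide) (Or.inr (Or.inr rfl))
  obtain ⟨a, ha, hra⟩ := iso_of_nadj E hv hu hr.prime (hF14.dvd r hr) (by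
    have := three_lt (i := 14) (by decide) hq2 hr
    omega) (nadj_two R (by decide) (Or.inr (Or.inl rfl)) hr)
  obtain ⟨b, hb, hsb⟩ := iso_of_nadj E hv hu hs.prime (hF18.dvd s hs) (by
    have := three_lt (i := 18) (by decide) hq2 hs
    omega) (nadj_two R (by decide) (Or.inr (Or.inr rfl)) hs)
  obtain ⟨X, hX⟩ := tor_dvd R E hu2 (i := 14) (by decide) hr ha hra
  obtain ⟨Y, hY⟩ := tor_dvd R E hu2 (i := 18) (by decide) hs hb hsb
  have hNa := NN_dvd R E (i := 14) (by decide) hr hF14 ha hra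
  have hNb := NN_dvd R E (i := 18) (by decide) hs hF18 hb hsb
  rw [← hq] at hX hY hNa hNb hq2 hq4 hq13
  obtain ⟨hT7, hT9, hT14, hT18⟩ := TT_two hq2 (by omega)
  obtain ⟨⟨g7, g71, g72, g73⟩, ⟨g9, g91, g92, g93⟩, ⟨g14, g141, g142, g143⟩, ⟨g18, g181, g182, g183⟩⟩ := NN_mul hq2
  have hPa : 0 < Ph a u := Cfsg.Agent.H416.Arith.c_pos a hu2
  have hPb : 0 < Ph b u := Cfsg.Agent.H416.Arith.c_pos b hu2
  have hq7 : 1 ≤ q ^ 7 := Nat.one_le_pow _ _ (by omega)
  have hNap : 0 < NN q 14 := NN_pos (by decide) hq2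
  have hN7p : 0 < NN q 7 := NN_pos (by decide) hq2
  have hq6 : (q : ℤ) ^ 6 ≤ 8 * ((u : ℤ) ^ 7 * ((u : ℤ) + 1)) := by
    have h1 := q_le (i := 14) (Or.inl rfl) (show 7 ≤ q by omega)
    have h2 := Nat.le_of_dvd hPa hNa
    have h3 : q ^ 6 ≤ 8 * Ph a u := h1.trans (Nat.mul_le_mul_left _ h2)
    have h4 : (q : ℤ) ^ 6 ≤ 8 * (Ph a u : ℤ) := by exact_mod_cast h3
    have h5 := (Ph_bd ha hu2).2
    linarith only [h1, h2, h5]
  have hu6 : 6 ≤ u := six_le hq13 hq6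
  have hXb : 2 * X ≤ 7 * (q + 1) := by
    have h1 := xb hNap hNa hPa (X := X) (M := (q + 1) * g14) (by rw [← hX, hT14, g143])
    have h2 : (q + 1) * g14 ≤ (q + 1) * 7 := Nat.mul_le_mul_left _ g142
    (clear * - h1 h2; omega)
  have he : 2 ∣ q - 1 := by omega
  obtain ⟨h, hh⟩ := he
  rcases side R with hF7 | hF9
  · obtain ⟨t, ht⟩ := exists_prim8 (i := 7) (by decide) (two_le R)
    by_cases hti : Iso8 u t
    · obtain ⟨c, hc, htc⟩ := hti
      obtain ⟨Z, hZ⟩ := tor_dvd R E hu2 (i := 7) (by decide) ht hc htc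
      have hNc := NN_dvd R E (i := 7) (by decide) ht hF7 hc htc
      rw [← hq] at hZ hNc
      have hPc : 0 < Ph c u := Cfsg.Agent.H416.Arith.c_pos c hu2
      have hZb : 2 * Z ≤ 7 * (q + 1) := by
        have h1 := xb hN7p hNc hPc (X := Z) (M := (q - 1) * g7) (by rw [← hZ, hT7, g73])
        have h3 : (q - 1) * g7 ≤ (q + 1) * 7 := Nat.mul_le_mul (by (clear * -; omega)) g72
        (clear * - h1 h3; omega)
      exact fin_seven hu6 ha hc hq6 (by rw [← hX, hT14]) (by rw [← hZ, hT7]) hq7 hXb hZb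
    · refine fin_low R E hp2 hq hq13 hu6 ha hNa hq6 (C := h * g7) (g := g7) (by decide) ht (hF7.dvd t ht) hti ?_ ?_ g71 g72
      · have h1 : 2 * TT q 7 = 2 * (NN q 7 * (h * g7)) := by
          rw [hT7, ← g73, hh]
          ring
        omega
      · rw [hh]; ring
  · obtain ⟨t, ht⟩ := exists_prim8 (i := 9) (by decide) (two_le R)
    by_cases hti : Iso8 u t
    · obtain ⟨c, hc, htc⟩ := hti
      obtain ⟨Z, hZ⟩ := tor_dvd R E hu2 (i := 9) (by decide) ht hc htc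
      rw [← hq] at hZ
      refine fin_nine' hq13 hu6 hb hc (by rw [← hY, hT18]) (by rw [← hZ, hT9]) ?_
      have h3 := Nat.le_of_dvd hPb hNb
      rw [← g183]
      have := Nat.mul_le_mul h3 g182
      omega
    · refine fin_low R E hp2 hq hq13 hu6 ha hNa hq6 (C := h * g9) (g := g9) (by decide) ht (hF9.dvd t ht) hti ?_ ?_ g91
        (by omega)
      · have h1 : 2 * TT q 9 = 2 * (NN q 9 * (h * g9)) := by
          rw [hT9, ← g93, hh]
          ring
        omega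
      · rw [hh]; ring

/-- **`S` is not `E₈(u)`.** -/
theorem row_of (R : Row p k S) (E : FE8 v u S) (hv : v.Prime) (hu : ∃ f, 1 ≤ f ∧ u = v ^ f) (hpv : p ≠ v) : False := by
  by_cases hp2 : p = 2
  · exact row_two R E hv hu hpv hp2
  · exact row_odd R E hv hu hp2

end Cfsg.Agent.H500.E7
end

-- part: H962/RootSL
section
/-!
# A torus element commuting with a root `SL₂(q)` (helper962)

`Y = D.group F`, `F` finite with `q` elements, `w ∈ W`, `a` a root with `w a = a`.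

* `exists_sl` : if `ℤ^l/(w-q)` has an element of prime order `ℓ ∤ q - 1` then in `D.group F` some `x` of order `ℓ` commutes
  with the image of a homomorphism `Ψ : SL₂(F) → D.group F`;
* `exists_comm_sl` : for `m ∣ q - 1` or `m ∣ q + 1`, `3 ≤ m` there is `y` of order `m` commuting with `x`;
* `exists_row_sl` : the same from the tables of helper378.
-/

set_option autoImplicit false
set_option linter.unusedSectionVars false

namespace Cfsg.Agent.H962.RootSL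

open CoxeterSystem Subgroup Cfsg Cfsg.Lie Cfsg.Lie.ChevalleyDatum
open Cfsg.Agent.ChevalleyStructure Cfsg.Agent.ChevalleyStructure.Elts Cfsg.Agent.ChevalleyStructure.CoxeterGeom
  Cfsg.Agent.ChevalleyStructure.CoxeterGeomTypes Cfsg.Agent.ChevalleyStructure.NPerm
  Cfsg.Agent.ChevalleyStructure.RootVec
open Cfsg.Agent.Tits.Roots Cfsg.Agent.Tits.Core Cfsg.Agent.Nodes.Reps Cfsg.Agent.Nodes.BNOf
  Cfsg.Agent.Nodes.RGDChev Cfsg.Agent.Nodes.Bruhat
open Cfsg.Agent.KFacts.RgdField Cfsg.Agent.KFacts.RgdChevCoord Cfsg.Agent.BpExc.TorCent Cfsg.Agent.BpExc.TorChev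
open Cfsg.Agent.BpExc.Tow Cfsg.Agent.BpExc.TowChev Cfsg.Agent.BpExc.FamExt Cfsg.Agent.BpExc.FamUntw
  Cfsg.Agent.BpExc.FamInst Cfsg.Agent.BpExc.LangFr Cfsg.Agent.BpExc.FamField
open Cfsg.Agent.GpExc.Field (glMap emb coe_emb glMap_xG emb_injective coe_glMap)
open Cfsg.Agent.H378.TorDual Cfsg.Agent.H378.TorChar Cfsg.Agent.H378.TorFin Cfsg.Agent.H378.RankOne
  Cfsg.Agent.H378.RootTor Cfsg.Agent.H405.UE Cfsg.Agent.H564.U Cfsg.Agent.H129.TorusChar

universe u v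

/-! ### `SL₂` -/

section SL

variable {F : Type*} {k : Type*} [Field F] [Field k]

theorem sl_mem {H : Subgroup (Matrix.SpecialLinearGroup (Fin 2) F)} (h1 : ∀ t : F, sx t ∈ H) (h2 : ∀ t : F, sy t ∈ H)
    (A : Matrix.SpecialLinearGroup (Fin 2) F) : A ∈ H := by
  have h := SL2Hom.mem_closure_SL2 A
  refine (Subgroup.closure_le _).2 ?_ h
  rintro _ (⟨t, rfl⟩ | ⟨t, rfl⟩)
  · exact h1 t
  · exact h2 t

theorem sx_conj (c : kˣ) (t : k) : dg c * sx t * (dg c)⁻¹ = sx ((c : k) ^ 2 * t) := by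
  rw [mul_inv_eq_iff_eq_mul]
  apply Subtype.ext
  show !![(c : k), 0; 0, (c : k)⁻¹] * !![1, t; 0, 1] = !![1, (c : k) ^ 2 * t; 0, 1] * !![(c : k), 0; 0, (c : k)⁻¹]
  have hc := c.ne_zero
  ext i j
  fin_cases i <;> fin_cases j
  · simp
  · simp only [_root_.Fin.zero_eta, _root_.Fin.isValue, _root_.Fin.mk_one, _root_.Matrix.cons_mul, _root_.Nat.succ_eq_add_one, _root_.Nat.reduceAdd, _root_.Matrix.vecMul_cons, _root_.Matrix.head_cons, _root_.Matrix.smul_cons, _root_.smul_eq_mul, _root_.mul_one, _root_.Matrix.smul_empty, _root_.Matrix.tail_cons, _root_.zero_smul, _root_.Matrix.empty_vecMul, _root_.add_zero, _root_.MulZeroClass.mul_zero, _root_.zero_add, _root_.Matrix.empty_mul, _root_.Equiv.symm_apply_apply, _root_.Matrix.of_apply, _root_.Matrix.cons_val', _root_.Matrix.cons_val_one, _root_.Matrix.cons_val_fin_one, _root_.Matrix.cons_val_zero, _root_.one_smul, _root_.Matrix.add_cons, _root_.Matrix.empty_add_empty]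
    field_simp
  · simp
  · simp

theorem sy_conj (c : kˣ) (t : k) : dg c * sy t * (dg c)⁻¹ = sy (((c : k)⁻¹) ^ 2 * t) := by
  rw [mul_inv_eq_iff_eq_mul]
  apply Subtype.ext
  show !![(c : k), 0; 0, (c : k)⁻¹] * !![1, 0; t, 1] = !![1, 0; ((c : k)⁻¹) ^ 2 * t, 1] * !![(c : k), 0; 0, (c : k)⁻¹]
  have hc := c.ne_zero
  ext i j
  fin_cases i <;> fin_cases j
  · simp
  · simp
  · simp only [_root_.Fin.mk_one, _root_.Fin.isValue, _root_.Fin.zero_eta, _root_.Matrix.cons_mul, _root_.Nat.succ_eq_add_one, _root_.Nat.reduceAdd, _root_.Matrix.vecMul_cons, _root_.Matrix.head_cons, _root_.Matrix.smul_cons, _root_.smul_eq_mul, _root_.mul_one, _root_.MulZeroClass.mul_zero, _root_.Matrix.smul_empty, _root_.Matrix.tail_cons, _root_.zero_smul, _root_.Matrix.empty_vecMul, _root_.add_zero, _root_.zero_add, _root_.Matrix.empty_mul, _root_.Equiv.symm_apply_apply, _root_.Matrix.of_apply, _root_.Matrix.cons_val', _root_.Matrix.cons_val_zero,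 _root_.Matrix.cons_val_fin_one, _root_.Matrix.cons_val_one, _root_.inv_pow, _root_.one_smul, _root_.Matrix.add_cons, _root_.Matrix.empty_add_empty]
    field_simp
  · simp

theorem map_sx (f : F →+* k) (t : F) : Matrix.SpecialLinearGroup.map f (sx t) = sx (f t) := by
  apply Subtype.ext
  show (!![1, t; 0, 1] : Matrix (Fin 2) (Fin 2) F).map f = !![1, f t; 0, 1]
  ext i j
  (revert i j; simp only [_root_.Fin.forall_fin_succ, _root_.Matrix.map_apply, _root_.Matrix.of_apply, _root_.Matrix.cons_val', _root_.Matrix.cons_val_fin_one, Fin.isValue, _root_.Matrix.cons_val_zero, _root_.Matrix.cons_val_succ, _root_.forall_const, _root_.map_one, _root_.and_self, _root_.map_zero, _root_.implies_true])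

theorem map_sy (f : F →+* k) (t : F) : Matrix.SpecialLinearGroup.map f (sy t) = sy (f t) := by
  apply Subtype.ext
  show (!![1, 0; t, 1] : Matrix (Fin 2) (Fin 2) F).map f = !![1, 0; f t, 1]
  ext i j
  (revert i j; simp only [_root_.Fin.forall_fin_succ, _root_.Matrix.map_apply, _root_.Matrix.of_apply, _root_.Matrix.cons_val', _root_.Matrix.cons_val_fin_one, Fin.isValue, _root_.Matrix.cons_val_zero, _root_.Matrix.cons_val_succ, _root_.forall_const, _root_.map_one, _root_.map_zero, _root_.and_self, _root_.implies_true])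

/-- a matrix over `F` with given eigenvalues -/
theorem exists_diag (f : F →+* k) {ζ : kˣ} (hζ : (ζ : k) ≠ (ζ : k)⁻¹) {t : F} (ht : (ζ : k) + (ζ : k)⁻¹ = f t) :
    ∃ (A : Matrix.SpecialLinearGroup (Fin 2) F) (P : Matrix.SpecialLinearGroup (Fin 2) k),
      Matrix.SpecialLinearGroup.map f A = P * dg ζ * P⁻¹ := by
  have h0 : (ζ : k) - (ζ : k)⁻¹ ≠ 0 := sub_ne_zero.2 hζ
  have hz := ζ.ne_zero
  refine ⟨⟨!![0, -1; 1, t], by simp [Matrix.det_fin_two]⟩,
    ⟨!![1, ((ζ : k) - (ζ : k)⁻¹)⁻¹; -(ζ : k), -(ζ : k)⁻¹ * ((ζ : k) - (ζ : k)⁻¹)⁻¹], ?_⟩, ?_⟩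
  · rw [Matrix.det_fin_two_of]
    have : (1 : k) * (-(ζ : k)⁻¹ * ((ζ : k) - (ζ : k)⁻¹)⁻¹) - ((ζ : k) - (ζ : k)⁻¹)⁻¹ * -(ζ : k) =
        ((ζ : k) - (ζ : k)⁻¹) * ((ζ : k) - (ζ : k)⁻¹)⁻¹ := by ring
    rw [this, mul_inv_cancel₀ h0]
  · refine eq_mul_inv_of_mul_eq ?_
    apply Subtype.ext
    have hm : (!![0, -1; 1, t] : Matrix (Fin 2) (Fin 2) F).map f = !![0, -1; 1, f t] := by
      ext i j
      (revert i j; simp only [_root_.Fin.forall_fin_succ, _root_.Matrix.map_apply, _root_.Matrix.of_apply, _root_.Matrix.cons_val', _root_.Matrix.cons_val_fin_one, Fin.isValue, _root_.Matrix.cons_val_zero, _root_.Matrix.cons_val_succ, _root_.forall_const, _root_.map_zero, _root_.map_neg, _root_.map_one, _root_.and_self, _root_.implies_true])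
    show (!![0, -1; 1, t] : Matrix (Fin 2) (Fin 2) F).map f * !![1, ((ζ : k) - (ζ : k)⁻¹)⁻¹; -(ζ : k), -(ζ : k)⁻¹ * ((ζ : k) - (ζ : k)⁻¹)⁻¹] =
      !![1, ((ζ : k) - (ζ : k)⁻¹)⁻¹; -(ζ : k), -(ζ : k)⁻¹ * ((ζ : k) - (ζ : k)⁻¹)⁻¹] * !![(ζ : k), 0; 0, (ζ : k)⁻¹]
    rw [hm, ← ht]
    obtain ⟨δ, hδ⟩ : ∃ δ, δ = ((ζ : k) - (ζ : k)⁻¹)⁻¹ := ⟨_, rfl⟩
    rw [← hδ]
    have e00 : (0 : k) * 1 + -1 * -(ζ : k) = 1 * (ζ : k) + δ * 0 := by ring
    have e01 : (0 : k) * δ + -1 * (-(ζ : k)⁻¹ * δ) = 1 * 0 + δ * (ζ : k)⁻¹ := by ring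
    have e10 : (1 : k) * 1 + ((ζ : k) + (ζ : k)⁻¹) * -(ζ : k) = -(ζ : k) * (ζ : k) + -(ζ : k)⁻¹ * δ * 0 := by
      field_simp
      ring
    have e11 : (1 : k) * δ + ((ζ : k) + (ζ : k)⁻¹) * (-(ζ : k)⁻¹ * δ) =
        -(ζ : k) * 0 + -(ζ : k)⁻¹ * δ * (ζ : k)⁻¹ := by
      field_simp
      ring
    rw [Matrix.mul_fin_two, Matrix.mul_fin_two, e00, e01, e10, e11]

end SL

variable {D : ChevalleyDatum} {l : ℕ} {M : CoxeterMatrix (Fin l)} (hp : IsType D l M) {k : Type u} [Field k]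
  {W : Type*} [Group W] (cs : CoxeterSystem M W)

theorem zz_simple (i : Fin l) (s : k) : zz hp (D.simple i) s = xc hp (sr i) s := by
  have hi := _root_.Cfsg.Agent.ChevalleyStructure.NPerm.simple_lt hp.inList (lt_rank hp i)
  apply Subtype.ext
  rw [← vec_simple hp i, coe_xc hp hi]
  rfl

theorem zz_neg_simple (i : Fin l) (s : k) : zz hp (D.neg (D.simple i)) s = xc hp (-sr i) s := by
  have hi := _root_.Cfsg.Agent.ChevalleyStructure.NPerm.simple_lt hp.inList (lt_rank hp i)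
  have hni := _root_.Cfsg.Agent.ChevalleyStructure.NPerm.neg_lt hp.inList hi
  apply Subtype.ext
  rw [← vec_simple hp i, ← vec_neg hp hi, coe_xc hp hni]
  rfl

/-- the order of a coroot element -/
theorem orderOf_hc {i : Fin l} {v : Fin l → ℤ} (hv : pairing (cartanOf D l) i v = 1 ∨ pairing (cartanOf D l) i v = -1)
    (c : kˣ) : orderOf (hc hp i (c : k)) = orderOf c := by
  have hpow : ∀ m : ℕ, hc hp i (c : k) ^ m = 1 ↔ c ^ m = 1 := by
    intro m
    constructor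
    · intro h1
      have h2 := cX_pow hp (hc_mem hp i c.ne_zero) m v
      rw [h1, cX_one, cX_hc] at h2
      have h3 : (c ^ pairing (cartanOf D l) i v) ^ m = 1 := by
        apply Units.ext
        rw [Units.val_pow_eq_pow_val, ← h2, Units.val_one]
      rcases hv with h | h
      · rwa [h, zpow_one] at h3
      · rw [h, zpow_neg, zpow_one, inv_pow, inv_eq_one] at h3
        exact h3
    · intro h1
      obtain ⟨φ, -, -, h3⟩ := exists_sl2 hp k (r := D.simple i) (_root_.Cfsg.Agent.ChevalleyStructure.NPerm.simple_lt hp.inList (lt_rank hp i))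
      have h4 : ∀ j : ℕ, (dg c : Matrix.SpecialLinearGroup (Fin 2) k) ^ j = dg (c ^ j) := by
        intro j
        induction j with
        | zero =>
          rw [pow_zero, pow_zero]
          apply Subtype.ext
          show (1 : Matrix (Fin 2) (Fin 2) k) = !![((1 : kˣ) : k), 0; 0, ((1 : kˣ) : k)⁻¹]
          rw [Units.val_one, inv_one, Matrix.one_fin_two]
        | succ j ih =>
          rw [pow_succ, ih]
          apply Subtype.ext
          show !![((c ^ j : kˣ) : k), 0; 0, ((c ^ j : kˣ) : k)⁻¹] * !![(c : k), 0; 0, (c : k)⁻¹] =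
            !![((c ^ (j + 1) : kˣ) : k), 0; 0, ((c ^ (j + 1) : kˣ) : k)⁻¹]
          rw [pow_succ, Units.val_mul]
          ext a b
          (revert a b; simp [mul_comm, _root_.Fin.forall_fin_succ])
      have h5 : hc hp i (c : k) = φ (dg c) := by rw [h3]; rfl
      rw [h5, ← map_pow, h4, h1]
      have h6 : (dg (1 : kˣ) : Matrix.SpecialLinearGroup (Fin 2) k) = 1 := by
        apply Subtype.ext
        show !![((1 : kˣ) : k), 0; 0, ((1 : kˣ) : k)⁻¹] = 1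
        rw [Units.val_one, inv_one, Matrix.one_fin_two]
      rw [h6, map_one]
  exact orderOf_eq_orderOf_iff.2 hpow

theorem orderOf_conj' {Y : Type*} [Group Y] (z y : Y) : orderOf (z * y * z⁻¹) = orderOf y := by
  have h1 : z * y * z⁻¹ = MulAut.conj z y := rfl
  rw [h1, MulEquiv.orderOf_eq]

section Main

variable [IsAlgClosed k] (hk : LocFin k) (r : ℕ) [Fact r.Prime] [CharP k r]
  {F : Type u} [Field F] [Finite F] (f : F →+* k) {n : ℕ} (hn0 : 0 < n) (hn : Nat.card F = r ^ n)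
  {d : ℕ} {B : Fin l → Fin l → ℤ} (hB : Cfsg.Agent.BpExc.FamExt.InvC D l d B) (hd : d ≠ 0)

include hk in
/-- the twisted Frobenius on a root `SL₂` -/
theorem exists_psi {v w : W} {i : Fin l} {g : ↥(D.group k)} (hg : Rp cs (nsysL hp cs hk r) w g)
    (hwa : rep cs hp.isCartan w (rep cs hp.isCartan v (sr i)) = rep cs hp.isCartan v (sr i)) {n : ℕ} (hn0 : 0 < n) :
    ∃ (κ : ↥(D.group k)) (φ : Matrix.SpecialLinearGroup (Fin 2) k →* ↥(D.group k)) (s₀ : kˣ),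
      (∀ c : kˣ, φ (dg c) = hc hp i (c : k)) ∧ (∀ s : k, φ (sx s) = xc hp (sr i) s) ∧
      (∀ s : k, κ * φ (sx s) * κ⁻¹ ∈ XX D l k (rep cs hp.isCartan v (sr i))) ∧
      (∀ s : k, κ * φ (sy s) * κ⁻¹ ∈ XX D l k (-rep cs hp.isCartan v (sr i))) ∧
      (∀ s : k, _root_.Cfsg.Agent.H378.RootTor.tau D k r n g (κ * φ (sx ((s₀ : k) * s)) * κ⁻¹) = κ * φ (sx ((s₀ : k) * s ^ r ^ n)) * κ⁻¹) ∧
      (∀ s : k, _root_.Cfsg.Agent.H378.RootTor.tau D k r n g (κ * φ (sy ((s₀ : k)⁻¹ * s)) * κ⁻¹) = κ * φ (sy ((s₀ : k)⁻¹ * s ^ r ^ n)) * κ⁻¹) := by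
  have C := coordsL hp cs hk r
  have hi := isRoot_sr cs hp.isCartan i
  have hni : IsRoot cs hp.isCartan (-sr i) := hi.neg
  obtain ⟨a, ha'⟩ : ∃ a, a = rep cs hp.isCartan v (sr i) := ⟨_, rfl⟩
  have ha : IsRoot cs hp.isCartan a := ha' ▸ hi.act v
  have hna : IsRoot cs hp.isCartan (-a) := ha.neg
  rw [← ha'] at hwa ⊢
  have hwna : rep cs hp.isCartan w (-a) = -a := by rw [map_neg, hwa]
  obtain ⟨φ, h1, h2, h3⟩ := exists_sl2 hp k (r := D.simple i) (_root_.Cfsg.Agent.ChevalleyStructure.NPerm.simple_lt hp.inList (lt_rank hp i))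
  have hx : ∀ s, φ (sx s) = xc hp (sr i) s := fun s => by rw [h1, zz_simple]
  have hy : ∀ s, φ (sy s) = xc hp (-sr i) s := fun s => by rw [h2, zz_neg_simple]
  obtain ⟨κ, hκ⟩ := exists_rp cs (nsysL hp cs hk r) v
  obtain ⟨c₁, hc₁, e₁⟩ := x_rp C _ hκ hi
  obtain ⟨c₂, hc₂, e₂⟩ := x_rp C _ hκ hni
  rw [← ha'] at e₁
  rw [map_neg, ← ha'] at e₂
  obtain ⟨c, hc, e⟩ := tau_x hp cs hk r (n := n) hg ha hwa
  obtain ⟨c', hc', e'⟩ := tau_x hp cs hk r (n := n) hg hna hwna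
  -- the scalars
  obtain ⟨γ, hγ'⟩ : ∃ γ, γ = c₁⁻¹ * (c * c₁ ^ r ^ n) := ⟨_, rfl⟩
  obtain ⟨γ', hγ''⟩ : ∃ γ', γ' = c₂⁻¹ * (c' * c₂ ^ r ^ n) := ⟨_, rfl⟩
  have hγ : γ ≠ 0 := by rw [hγ']; exact mul_ne_zero (inv_ne_zero hc₁) (mul_ne_zero hc (pow_ne_zero _ hc₁))
  have t1 : ∀ s, _root_.Cfsg.Agent.H378.RootTor.tau D k r n g (κ * φ (sx s) * κ⁻¹) = κ * φ (sx (γ * s ^ r ^ n)) * κ⁻¹ := by
    intro s
    rw [hx, hx, e₁, e₁, e]
    congr 1
    rw [hγ', mul_pow, ← mul_assoc c₁, ← mul_assoc c₁, mul_inv_cancel₀ hc₁]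
    ring
  have t2 : ∀ s, _root_.Cfsg.Agent.H378.RootTor.tau D k r n g (κ * φ (sy s) * κ⁻¹) = κ * φ (sy (γ' * s ^ r ^ n)) * κ⁻¹ := by
    intro s
    rw [hy, hy, e₂, e₂, e']
    congr 1
    rw [hγ'', mul_pow, ← mul_assoc c₂, ← mul_assoc c₂, mul_inv_cancel₀ hc₂]
    ring
  have hq : 1 < r ^ n := Nat.one_lt_pow hn0.ne' (Fact.out (p := r.Prime)).one_lt
  obtain ⟨s₁, hs₁⟩ := IsAlgClosed.exists_pow_nat_eq γ⁻¹ (Nat.sub_pos_of_lt hq)
  have hs0 : s₁ ≠ 0 := by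
    rintro rfl
    rw [zero_pow (Nat.sub_pos_of_lt hq).ne'] at hs₁
    exact inv_ne_zero hγ hs₁.symm
  have hsq : γ * s₁ ^ r ^ n = s₁ := by
    have h5 : s₁ ^ r ^ n = s₁ ^ (r ^ n - 1) * s₁ := by
      rw [← pow_succ]
      congr 1
      omega
    rw [h5, hs₁, mul_inv_cancel_left₀ hγ]
  -- the fixed pair
  have hfu : _root_.Cfsg.Agent.H378.RootTor.tau D k r n g (κ * φ (sx s₁) * κ⁻¹) = κ * φ (sx s₁) * κ⁻¹ := by rw [t1, hsq]
  have hu : κ * φ (sx s₁) * κ⁻¹ ∈ XX D l k a := by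
    rw [hx, e₁, (C.coord _ ha).mem]
    exact ⟨_, rfl⟩
  have hv : κ * φ (sy (-s₁⁻¹)) * κ⁻¹ ∈ XX D l k (-a) := by
    rw [hy, e₂, (C.coord _ hna).mem]
    exact ⟨_, rfl⟩
  have hA : ∀ {b : Fin l → ℤ} (_ : IsRoot cs hp.isCartan b) (y : ↥(D.group k)),
      κ * y * κ⁻¹ ∈ XX D l k (rep cs hp.isCartan v b) ↔ y ∈ XX D l k b := by
    intro b hb y
    obtain ⟨c, hc, e⟩ := x_rp C _ hκ hb
    rw [(C.coord _ (hb.act v)).mem, (C.coord _ hb).mem]
    constructor
    · rintro ⟨s, hs⟩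
      refine ⟨c⁻¹ * s, ?_⟩
      have h1 := e (c⁻¹ * s)
      rw [mul_inv_cancel_left₀ hc, hs] at h1
      exact mul_left_cancel (mul_right_cancel h1)
    · rintro ⟨s, rfl⟩
      exact ⟨_, (e s).symm⟩
  have hS : Swap (XX D l k a) (XX D l k (-a))
      (κ * φ (sx s₁) * κ⁻¹ * (κ * φ (sy (-s₁⁻¹)) * κ⁻¹) * (κ * φ (sx s₁) * κ⁻¹)) := by
    have h5 := (swap_simple hp i hs0).conj (A' := XX D l k a) (B' := XX D l k (-a)) (κ := κ)
      (by rw [ha']; exact hA hi) (by rw [ha', ← map_neg]; exact hA hni)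
    rw [← hx, ← hy] at h5
    have e6 : κ * φ (sx s₁) * κ⁻¹ * (κ * φ (sy (-s₁⁻¹)) * κ⁻¹) * (κ * φ (sx s₁) * κ⁻¹) =
        κ * (φ (sx s₁) * φ (sy (-s₁⁻¹)) * φ (sx s₁)) * κ⁻¹ := by group
    rw [e6]
    exact h5
  have hfv := hS.fix hu hv (tau_surjective r) (tau_X hp cs hk r hg ha hwa)
    (fun y hy => (tau_X hp cs hk r hg hna hwna y).2 hy) hfu
  -- `γ' = γ⁻¹` in the form needed
  have hneg : ∀ s : k, (-s) ^ r ^ n = -(s ^ r ^ n) := by
    intro s
    have := map_neg (iterateFrobenius k r n) s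
    simpa only [iterateFrobenius_def] using this
  have hγ2 : γ' * (s₁⁻¹) ^ r ^ n = s₁⁻¹ := by
    rw [t2, hy, hy, e₂, e₂] at hfv
    have h6 := (C.coord _ hna).inj hfv
    have h7 := mul_left_cancel₀ hc₂ h6
    rw [hneg, mul_neg, _root_.neg_inj] at h7
    exact h7
  refine ⟨κ, φ, Units.mk0 s₁ hs0, fun c => by rw [h3]; rfl, hx, ?_, ?_, ?_, ?_⟩
  · intro s
    rw [hx, e₁, (C.coord _ ha).mem]
    exact ⟨_, rfl⟩
  · intro s
    rw [hy, e₂, (C.coord _ hna).mem]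
    exact ⟨_, rfl⟩
  · intro s
    rw [t1, Units.val_mk0, mul_pow, ← mul_assoc, hsq]
  · intro s
    rw [t2, Units.val_mk0, mul_pow, ← mul_assoc, hγ2]

include hk hn0 hn hB hd f in
theorem exists_sl_aux {v w : W} {i : Fin l}
    (hwa : rep cs hp.isCartan w (rep cs hp.isCartan v (sr i)) = rep cs hp.isCartan v (sr i))
    {ℓ : ℕ} (hℓ : ℓ.Prime) (hℓq : ¬ ℓ ∣ Nat.card F - 1)
    (hy : ∃ y : Multiplicative (Co (rep cs hp.isCartan w - ((Nat.card F : ℕ) : ℤ) •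
      (1 : Module.End ℤ (Fin l → ℤ)))), orderOf y = ℓ) :
    ∃ (x : ↥(D.group F)) (Ψ : Matrix.SpecialLinearGroup (Fin 2) F →* ↥(D.group F)) (P : ↥(D.group k))
      (φ : Matrix.SpecialLinearGroup (Fin 2) k →* ↥(D.group k)) (Q : Matrix.SpecialLinearGroup (Fin 2) k),
      orderOf x = ℓ ∧ (∀ A, Commute x (Ψ A)) ∧ (∀ c : kˣ, φ (dg c) = hc hp i (c : k)) ∧
      (∀ s : k, φ (sx s) = xc hp (sr i) s) ∧ ∀ A, emb hp.inList f (Ψ A) = P * φ (Q * Matrix.SpecialLinearGroup.map f A * Q⁻¹) * P⁻¹ := by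
  have : Fintype F := Fintype.ofFinite F
  have hcop : ∀ m : ℕ, m.Coprime (Nat.card F - 1) → m.Coprime (Nat.gcd d (Nat.card F - 1)) := fun m hm =>
    Nat.Coprime.coprime_dvd_right (Nat.gcd_dvd_right _ _) hm
  have hℓc : ℓ.Coprime (Nat.card F - 1) := (Nat.Prime.coprime_iff_not_dvd hℓ).2 hℓq
  have hrp : r.Prime := Fact.out
  have hrc : r.Coprime (Nat.card F - 1) := by
    rw [Nat.Prime.coprime_iff_not_dvd hrp]
    intro h1
    have h2 : r ∣ Nat.card F := by rw [hn]; exact dvd_pow_self _ hn0.ne'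
    have h3 : 1 ≤ Nat.card F := Nat.card_pos
    have h4 : r ∣ 1 := by
      have := (Nat.dvd_sub h2 h1)
      have e : Nat.card F - (Nat.card F - 1) = 1 := by omega
      rwa [e] at this
    exact hrp.one_lt.ne' (Nat.dvd_one.1 h4)
  have hinj := emb_injective hp.inList f
  rw [hn] at hy
  obtain ⟨g, hg⟩ := exists_rp cs (nsysL hp cs hk r) w
  obtain ⟨z, hz⟩ := lang' hp r hn0 g
  obtain ⟨e, he⟩ := twEquiv hp cs r hk hB hd hg (m := n)
  obtain ⟨e'⟩ := kerOf_equiv k (det_rep_ne_zero cs r hn0 hp.isCartan w)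
  obtain ⟨y, hy⟩ := hy
  -- the torus element
  obtain ⟨t, ht⟩ : ∃ t : ↥(TwT D k r n g), t = e.symm (e'.symm y) := ⟨_, rfl⟩
  have hto : orderOf t = ℓ := by
    rw [ht, MulEquiv.orderOf_eq, MulEquiv.orderOf_eq, hy]
  have hto' : orderOf t.1 = ℓ := by rw [Subgroup.orderOf_coe, hto]
  have htT : t.1 ∈ TT D k := t.2.1
  have htau : _root_.Cfsg.Agent.H378.RootTor.tau D k r n g t.1 = t.1 := t.2.2
  have htℓ : t.1 ^ ℓ = 1 := by rw [← hto']; exact pow_orderOf_eq_one _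
  have hχK := (mem_TwT_iff hp cs r hk hg htT).1 t.2
  have hχℓ : tchar hp ⟨t.1, htT⟩ ^ ℓ = 1 := H378.Regular.tchar_pow_eq_one hp htT htℓ
  obtain ⟨a, ha'⟩ : ∃ a, a = rep cs hp.isCartan v (sr i) := ⟨_, rfl⟩
  have ha : IsRoot cs hp.isCartan a := ha' ▸ (isRoot_sr cs hp.isCartan i).act v
  have hna : IsRoot cs hp.isCartan (-a) := ha.neg
  obtain ⟨κ, φ, s₀, hφd, hφs, hφx, hφy, hτx, hτy⟩ := exists_psi hp cs hk r hg hwa hn0
  rw [← ha'] at hwa hφx hφy
  have hwna : rep cs hp.isCartan w (-a) = -a := by rw [map_neg, hwa]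
  have hℓn : ℓ.Coprime (r ^ n - 1) := by rw [← hn]; exact hℓc
  have hca := chi_eq_one (k := k) hp cs r hχK hwa hχℓ hℓn
  have hcna := chi_eq_one (k := k) hp cs r hχK hwna hχℓ hℓn
  have htx : ∀ s, t.1 * (κ * φ (sx s) * κ⁻¹) = κ * φ (sx s) * κ⁻¹ * t.1 := fun s =>
    comm_X hp cs hk r htT ha hca (hφx s)
  have hty : ∀ s, t.1 * (κ * φ (sy s) * κ⁻¹) = κ * φ (sy s) * κ⁻¹ * t.1 := fun s =>
    comm_X hp cs hk r htT hna hcna (hφy s)
  -- the square root
  obtain ⟨d₀, hd₀⟩ := IsAlgClosed.exists_pow_nat_eq (s₀ : k) (n := 2) (by norm_num)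
  have hd0 : d₀ ≠ 0 := by
    rintro rfl
    rw [zero_pow (by norm_num)] at hd₀
    exact s₀.ne_zero hd₀.symm
  obtain ⟨Q, hQ⟩ : ∃ Q : Matrix.SpecialLinearGroup (Fin 2) k, Q = dg (Units.mk0 d₀ hd0) := ⟨_, rfl⟩
  have hQx : ∀ s : F, Q * Matrix.SpecialLinearGroup.map f (sx s) * Q⁻¹ = sx ((s₀ : k) * f s) := by
    intro s
    rw [hQ, map_sx, sx_conj, Units.val_mk0, hd₀]
  have hQy : ∀ s : F, Q * Matrix.SpecialLinearGroup.map f (sy s) * Q⁻¹ = sy ((s₀ : k)⁻¹ * f s) := by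
    intro s
    rw [hQ, map_sy, sy_conj, Units.val_mk0, inv_pow, hd₀]
  have hfq : ∀ s : F, f s ^ r ^ n = f s := by
    intro s
    rw [← map_pow, ← hn, Nat.card_eq_fintype_card, FiniteField.pow_card]
  -- the homomorphism into `D.group k`
  let θ : Matrix.SpecialLinearGroup (Fin 2) F →* ↥(D.group k) :=
    (MulAut.conj (z * κ)).toMonoidHom.comp
      (φ.comp ((MulAut.conj Q).toMonoidHom.comp (Matrix.SpecialLinearGroup.map f)))
  have hθ : ∀ A, θ A = z * κ * φ (Q * Matrix.SpecialLinearGroup.map f A * Q⁻¹) * (z * κ)⁻¹ := fun A => rfl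
  have hcp : ∀ (y : ↥(D.group k)) (j : ℕ), (z * y * z⁻¹) ^ j = z * y ^ j * z⁻¹ := fun y j => conj_pow
  have hxr : ∀ s : k, (κ * φ (sx s) * κ⁻¹) ^ r = 1 := fun s => X_pow hp cs r ha (hφx s)
  have hyr : ∀ s : k, (κ * φ (sy s) * κ⁻¹) ^ r = 1 := fun s => X_pow hp cs r hna (hφy s)
  have hrange : ∀ A, θ A ∈ (emb hp.inList f).range := by
    intro A
    have hmem : A ∈ ((emb hp.inList f).range).comap θ := by
      apply sl_mem
      · intro s
        rw [Subgroup.mem_comap, hθ, hQx]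
        have e1 : z * κ * φ (sx ((s₀ : k) * f s)) * (z * κ)⁻¹ = z * (κ * φ (sx ((s₀ : k) * f s)) * κ⁻¹) * z⁻¹ := by
          group
        rw [e1]
        refine mem_of_pow hp f r hn hB hd (fix_of_tau r hz ?_) (m := r) (by rw [hcp, hxr]; group) (hcop _ hrc)
        rw [hτx, hfq]
      · intro s
        rw [Subgroup.mem_comap, hθ, hQy]
        have e1 : z * κ * φ (sy ((s₀ : k)⁻¹ * f s)) * (z * κ)⁻¹ =
            z * (κ * φ (sy ((s₀ : k)⁻¹ * f s)) * κ⁻¹) * z⁻¹ := by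
          group
        rw [e1]
        refine mem_of_pow hp f r hn hB hd (fix_of_tau r hz ?_) (m := r) (by rw [hcp, hyr]; group) (hcop _ hrc)
        rw [hτy, hfq]
    exact hmem
  let Ψ : Matrix.SpecialLinearGroup (Fin 2) F →* ↥(D.group F) :=
    (MonoidHom.ofInjective hinj).symm.toMonoidHom.comp (θ.codRestrict _ hrange)
  have hΨ : ∀ A, emb hp.inList f (Ψ A) = θ A := by
    intro A
    have h1 := MonoidHom.apply_ofInjective_symm hinj (θ.codRestrict (emb hp.inList f).range hrange A)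
    exact h1
  -- the torus element of the finite group
  obtain ⟨x, hx⟩ := mem_of_pow hp f r hn hB hd (fix_of_tau r hz htau) (m := ℓ)
    (by rw [hcp, htℓ]; group) (hcop _ hℓc)
  have hco : ∀ y : ↥(D.group k), orderOf (z * y * z⁻¹) = orderOf y := fun y => by
    have h1 : z * y * z⁻¹ = MulAut.conj z y := rfl
    rw [h1, MulEquiv.orderOf_eq]
  have hor : ∀ y : ↥(D.group F), orderOf (emb hp.inList f y) = orderOf y := fun y => orderOf_injective _ hinj y
  refine ⟨x, Ψ, z * κ, φ, Q, ?_, ?_, hφd, hφs, fun A => by rw [hΨ, hθ]⟩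
  · rw [← hor, hx, hco, hto']
  · intro A
    have hmem : A ∈ (Subgroup.centralizer ({x} : Set ↥(D.group F))).comap Ψ := by
      apply sl_mem
      · intro s
        rw [Subgroup.mem_comap, Subgroup.mem_centralizer_singleton_iff]
        apply hinj
        have hm1 : emb hp.inList f (Ψ (sx s) * x) = emb hp.inList f (Ψ (sx s)) * emb hp.inList f x := map_mul _ _ _
        have hm2 : emb hp.inList f (x * Ψ (sx s)) = emb hp.inList f x * emb hp.inList f (Ψ (sx s)) := map_mul _ _ _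
        rw [hm1, hm2, hΨ, hθ, hQx, hx]
        have h2 := htx ((s₀ : k) * f s)
        calc z * κ * φ (sx ((s₀ : k) * f s)) * (z * κ)⁻¹ * (z * t.1 * z⁻¹) =
              z * (κ * φ (sx ((s₀ : k) * f s)) * κ⁻¹ * t.1) * z⁻¹ := by group
          _ = z * (t.1 * (κ * φ (sx ((s₀ : k) * f s)) * κ⁻¹)) * z⁻¹ := by rw [h2]
          _ = _ := by group
      · intro s
        rw [Subgroup.mem_comap, Subgroup.mem_centralizer_singleton_iff]
        apply hinj
        have hm1 : emb hp.inList f (Ψ (sy s) * x) = emb hp.inList f (Ψ (sy s)) * emb hp.inList f x := map_mul _ _ _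
        have hm2 : emb hp.inList f (x * Ψ (sy s)) = emb hp.inList f x * emb hp.inList f (Ψ (sy s)) := map_mul _ _ _
        rw [hm1, hm2, hΨ, hθ, hQy, hx]
        have h2 := hty ((s₀ : k)⁻¹ * f s)
        calc z * κ * φ (sy ((s₀ : k)⁻¹ * f s)) * (z * κ)⁻¹ * (z * t.1 * z⁻¹) =
              z * (κ * φ (sy ((s₀ : k)⁻¹ * f s)) * κ⁻¹ * t.1) * z⁻¹ := by group
          _ = z * (t.1 * (κ * φ (sy ((s₀ : k)⁻¹ * f s)) * κ⁻¹)) * z⁻¹ := by rw [h2]
          _ = _ := by group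
    rw [Subgroup.mem_comap, Subgroup.mem_centralizer_singleton_iff] at hmem
    exact hmem.symm

include cs hk hn0 hn in
/-- **the orders of the elements of a root `SL₂(F)`** -/
theorem exists_elt {i : Fin l} (hv : ∃ v : Fin l → ℤ, pairing (cartanOf D l) i v = 1 ∨ pairing (cartanOf D l) i v = -1)
    {Ψ : Matrix.SpecialLinearGroup (Fin 2) F →* ↥(D.group F)} {P : ↥(D.group k)}
    {φ : Matrix.SpecialLinearGroup (Fin 2) k →* ↥(D.group k)} {Q : Matrix.SpecialLinearGroup (Fin 2) k}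
    (hφ : ∀ c : kˣ, φ (dg c) = hc hp i (c : k)) (hφx : ∀ s : k, φ (sx s) = xc hp (sr i) s)
    (hΨ : ∀ A, emb hp.inList f (Ψ A) = P * φ (Q * Matrix.SpecialLinearGroup.map f A * Q⁻¹) * P⁻¹) {m : ℕ}
    (hm : m = r ∨ m ∣ Nat.card F - 1 ∨ m ∣ Nat.card F + 1) : ∃ A, orderOf (Ψ A) = m := by
  classical
  have : Fintype F := Fintype.ofFinite F
  obtain ⟨v, hv⟩ := hv
  have hinj := emb_injective hp.inList f
  have hor : ∀ A, orderOf (Ψ A) = orderOf (φ (Matrix.SpecialLinearGroup.map f A)) := by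
    intro A
    rw [← orderOf_injective _ hinj, hΨ, orderOf_conj', map_mul, map_mul, map_inv, orderOf_conj']
  have hq2 : 2 ≤ Nat.card F := Finite.one_lt_card
  -- divisors of `q - 1`
  have key1 : ∀ m : ℕ, m ∣ Nat.card F - 1 → ∃ A, orderOf (Ψ A) = m := by
    intro m hm
    obtain ⟨c, hc⟩ := hm
    obtain ⟨ζ, hζ⟩ := IsCyclic.exists_generator (α := Fˣ)
    have hζo : orderOf ζ = Nat.card F - 1 := by
      rw [orderOf_eq_card_of_forall_mem_zpowers hζ, Nat.card_units]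
    have hc0 : c ≠ 0 := by
      rintro rfl
      omega
    have ho : orderOf (ζ ^ c) = m := by
      rw [orderOf_pow_of_dvd hc0 (by rw [hζo, hc]; exact Dvd.intro_left m rfl), hζo, hc]
      exact Nat.mul_div_cancel _ (Nat.pos_of_ne_zero hc0)
    refine ⟨dg (ζ ^ c), ?_⟩
    have e1 : Matrix.SpecialLinearGroup.map f (dg (ζ ^ c)) = dg (Units.map f.toMonoidHom (ζ ^ c)) := by
      apply Subtype.ext
      show (!![((ζ ^ c : Fˣ) : F), 0; 0, ((ζ ^ c : Fˣ) : F)⁻¹] : Matrix (Fin 2) (Fin 2) F).map f =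
        !![f ((ζ ^ c : Fˣ) : F), 0; 0, (f ((ζ ^ c : Fˣ) : F))⁻¹]
      ext a b
      (revert a b; simp only [_root_.Fin.forall_fin_succ, _root_.Units.val_pow_eq_pow_val, _root_.Matrix.map_apply, _root_.Matrix.of_apply, _root_.Matrix.cons_val', _root_.Matrix.cons_val_fin_one, _root_.map_pow, Fin.isValue, _root_.Matrix.cons_val_zero, _root_.Matrix.cons_val_succ, _root_.forall_const, _root_.map_zero, _root_.and_self, _root_.map_inv₀, _root_.implies_true])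
    rw [hor, e1, hφ, orderOf_hc hp hv, orderOf_injective _ (Units.map_injective f.injective), ho]
  rcases hm with rfl | hm | hm
  · refine ⟨sx 1, ?_⟩
    have C := coordsL hp cs hk m
    have hi := isRoot_sr cs hp.isCartan i
    rw [hor, map_sx, map_one, hφx]
    refine orderOf_eq_prime (X_pow hp cs m hi ?_) ?_
    · rw [(C.coord _ hi).mem]
      exact ⟨_, rfl⟩
    · exact (C.coord _ hi).ne_one one_ne_zero
  · exact key1 m hm
  · by_cases h3 : 3 ≤ m
    · -- the nonsplit torus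
      have hrm : ¬ r ∣ m := by
        intro h1
        have h2 : r ∣ Nat.card F := by rw [hn]; exact dvd_pow_self _ hn0.ne'
        have h4 := (Nat.dvd_add_right h2).1 (h1.trans hm)
        exact (Fact.out (p := r.Prime)).one_lt.ne' (Nat.dvd_one.1 h4)
      have hm0 : NeZero (m : k) := ⟨fun h1 => hrm ((CharP.cast_eq_zero_iff k r m).1 h1)⟩
      have hmN : NeZero m := ⟨by omega⟩
      obtain ⟨ζ₀, hζ₀⟩ := HasEnoughRootsOfUnity.exists_primitiveRoot k m
      have hz0 : ζ₀ ≠ 0 := hζ₀.ne_zero (by omega)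
      obtain ⟨ζ, hζ⟩ : ∃ ζ : kˣ, ζ = Units.mk0 ζ₀ hz0 := ⟨_, rfl⟩
      have hζv : (ζ : k) = ζ₀ := by rw [hζ]; rfl
      have hζo : orderOf ζ = m := by
        rw [← orderOf_units, hζv]
        exact hζ₀.eq_orderOf.symm
      -- `ζ ^ q = ζ⁻¹`
      have hζq : ζ ^ Nat.card F = ζ⁻¹ := by
        rw [eq_inv_iff_mul_eq_one, ← pow_succ, ← orderOf_dvd_iff_pow_eq_one, hζo]
        exact hm
      have hζq' : (ζ : k) ^ Nat.card F = (ζ : k)⁻¹ := by
        have := congrArg (fun a : kˣ => (a : k)) hζq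
        simpa using this
      -- the trace is in `F`
      have htr : ((ζ : k) + (ζ : k)⁻¹) ^ Nat.card F = (ζ : k) + (ζ : k)⁻¹ := by
        have h5 : ((ζ : k) + (ζ : k)⁻¹) ^ r ^ n = (ζ : k) ^ r ^ n + ((ζ : k)⁻¹) ^ r ^ n := by
          have := map_add (iterateFrobenius k r n) (ζ : k) (ζ : k)⁻¹
          simpa only [iterateFrobenius_def] using this
        rw [hn, h5, ← hn, inv_pow, hζq', inv_inv, add_comm]
      obtain ⟨t, ht⟩ : ∃ t : F, f t = (ζ : k) + (ζ : k)⁻¹ := by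
        have hroots : (Polynomial.X ^ Nat.card F - Polynomial.X : Polynomial k).roots.toFinset =
            Finset.univ.image f := by
          apply Finset.eq_of_superset_of_card_ge
          · intro a ha
            obtain ⟨b, -, rfl⟩ := Finset.mem_image.1 ha
            rw [Multiset.mem_toFinset, Polynomial.mem_roots (FiniteField.X_pow_card_sub_X_ne_zero k hq2)]
            simp only [Polynomial.IsRoot.def, Polynomial.eval_sub, Polynomial.eval_pow, Polynomial.eval_X]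
            rw [← map_pow, Nat.card_eq_fintype_card, FiniteField.pow_card, sub_self]
          · rw [Finset.card_image_of_injective _ f.injective, Finset.card_univ, ← Nat.card_eq_fintype_card]
            refine (Multiset.toFinset_card_le _).trans ((Polynomial.card_roots' _).trans ?_)
            rw [FiniteField.X_pow_card_sub_X_natDegree_eq k hq2]
        have h6 : (ζ : k) + (ζ : k)⁻¹ ∈ Finset.univ.image f := by
          rw [← hroots, Multiset.mem_toFinset, Polynomial.mem_roots (FiniteField.X_pow_card_sub_X_ne_zero k hq2)]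
          simp only [Polynomial.IsRoot.def, Polynomial.eval_sub, Polynomial.eval_pow, Polynomial.eval_X]
          rw [htr, sub_self]
        obtain ⟨b, -, hb⟩ := Finset.mem_image.1 h6
        exact ⟨b, hb⟩
      have hne : (ζ : k) ≠ (ζ : k)⁻¹ := by
        intro h5
        have h6 : ζ ^ 2 = 1 := by
          apply Units.ext
          rw [Units.val_pow_eq_pow_val, Units.val_one, pow_two]
          nth_rw 2 [h5]
          exact mul_inv_cancel₀ ζ.ne_zero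
        have h7 := orderOf_dvd_of_pow_eq_one h6
        rw [hζo] at h7
        have := Nat.le_of_dvd (by norm_num) h7
        omega
      obtain ⟨A, R, hA⟩ := exists_diag f hne ht.symm
      refine ⟨A, ?_⟩
      rw [hor, hA, map_mul, map_mul, map_inv, orderOf_conj', hφ, orderOf_hc hp hv, hζo]
    · -- `m = 1, 2`
      have hm0 : m ≠ 0 := by
        rintro rfl
        have := Nat.eq_zero_of_zero_dvd hm
        omega
      have h12 : m = 1 ∨ m = 2 := by omega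
      rcases h12 with rfl | rfl
      · exact key1 1 (one_dvd _)
      · exact key1 2 (by omega)

end Main

/-! ### the finite group -/

/-- **A torus element commuting with elements of a root `SL₂(q)`** -/
theorem exists_comm_sl {d : ℕ} {B : Fin l → Fin l → ℤ} (hB : Cfsg.Agent.BpExc.FamExt.InvC D l d B) (hd : d ≠ 0)
    (hpair : ∀ i : Fin l, ∃ v : Fin l → ℤ, pairing (cartanOf D l) i v = 1 ∨ pairing (cartanOf D l) i v = -1)
    {F : Type u} [Field F] [Finite F]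
    {w : W} {a : Fin l → ℤ} (ha : IsRoot cs hp.isCartan a) (hwa : rep cs hp.isCartan w a = a)
    {ℓ : ℕ} (hℓ : ℓ.Prime) (hℓq : ¬ ℓ ∣ Nat.card F - 1)
    (hy : ∃ y : Multiplicative (Co (rep cs hp.isCartan w - ((Nat.card F : ℕ) : ℤ) •
      (1 : Module.End ℤ (Fin l → ℤ)))), orderOf y = ℓ) {p : ℕ} [Fact p.Prime] [CharP F p] :
    ∃ x : ↥(D.group F), orderOf x = ℓ ∧ ∀ m : ℕ, (m = p ∨ m ∣ Nat.card F - 1 ∨ m ∣ Nat.card F + 1) →
      ∃ y : ↥(D.group F), orderOf y = m ∧ Commute x y := by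
  obtain ⟨k, _, _, f, r, _, hc, n, hk, -, hn0, hn⟩ := exists_closure F
  have hrp : r = p := by
    have := charP_of_injective_ringHom f.injective p
    exact CharP.eq k hc this
  obtain ⟨v, i, rfl⟩ := ha
  obtain ⟨x, Ψ, P, φ, Q, hx, hcomm, hφ, hφx, hΨ⟩ := exists_sl_aux hp cs hk r f hn0 hn hB hd hwa hℓ hℓq hy
  refine ⟨x, hx, fun m hm => ?_⟩
  obtain ⟨A, hA⟩ := exists_elt hp cs hk r f hn0 hn (hpair i) hφ hφx hΨ (m := m) (by rwa [hrp])
  exact ⟨Ψ A, hA, hcomm A⟩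

include hp cs in
/-- **the same from a row** -/
theorem exists_row_sl [Finite W] {d : ℕ} {B : Fin l → Fin l → ℤ} (hB : Cfsg.Agent.BpExc.FamExt.InvC D l d B) (hd0 : d ≠ 0)
    (hpair : ∀ i : Fin l, ∃ v : Fin l → ℤ, pairing (cartanOf D l) i v = 1 ∨ pairing (cartanOf D l) i v = -1)
    {A : Cfsg.Agent.H129.WData.Mat l} (hA : ∀ i j, A i j = cartanOf D l i j) {L : List (Fin l × Cfsg.Agent.H129.WData.Mat l)} {r : ℕ}
    (hr : r < D.nroots)
    {f : ℕ} {c : Fin (f + 1) → ℤ} {V : Fin (f + 1) → Fin l → ℤ} {U : Fin l → ℤ}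
    (h : H378.AdjTab.RowOK A L (vec D l r) c V U) {F : Type u} [Field F] [Finite F] {ℓ : ℕ} (hℓ : ℓ.Prime)
    (hℓq : ¬ ℓ ∣ Nat.card F - 1) (hdv : (ℓ : ℤ) ∣ Cfsg.Agent.H493.PGTorus.pv c (Nat.card F : ℕ)) {p : ℕ} [Fact p.Prime] [CharP F p] :
    ∃ x : ↥(D.group F), orderOf x = ℓ ∧ ∀ m : ℕ, (m = p ∨ m ∣ Nat.card F - 1 ∨ m ∣ Nat.card F + 1) →
      ∃ y : ↥(D.group F), orderOf y = m ∧ Commute x y := by
  obtain ⟨h1, h2, h3⟩ := h
  exact exists_comm_sl hp cs hB hd0 hpair (isRoot_vec hp cs hr) (H378.AdjTab.fixes_of_row hp cs hA h1 h2) hℓ hℓq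
    (H378.AdjTab.exists_order_row hp cs hA h1 h3 Finite.one_lt_card hℓ.pos hdv)

theorem emb_zz {F : Type u} [Field F] (f : F →+* k) (r : ℕ) (s : F) :
    emb hp.inList f (zz hp r s) = zz hp r (f s) := by
  apply Subtype.ext
  rw [coe_emb]
  exact glMap_xG hp.inList f r s

include hp in
/-- **An element of the split torus commuting with elements of a root `SL₂(q)`** -/
theorem exists_split_sl (hpair : ∀ i : Fin l, ∃ v : Fin l → ℤ, pairing (cartanOf D l) i v = 1 ∨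
    pairing (cartanOf D l) i v = -1) {i j : Fin l} (hij : D.cartan j (D.simple i) = 0)
    {F : Type u} [Field F] [Finite F] {ℓ : ℕ} (hℓq : ℓ ∣ Nat.card F - 1) {p : ℕ} [Fact p.Prime] [CharP F p] :
    ∃ x : ↥(D.group F), orderOf x = ℓ ∧ ∀ m : ℕ, (m = p ∨ m ∣ Nat.card F - 1 ∨ m ∣ Nat.card F + 1) →
      ∃ y : ↥(D.group F), orderOf y = m ∧ Commute x y := by
  let cs : CoxeterSystem M M.Group := M.toCoxeterSystem
  obtain ⟨k, _, _, f, r, _, hchk, n, hk, -, hn0, hn⟩ := exists_closure F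
  have hrp : r = p := by
    have := charP_of_injective_ringHom f.injective p
    exact CharP.eq k hchk this
  subst hrp
  have hchF : CharP F r := inferInstance
  have hkF := H378.SmallTor.locFin_of_finite F
  have C := coordsL hp cs hkF r
  have hi := _root_.Cfsg.Agent.ChevalleyStructure.NPerm.simple_lt hp.inList (lt_rank hp i)
  obtain ⟨Ψ, h1, h2, h3⟩ := exists_sl2 hp F hi
  obtain ⟨φ, h1', h2', h3'⟩ := exists_sl2 hp k hi
  have hcomp : ∀ A, emb hp.inList f (Ψ A) = φ (Matrix.SpecialLinearGroup.map f A) := by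
    intro A
    have hA : A ∈ MonoidHom.eqLocus ((emb hp.inList f).comp Ψ) (φ.comp (Matrix.SpecialLinearGroup.map f)) := by
      apply sl_mem
      · intro s
        show emb hp.inList f (Ψ (sx s)) = φ (Matrix.SpecialLinearGroup.map f (sx s))
        rw [h1, map_sx, h1', emb_zz]
      · intro s
        show emb hp.inList f (Ψ (sy s)) = φ (Matrix.SpecialLinearGroup.map f (sy s))
        rw [h2, map_sy, h2', emb_zz]
    exact hA
  -- the element
  obtain ⟨c, hcq⟩ := hℓq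
  have hq2 : 2 ≤ Nat.card F := Finite.one_lt_card
  obtain ⟨ζ, hζ⟩ := IsCyclic.exists_generator (α := Fˣ)
  have hζo : orderOf ζ = Nat.card F - 1 := by
    rw [orderOf_eq_card_of_forall_mem_zpowers hζ, Nat.card_units]
  have hc0 : c ≠ 0 := by
    rintro rfl
    omega
  have ho : orderOf (ζ ^ c) = ℓ := by
    rw [orderOf_pow_of_dvd hc0 (by rw [hζo, hcq]; exact Dvd.intro_left ℓ rfl), hζo, hcq]
    exact Nat.mul_div_cancel _ (Nat.pos_of_ne_zero hc0)
  obtain ⟨η, hη⟩ : ∃ η, η = ζ ^ c := ⟨_, rfl⟩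
  rw [← hη] at ho
  obtain ⟨v, hv⟩ := hpair j
  have hT := hc_mem hp j η.ne_zero
  have hri : IsRoot cs hp.isCartan (sr i) := isRoot_sr cs hp.isCartan i
  refine ⟨hc hp j (η : F), by rw [orderOf_hc hp hv, ho], fun m hm => ?_⟩
  obtain ⟨A, hA⟩ := exists_elt hp cs hk r f hn0 hn (hpair i) (Ψ := Ψ) (P := 1) (φ := φ) (Q := 1) (m := m)
    (fun c => h3' c) (fun s => by rw [h1', zz_simple]) (fun A => by rw [hcomp]; group) hm
  refine ⟨Ψ A, hA, ?_⟩
  have hmem : A ∈ (Subgroup.centralizer ({hc hp j (η : F)} : Set ↥(D.group F))).comap Ψ := by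
    apply sl_mem
    · intro s
      rw [Subgroup.mem_comap, Subgroup.mem_centralizer_singleton_iff, h1, zz_simple]
      have h5 := (C.coord _ hri).act _ hT s
      have h6 : ch hp (sr i) (hc hp j (η : F)) = 1 := by
        rw [← vec_simple hp i, ch_hc hp j η.ne_zero hi, hij, zpow_zero]
      rw [h6, one_mul] at h5
      exact (mul_inv_eq_iff_eq_mul.1 h5).symm
    · intro s
      rw [Subgroup.mem_comap, Subgroup.mem_centralizer_singleton_iff, h2, zz_neg_simple]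
      have h5 := (C.coord _ hri.neg).act _ hT s
      have h6 : ch hp (-sr i) (hc hp j (η : F)) = 1 := by
        rw [← vec_simple hp i, H378.SmallTor.ch_neg hp hi j η.ne_zero hij]
      rw [h6, one_mul] at h5
      exact (mul_inv_eq_iff_eq_mul.1 h5).symm
  rw [Subgroup.mem_comap, Subgroup.mem_centralizer_singleton_iff] at hmem
  exact hmem.symm

end Cfsg.Agent.H962.RootSL
end

-- part: H962/E7/FactsE8
section
/-!
# S3482: facts on `E₈(u)` (helper962)
-/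

set_option autoImplicit false
set_option linter.unusedSectionVars false

namespace Cfsg.Agent.H962.E7

open Subgroup Cfsg Cfsg.Lie Cfsg.Lie.ChevalleyDatum
open Cfsg.Agent.H436 Cfsg.Agent.H500.E7
open Cfsg.Agent.ChevalleyStructure.CoxeterGeomTypes Cfsg.Agent.ChevalleyStructure.CoxeterGeom
open Cfsg.Agent.Nodes.RGDChev Cfsg.Agent.BpExc.FamExt Cfsg.Agent.BpExc.FamInst Cfsg.Agent.BpExc.RowsUntw
open Cfsg.Agent.H378.AdjTab Cfsg.Agent.H378.CycTab Cfsg.Agent.H378.ExcAdj Cfsg.Agent.H378.ExcNear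
open Cfsg.Agent.Tits.Roots Cfsg.Agent.Tits.Core

universe u

theorem prim_iff {q i r : ℕ} (hq : 1 ≤ q) (hr : r.Prime) (hi : 0 < i) : Prim q i r ↔ orderOf (q : ZMod r) = i := by
  have key : ∀ m : ℕ, r ∣ q ^ m - 1 ↔ orderOf (q : ZMod r) ∣ m := by
    intro m
    rw [orderOf_dvd_iff_pow_eq_one]
    have h1 : 1 ≤ q ^ m := Nat.one_le_pow _ _ hq
    rw [← ZMod.natCast_eq_zero_iff (q ^ m - 1) r, Nat.cast_sub h1, Nat.cast_pow, Nat.cast_one, sub_eq_zero]
  constructor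
  · intro h
    apply Nat.dvd_antisymm
    · rw [← key]
      exact h.dvd dvd_rfl
    · rw [← h.dvd_iff, key]
  · intro h
    refine { prime := hr, not_dvd := ?_, dvd_iff := fun m => by rw [key, h] }
    intro h1
    have h2 : ((q : ℕ) : ZMod r) = 0 := (ZMod.natCast_eq_zero_iff q r).2 h1
    rw [h2] at h
    have hf : Fact r.Prime := ⟨hr⟩
    have h3 : (0 : ZMod r) ^ i = 1 := by rw [← h]; exact pow_orderOf_eq_one _
    rw [zero_pow hi.ne'] at h3
    exact zero_ne_one h3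

theorem pair8 : ∀ i : Fin 8, ∃ v : Fin 8 → ℤ, pairing (cartanOf chevE8 8) i v = 1 ∨ pairing (cartanOf chevE8 8) i v = -1 := by
  have h : ∀ i : Fin 8, ∃ j : Fin 8, cartanOf chevE8 8 i j = -1 := by decide +kernel
  intro i
  obtain ⟨j, hj⟩ := h i
  refine ⟨sr j, Or.inr ?_⟩
  rw [← hj]
  unfold pairing
  rw [Finset.sum_eq_single j]
  · rw [sr_self, mul_one]
  · intro k _ hk
    rw [sr_ne hk, mul_zero]
  · intro h1
    exact absurd (Finset.mem_univ j) h1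

section

variable {F : Type u} [Field F] [Finite F]

/-- a prime not isolated commutes with a root `SL₂(q)` -/
theorem low_E8 {p : ℕ} [Fact p.Prime] [CharP F p] {r : ℕ} (hr : r.Prime) (hd : r ∣ Nat.card ↥(chevE8.group F))
    (hrq : ¬ r ∣ Nat.card F) (h15 : od (Nat.card F) r ≠ 15) (h20 : od (Nat.card F) r ≠ 20)
    (h24 : od (Nat.card F) r ≠ 24) (h30 : od (Nat.card F) r ≠ 30) :
    ∃ x : ↥(chevE8.group F), orderOf x = r ∧ ∀ m : ℕ, (m = p ∨ m ∣ Nat.card F - 1 ∨ m ∣ Nat.card F + 1) →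
      ∃ y : ↥(chevE8.group F), orderOf y = m ∧ Commute x y := by
  let cs : CoxeterSystem CoxeterMatrix.E₈ CoxeterMatrix.E₈.Group := CoxeterMatrix.E₈.toCoxeterSystem
  have := finite_W e8T cs
  have hq : 1 ≤ Nat.card F := Nat.card_pos
  have hn1 : ∀ {m : ℕ}, m ≠ 1 → od (Nat.card F) r = m → ¬ r ∣ Nat.card F - 1 := by
    intro m hm h3 h4
    have h5 : od (Nat.card F) r ∣ 1 := od_dvd hq (by rw [pow_one]; exact h4)
    rw [h3] at h5
    exact hm (Nat.dvd_one.1 h5)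
  rcases od_E8 hr hd with h | h | h | h | h | h | h | h | h | h | h | h | h | h | h | h | h | h
  · exact absurd h hrq
  · exact H962.RootSL.exists_split_sl e8T pair8 (i := 7) (j := 0) (by decide +kernel) (dvd_of_od_one hq h)
  · exact H962.RootSL.exists_row_sl e8T cs inv_E8 one_ne_zero pair8 H378.AdjE8.hA H378.AdjE8.lt_nroots
      H378.AdjE8.row2 hr (hn1 (by decide) h) (dvd2 hr h)
  · exact H962.RootSL.exists_row_sl e8T cs inv_E8 one_ne_zero pair8 H378.AdjE8.hA H378.AdjE8.lt_nroots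
      H378.AdjE8.row3 hr (hn1 (by decide) h) (dvd3 hr h)
  · exact H962.RootSL.exists_row_sl e8T cs inv_E8 one_ne_zero pair8 H378.AdjE8.hA H378.AdjE8.lt_nroots
      H378.AdjE8.row4 hr (hn1 (by decide) h) (dvd4 hr h)
  · exact H962.RootSL.exists_row_sl e8T cs inv_E8 one_ne_zero pair8 H378.AdjE8.hA H378.AdjE8.lt_nroots
      H378.AdjE8.row5 hr (hn1 (by decide) h) (dvd5 hr h)
  · exact H962.RootSL.exists_row_sl e8T cs inv_E8 one_ne_zero pair8 H378.AdjE8.hA H378.AdjE8.lt_nroots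
      H378.AdjE8.row6 hr (hn1 (by decide) h) (dvd6 hr h)
  · exact H962.RootSL.exists_row_sl e8T cs inv_E8 one_ne_zero pair8 H378.AdjE8.hA H378.AdjE8.lt_nroots
      H378.AdjE8.row7 hr (hn1 (by decide) h) (dvd7 hr h)
  · exact H962.RootSL.exists_row_sl e8T cs inv_E8 one_ne_zero pair8 H378.AdjE8.hA H378.AdjE8.lt_nroots
      H378.AdjE8.row8 hr (hn1 (by decide) h) (dvd8 hr h)
  · exact H962.RootSL.exists_row_sl e8T cs inv_E8 one_ne_zero pair8 H378.AdjE8.hA H378.AdjE8.lt_nroots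
      H378.AdjE8.row9 hr (hn1 (by decide) h) (dvd9 hr h)
  · exact H962.RootSL.exists_row_sl e8T cs inv_E8 one_ne_zero pair8 H378.AdjE8.hA H378.AdjE8.lt_nroots
      H378.AdjE8.row10 hr (hn1 (by decide) h) (dvd10 hr h)
  · exact H962.RootSL.exists_row_sl e8T cs inv_E8 one_ne_zero pair8 H378.AdjE8.hA H378.AdjE8.lt_nroots
      H378.AdjE8.row12 hr (hn1 (by decide) h) (dvd12 hr h)
  · exact H962.RootSL.exists_row_sl e8T cs inv_E8 one_ne_zero pair8 H378.AdjE8.hA H378.AdjE8.lt_nroots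
      H378.AdjE8.row14 hr (hn1 (by decide) h) (dvd14 hr h)
  · exact absurd h h15
  · exact H962.RootSL.exists_row_sl e8T cs inv_E8 one_ne_zero pair8 H378.AdjE8.hA H378.AdjE8.lt_nroots
      H378.AdjE8.row18 hr (hn1 (by decide) h) (dvd18 hr h)
  · exact absurd h h20
  · exact absurd h h24
  · exact absurd h h30

theorem mem_I8 {i : ℕ} (hi : i ∈ I8) : i = 15 ∨ i = 20 ∨ i = 24 ∨ i = 30 := by
  simpa only [I8, Finset.mem_insert, Finset.mem_singleton] using hi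

theorem exi_E8 {i : ℕ} (hi : i ∈ I8) : ∃ x : ↥(chevE8.group F), orderOf x = Ph i (Nat.card F) := by
  have hu : 2 ≤ Nat.card F := Finite.one_lt_card
  rcases mem_I8 hi with rfl | rfl | rfl | rfl
  · obtain ⟨x, hx⟩ := H414.Iso.e8_order15 (F := F)
    refine ⟨x, ?_⟩
    rw [hx, Ph, H416.Arith.eval_15, ← H414.Iso.cast15 hu, Int.natAbs_natCast]
  · obtain ⟨x, hx⟩ := H414.Iso.e8_order20 (F := F)
    refine ⟨x, ?_⟩
    rw [hx, Ph, H414.Iso.e8_eval20, ← H414.Iso.cast20 hu, Int.natAbs_natCast]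
  · obtain ⟨x, hx⟩ := H414.Iso.e8_order24 (F := F)
    refine ⟨x, ?_⟩
    rw [hx, Ph, H416.Arith.eval_24, ← H414.Iso.cast24 hu, Int.natAbs_natCast]
  · obtain ⟨x, hx⟩ := H414.Iso.e8_order30 (F := F)
    refine ⟨x, ?_⟩
    rw [hx, Ph, H416.Arith.eval_30, ← H414.Iso.cast30 hu, Int.natAbs_natCast]

/-- a power of prime order -/
theorem exists_pow_prime {G : Type*} [Group G] [Finite G] {x : G} {r : ℕ} (h : r ∣ orderOf x) :
    ∃ k : ℕ, orderOf (x ^ k) = r := by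
  obtain ⟨k, hk⟩ := h
  have hx0 : 0 < orderOf x := orderOf_pos x
  have hk0 : k ≠ 0 := by rintro rfl; rw [mul_zero] at hk; omega
  exact ⟨k, by rw [orderOf_pow_of_dvd hk0 (Dvd.intro_left _ hk.symm), hk, Nat.mul_div_cancel _ (Nat.pos_of_ne_zero hk0)]⟩

theorem top_E8 {i : ℕ} (hi : i ∈ I8) (x : ↥(chevE8.group F)) {r : ℕ} (hr : Prim (Nat.card F) i r)
    (hx : r ∣ orderOf x) : orderOf x ∣ Ph i (Nat.card F) := by
  have hi4 := mem_I8 hi
  have hod : od (Nat.card F) r = i := (prim_iff Nat.card_pos hr.prime (by omega)).1 hr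
  obtain ⟨k, hk⟩ := exists_pow_prime hx
  have h1 := (H378.RegFin.cent_od e8T inv_E8 one_ne_zero hr.prime hk hod
    (by rcases hi4 with rfl | rfl | rfl | rfl <;> decide) (by omega)).2
  refine Dvd.dvd.trans ?_ h1
  have hc : x ∈ Subgroup.centralizer {x ^ k} := by
    rw [Subgroup.mem_centralizer_singleton_iff, ← pow_succ, ← pow_succ']
  rw [← Subgroup.orderOf_mk x hc]
  exact _root_.orderOf_dvd_natCard _

end

/-- **the facts on `E₈(u)`** -/
theorem fE8 {v u : ℕ} (hv : v.Prime) (hu : ∃ f, 1 ≤ f ∧ u = v ^ f) {S : Type u} [Group S] [Finite S]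
    (h : IsNamed (.e8 u) S) : FE8 v u S := by
  obtain ⟨F, _, _, hF, ⟨e⟩⟩ := h.real
  obtain ⟨f, hf, rfl⟩ := hu
  have hcF : Nat.card F = v ^ f := by rw [Nat.card_eq_fintype_card, hF]
  have hvf : Fact v.Prime := ⟨hv⟩
  have hch : CharP F v := by
    obtain ⟨c, hc⟩ := CharP.exists F
    have hcp : c.Prime := CharP.char_is_prime F c
    obtain ⟨n, -, hn⟩ := FiniteField.card F c
    rw [hF] at hn
    have h1 : c ∣ v ^ f := by rw [hn]; exact dvd_pow_self c n.ne_zero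
    have h2 := (Nat.prime_dvd_prime_iff_eq hcp hv).1 (hcp.dvd_of_dvd_pow h1)
    rwa [h2] at hc
  have hq : 1 ≤ Nat.card F := Nat.card_pos
  have hor : ∀ y : ↥(chevE8.group F), orderOf (e.symm y) = orderOf y := fun y => MulEquiv.orderOf_eq _ _
  refine ⟨?_, ?_, ?_, ?_⟩
  · intro r hr hd hrv hI
    rw [Nat.card_congr e.toEquiv] at hd
    have hrq : ¬ r ∣ Nat.card F := by
      rw [hcF]
      intro h1
      exact hrv ((Nat.prime_dvd_prime_iff_eq hr hv).1 (hr.dvd_of_dvd_pow h1))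
    have hne : ∀ i ∈ I8, od (Nat.card F) r ≠ i := by
      intro i hi h1
      apply hI i hi
      rw [← hcF]
      exact (prim_iff hq hr (by have := mem_I8 hi; omega)).2 h1
    obtain ⟨x, hx, hxy⟩ := low_E8 (p := v) hr hd hrq (hne 15 (by decide)) (hne 20 (by decide)) (hne 24 (by decide))
      (hne 30 (by decide))
    refine ⟨e.symm x, by rw [hor, hx], fun n hn => ?_⟩
    obtain ⟨y, hy, hc⟩ := hxy n (by
      simp only [Finset.mem_insert, Finset.mem_singleton] at hn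
      rw [hcF]
      rcases hn with rfl | rfl | rfl
      · exact Or.inl rfl
      · exact Or.inr (Or.inl dvd_rfl)
      · exact Or.inr (Or.inr dvd_rfl))
    exact ⟨e.symm y, by rw [hor, hy], hc.map e.symm.toMonoidHom⟩
  · intro hv2
    have h2 : 2 ∣ Nat.card F - 1 := by
      rw [hcF]
      have h1 : Odd (v ^ f) := (hv.odd_of_ne_two hv2).pow
      obtain ⟨m, hm⟩ := h1
      exact ⟨m, by omega⟩
    obtain ⟨x, hx, hxy⟩ := H962.RootSL.exists_split_sl e8T pair8 (i := 7) (j := 0) (by decide +kernel) h2 (p := v)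
    obtain ⟨y, hy, hc⟩ := hxy v (Or.inl rfl)
    refine ⟨e.symm (x * y), ?_⟩
    rw [hor, hc.orderOf_mul_eq_mul_orderOf_of_coprime, hx, hy]
    rw [hx, hy]
    exact (Nat.coprime_primes Nat.prime_two hv).2 (Ne.symm hv2)
  · intro i hi
    obtain ⟨x, hx⟩ := exi_E8 (F := F) hi
    exact ⟨e.symm x, by rw [hor, hx, hcF]⟩
  · intro i hi x r hr hx
    have h1 := top_E8 (F := F) hi (e x) (r := r) (by rw [hcF]; exact hr) (by rw [MulEquiv.orderOf_eq]; exact hx)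
    rwa [MulEquiv.orderOf_eq, hcF] at h1

end Cfsg.Agent.H962.E7
end

-- part: H791/E7/Own
section
/-!
# S3482, part R7: own characteristic, by exponents (helper791)

`Core` : `Row p k S`, the order of `S` of the shape of the family `fam` over the field with `p ^ f` elements; then
`fam = .e7` and `f = k`.
-/

set_option autoImplicit false

namespace Cfsg.Agent.H791.E7

open Cfsg.Agent.H436 Cfsg.Agent.H426.LieFam Cfsg.Agent.H414.LieShape Cfsg.Agent.H962.E7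

universe u

/-- a factor contains the primes of exponent `e` -/
def Good (f e : ℕ) : Fac → Prop
  | .sub j => e ∣ f * j
  | .add j => e ∣ 2 * (f * j) ∧ ¬ e ∣ f * j
  | .tri => e ∣ 12 * f

theorem Good.ex {f e : ℕ} {x : Fac} (h : Good f e x) : e ∣ ex f x := by
  cases x with
  | sub j => exact h
  | add j => exact h.1
  | tri => exact h

theorem prim_pow {p k i u : ℕ} (hk : 1 ≤ k) (h : Prim p (k * i) u) : Prim (p ^ k) i u := by
  refine ⟨h.prime, fun m => ?_, h.not_dvd_pow k⟩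
  rw [← pow_mul, h.dvd_iff, Nat.mul_dvd_mul_iff_left hk]

theorem good_of_dvd {p f e u : ℕ} (hp : 1 ≤ p) (h : Prim p e u) (he : 2 ≤ e) {x : Fac} (hx : u ∣ x.val (p ^ f)) :
    Good f e x := by
  have h1 := Prim_ex_dvd h hp hx
  cases x with
  | sub j => exact h1
  | add j =>
    refine ⟨h1, fun h2 => ?_⟩
    change u ∣ (p ^ f) ^ j + 1 at hx
    rw [← pow_mul] at hx
    have h3 := h.dvd h2
    have h4 : 1 ≤ p ^ (f * j) := Nat.one_le_pow _ _ hp
    have h5 := Nat.dvd_sub hx h3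
    have h6 : p ^ (f * j) + 1 - (p ^ (f * j) - 1) = 2 := by omega
    rw [h6] at h5
    have h7 := h.odd he
    have h8 := Nat.le_of_dvd (by norm_num) h5
    have := h.prime.two_le
    have : u = 2 := by omega
    omega
  | tri => exact h1

section core

variable {p k : ℕ} {S : Type u} [Group S] (R : Row p k S)

include R

theorem two_le_p : 2 ≤ p := R.hp.two_le

/-- **(A)** -/
theorem partA {f d N : ℕ} {l : List Fac} (h : Sh p (Nat.card S) f d N l) {x : Fac} (hx : x ∈ l) (h3 : 3 ≤ ex f x)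
    (h6 : ¬ (p = 2 ∧ ex f x = 6)) : ∃ i, (i = 8 ∨ i = 10 ∨ i = 12 ∨ i = 14 ∨ i = 18) ∧ ex f x ∣ k * i := by
  refine h.all_ex R.hp (fun e => ∃ i, (i = 8 ∨ i = 10 ∨ i = 12 ∨ i = 14 ∨ i = 18) ∧ e ∣ k * i) ?_ hx h3 h6
  intro e u _ hu hd
  rcases R.pi u hu.prime hd with h1 | ⟨i, hi, h1⟩
  · exact absurd (by rw [h1]) hu.not_dvd
  · refine ⟨i, by simpa using hi, ?_⟩
    rw [← pow_mul] at h1
    exact (hu.dvd_iff _).1 h1

/-- the large exponents -/
theorem partA' {f d N : ℕ} {l : List Fac} (h : Sh p (Nat.card S) f d N l) {x : Fac} (hx : x ∈ l)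
    (h7 : 7 * k < ex f x) : ex f x = 8 * k ∨ ex f x = 9 * k ∨ ex f x = 10 * k ∨ ex f x = 12 * k ∨ ex f x = 14 * k ∨
      ex f x = 18 * k := by
  have hk := R.hk
  obtain ⟨i, hi, t, ht⟩ := partA R h hx (by omega) (by omega)
  have ht0 : t ≠ 0 := by
    rintro rfl
    rw [mul_zero] at ht
    rcases hi with rfl | rfl | rfl | rfl | rfl <;> (clear * - hk ht; omega)
  have ht2 : t ≤ 2 := by
    by_contra hlt
    have h1 : ex f x * 3 ≤ ex f x * t := Nat.mul_le_mul_left _ (by omega)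
    rcases hi with rfl | rfl | rfl | rfl | rfl <;> (clear * - h7 h1 ht; omega)
  have ht' : t = 1 ∨ t = 2 := by omega
  rcases ht' with rfl | rfl <;> rcases hi with rfl | rfl | rfl | rfl | rfl <;> omega

/-- all exponents are at most `18 k` -/
theorem ex_le {f d N : ℕ} {l : List Fac} (h : Sh p (Nat.card S) f d N l) {x : Fac} (hx : x ∈ l) : ex f x ≤ 18 * k := by
  by_contra hlt
  have := partA' R h hx (by omega)
  omega

/-- **(B)** a class contained in the order -/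
theorem partB {f d N i : ℕ} {l : List Fac} (h : Sh p (Nat.card S) f d N l) (hi : i ∈ C8) (hF : Fl S (p ^ k) i) :
    ∃ x ∈ l, Good f (k * i) x := by
  have hk := R.hk
  have h2 := two_le_p R
  have hi5 : 5 ≤ i ∧ i ≠ 6 := by
    simp only [C8, Finset.mem_insert, Finset.mem_singleton] at hi
    omega
  have h5 : 5 ≤ k * i := by nlinarith
  have h6 : k * i ≠ 6 := by
    intro h6
    rcases (show k = 1 ∨ 2 ≤ k by omega) with rfl | hk2
    · omega
    · nlinarith only [hi5, h6, hk2]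
  obtain ⟨u, hu⟩ := exists_prim h2 (show 3 ≤ k * i by omega) (fun h => h6 h.2)
  obtain ⟨x, hx, hxd, -⟩ := h.exists_ex R.hp hu (hF.dvd u (prim_pow hk hu))
  exact ⟨x, hx, good_of_dvd (by omega) hu (by omega) hxd⟩

theorem part18 {f d N : ℕ} {l : List Fac} (h : Sh p (Nat.card S) f d N l) (hpos : ∀ x ∈ l, 0 < ex f x) :
    ∃ x ∈ l, ex f x = 18 * k := by
  have hk := R.hk
  obtain ⟨x, hx, hg⟩ := partB R h (i := 18) (by decide) (R.top 18 (by decide))
  refine ⟨x, hx, le_antisymm (ex_le R h hx) ?_⟩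
  have := Nat.le_of_dvd (hpos x hx) hg.ex
  omega

theorem part14 {f d N : ℕ} {l : List Fac} (h : Sh p (Nat.card S) f d N l) (hpos : ∀ x ∈ l, 0 < ex f x) :
    ∃ x ∈ l, ex f x = 14 * k := by
  have hk := R.hk
  obtain ⟨x, hx, hg⟩ := partB R h (i := 14) (by decide) (R.top 14 (by decide))
  refine ⟨x, hx, ?_⟩
  have h1 := ex_le R h hx
  have h2 := hpos x hx
  obtain ⟨t, ht⟩ := hg.ex
  have ht0 : t ≠ 0 := by
    rintro rfl
    omega
  have ht1 : t < 2 := by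
    by_contra hlt
    have h3 : k * 14 * 2 ≤ k * 14 * t := Nat.mul_le_mul_left _ (by omega)
    omega
  have : t = 1 := by omega
  subst this
  omega

/-- an exponent between `14 k` and `18 k` is one of them -/
theorem mid {f d N : ℕ} {l : List Fac} (h : Sh p (Nat.card S) f d N l) {x : Fac} (hx : x ∈ l)
    (h14 : 14 * k ≤ ex f x) : ex f x = 14 * k ∨ ex f x = 18 * k := by
  have hk := R.hk
  have := partA' R h hx (by omega)
  omega

theorem no_psl {f d N n : ℕ} (hn : 2 ≤ n) (h : Sh p (Nat.card S) f d N (Fam.psl n).facs) : False := by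
  have hk := R.hk
  have hf := h.f_pos
  have hmem : ∀ j, 2 ≤ j → j ≤ n → Fac.sub j ∈ (Fam.psl n).facs := fun j h1 h2 =>
    List.mem_map.2 ⟨j - 2, List.mem_range.2 (by omega), by rw [show j - 2 + 2 = j by omega]⟩
  have hcas : ∀ x ∈ (Fam.psl n).facs, ∃ j, 2 ≤ j ∧ j ≤ n ∧ x = Fac.sub j := by
    intro x hx
    obtain ⟨i, hi, rfl⟩ := List.mem_map.1 hx
    rw [List.mem_range] at hi
    exact ⟨i + 2, by omega, by omega, rfl⟩
  have hpos : ∀ x ∈ (Fam.psl n).facs, 0 < ex f x := by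
    intro x hx
    obtain ⟨j, h1, -, rfl⟩ := hcas x hx
    exact Nat.mul_pos (by omega) (by omega)
  obtain ⟨x, hx, hx18⟩ := part18 R h hpos
  obtain ⟨y, hy, hy14⟩ := part14 R h hpos
  obtain ⟨a, ha1, ha2, rfl⟩ := hcas x hx
  obtain ⟨b, hb1, hb2, rfl⟩ := hcas y hy
  change f * a = 18 * k at hx18
  change f * b = 14 * k at hy14
  have h1 := ex_le R h (hmem n hn le_rfl)
  change f * n ≤ 18 * k at h1
  have h2 : f * a ≤ f * n := Nat.mul_le_mul_left _ ha2
  have hbn : b < n := by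
    by_contra hlt
    have : b = n := by omega
    subst this
    omega
  obtain ⟨c, rfl⟩ : ∃ c, n = c + 1 := ⟨n - 1, by omega⟩
  have h3 : f * b ≤ f * c := Nat.mul_le_mul_left _ (by omega)
  have h4 := mid R h (hmem c (by omega) (by omega)) (show 14 * k ≤ f * c by omega)
  change f * c = 14 * k ∨ f * c = 18 * k at h4
  rw [mul_add, mul_one] at h1 h2
  have hf4 : f = 4 * k := by omega
  subst hf4
  have h5 : k * (4 * c) = k * 14 := by
    have : 4 * k * c = k * (4 * c) := by ring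
    omega
  have := Nat.eq_of_mul_eq_mul_left hk h5
  omega

theorem no_sp {f d N m : ℕ} (hm : 1 ≤ m) (h : Sh p (Nat.card S) f d N (Fam.psp m).facs) : False := by
  have hk := R.hk
  have hf := h.f_pos
  have hmem : ∀ j, 1 ≤ j → j ≤ m → Fac.sub (2 * j) ∈ (Fam.psp m).facs := fun j h1 h2 =>
    List.mem_map.2 ⟨j - 1, List.mem_range.2 (by omega), by rw [show j - 1 + 1 = j by omega]⟩
  have hcas : ∀ x ∈ (Fam.psp m).facs, ∃ j, 1 ≤ j ∧ j ≤ m ∧ x = Fac.sub (2 * j) := by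
    intro x hx
    obtain ⟨i, hi, rfl⟩ := List.mem_map.1 hx
    rw [List.mem_range] at hi
    exact ⟨i + 1, by omega, by omega, rfl⟩
  have hpos : ∀ x ∈ (Fam.psp m).facs, 0 < ex f x := by
    intro x hx
    obtain ⟨j, h1, -, rfl⟩ := hcas x hx
    exact Nat.mul_pos (by omega) (by omega)
  have hex : ∀ j, ex f (Fac.sub (2 * j)) = 2 * (f * j) := fun j => by
    change f * (2 * j) = _
    ring
  obtain ⟨x, hx, hx18⟩ := part18 R h hpos
  obtain ⟨y, hy, hy14⟩ := part14 R h hpos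
  obtain ⟨a, ha1, ha2, rfl⟩ := hcas x hx
  obtain ⟨b, hb1, hb2, rfl⟩ := hcas y hy
  rw [hex] at hx18 hy14
  have h1 := ex_le R h (hmem m hm le_rfl)
  rw [hex] at h1
  have h2 : f * a ≤ f * m := Nat.mul_le_mul_left _ ha2
  have hbn : b < m := by
    by_contra hlt
    have : b = m := by omega
    subst this
    omega
  obtain ⟨c, rfl⟩ : ∃ c, m = c + 1 := ⟨m - 1, by omega⟩
  have h3 : f * b ≤ f * c := Nat.mul_le_mul_left _ (by omega)
  have h4 := mid R h (hmem c (by omega) (by omega)) (by rw [hex]; omega)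
  rw [hex] at h4
  rw [mul_add, mul_one] at h1 h2
  have hf4 : f = 2 * k := by (clear * - hf hx18 h1 h2 h4; omega)
  subst hf4
  have h5 : k * (2 * c) = k * 7 := by
    have : 2 * k * c = k * (2 * c) := by ring
    omega
  have := Nat.eq_of_mul_eq_mul_left hk h5
  omega

theorem no_oplus {f d N m : ℕ} (hm : 4 ≤ m) (h : Sh p (Nat.card S) f d N (Fam.oplus m).facs) : False := by
  have hk := R.hk
  have hf := h.f_pos
  have hmem : ∀ j, 1 ≤ j → j < m → Fac.sub (2 * j) ∈ (Fam.oplus m).facs := fun j h1 h2 =>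
    List.mem_cons_of_mem _ (List.mem_map.2 ⟨j - 1, List.mem_range.2 (by omega), by rw [show j - 1 + 1 = j by omega]⟩)
  have hcas : ∀ x ∈ (Fam.oplus m).facs, x = Fac.sub m ∨ ∃ j, 1 ≤ j ∧ j < m ∧ x = Fac.sub (2 * j) := by
    intro x hx
    rcases List.mem_cons.1 hx with rfl | hx
    · exact Or.inl rfl
    · obtain ⟨i, hi, rfl⟩ := List.mem_map.1 hx
      rw [List.mem_range] at hi
      exact Or.inr ⟨i + 1, by omega, by omega, rfl⟩
  have hpos : ∀ x ∈ (Fam.oplus m).facs, 0 < ex f x := by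
    intro x hx
    rcases hcas x hx with rfl | ⟨j, h1, -, rfl⟩
    · exact Nat.mul_pos (by omega) (by omega)
    · exact Nat.mul_pos (by omega) (by omega)
  have hex : ∀ j, ex f (Fac.sub (2 * j)) = 2 * (f * j) := fun j => by
    change f * (2 * j) = _
    ring
  obtain ⟨x, hx, hx18⟩ := part18 R h hpos
  obtain ⟨y, hy, hy14⟩ := part14 R h hpos
  obtain ⟨c, rfl⟩ : ∃ c, m = c + 1 := ⟨m - 1, by omega⟩
  have h1 := ex_le R h (hmem c (by omega) (by omega))
  rw [hex] at h1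
  have h3f : f * 3 ≤ f * c := Nat.mul_le_mul_left _ (by omega)
  have hfm : f * (c + 1) = f * c + f := by ring
  have hfc : f * c = 9 * k := by
    rcases hcas x hx with rfl | ⟨j, h2, h3, rfl⟩
    · change f * (c + 1) = 18 * k at hx18
      omega
    · rw [hex] at hx18
      have : f * j ≤ f * c := Nat.mul_le_mul_left _ (by omega)
      omega
  rcases hcas y hy with rfl | ⟨b, hb1, hb2, rfl⟩
  · change f * (c + 1) = 14 * k at hy14
    omega
  · rw [hex] at hy14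
    have hbc : b < c := by
      by_contra hlt
      have : b = c := by omega
      subst this
      omega
    obtain ⟨e, rfl⟩ : ∃ e, c = e + 1 := ⟨c - 1, by omega⟩
    have h3 : f * b ≤ f * e := Nat.mul_le_mul_left _ (by omega)
    have h4 := mid R h (hmem e (by omega) (by omega)) (by rw [hex]; omega)
    rw [hex] at h4
    rw [mul_add, mul_one] at hfc
    have hf4 : f = 2 * k := by omega
    subst hf4
    have h5 : k * (2 * e) = k * 7 := by
      have : 2 * k * e = k * (2 * e) := by ring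
      omega
    have := Nat.eq_of_mul_eq_mul_left hk h5
    omega

theorem no_ominus {f d N m : ℕ} (hm : 4 ≤ m) (h : Sh p (Nat.card S) f d N (Fam.ominus m).facs) : False := by
  have hk := R.hk
  have hf := h.f_pos
  have hmem : ∀ j, 1 ≤ j → j < m → Fac.sub (2 * j) ∈ (Fam.ominus m).facs := fun j h1 h2 =>
    List.mem_cons_of_mem _ (List.mem_map.2 ⟨j - 1, List.mem_range.2 (by omega), by rw [show j - 1 + 1 = j by omega]⟩)
  have hmem' : Fac.add m ∈ (Fam.ominus m).facs := List.mem_cons_self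
  have hcas : ∀ x ∈ (Fam.ominus m).facs, x = Fac.add m ∨ ∃ j, 1 ≤ j ∧ j < m ∧ x = Fac.sub (2 * j) := by
    intro x hx
    rcases List.mem_cons.1 hx with rfl | hx
    · exact Or.inl rfl
    · obtain ⟨i, hi, rfl⟩ := List.mem_map.1 hx
      rw [List.mem_range] at hi
      exact Or.inr ⟨i + 1, by omega, by omega, rfl⟩
  have hpos : ∀ x ∈ (Fam.ominus m).facs, 0 < ex f x := by
    intro x hx
    rcases hcas x hx with rfl | ⟨j, h1, -, rfl⟩
    · exact Nat.mul_pos two_pos (Nat.mul_pos (by omega) (by omega))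
    · exact Nat.mul_pos (by omega) (by omega)
  have hex : ∀ j, ex f (Fac.sub (2 * j)) = 2 * (f * j) := fun j => by
    change f * (2 * j) = _
    ring
  have hex' : ∀ j, ex f (Fac.add j) = 2 * (f * j) := fun j => rfl
  obtain ⟨x, hx, hx18⟩ := part18 R h hpos
  obtain ⟨y, hy, hy14⟩ := part14 R h hpos
  have h1 := ex_le R h hmem'
  rw [hex'] at h1
  have hfc : f * m = 9 * k := by
    rcases hcas x hx with rfl | ⟨j, h2, h3, rfl⟩
    · rw [hex'] at hx18
      omega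
    · rw [hex] at hx18
      have : f * j ≤ f * m := Nat.mul_le_mul_left _ (by omega)
      omega
  rcases hcas y hy with rfl | ⟨b, hb1, hb2, rfl⟩
  · rw [hex'] at hy14
    omega
  · rw [hex] at hy14
    obtain ⟨e, rfl⟩ : ∃ e, m = e + 1 := ⟨m - 1, by omega⟩
    have h3 : f * b ≤ f * e := Nat.mul_le_mul_left _ (by omega)
    have h4 := mid R h (hmem e (by omega) (by omega)) (by rw [hex]; omega)
    rw [hex] at h4
    rw [mul_add, mul_one] at hfc
    have hf4 : f = 2 * k := by omega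
    subst hf4
    have h5 : k * (2 * e) = k * 7 := by
      have : 2 * k * e = k * (2 * e) := by ring
      omega
    have := Nat.eq_of_mul_eq_mul_left hk h5
    omega

theorem no_psu {f d N n : ℕ} (hn : 3 ≤ n) (h : Sh p (Nat.card S) f d N (Fam.psu n).facs) : False := by
  have hk := R.hk
  have hf := h.f_pos
  have hmo : ∀ j, 1 ≤ j → 2 * j + 1 ≤ n → Fac.add (2 * j + 1) ∈ (Fam.psu n).facs := fun j h1 h2 => by
    refine List.mem_map.2 ⟨2 * j - 1, List.mem_range.2 (by omega), ?_⟩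
    rw [if_pos (by rw [show 2 * j - 1 + 1 = 2 * j by omega]; exact even_two_mul j), show 2 * j - 1 + 2 = 2 * j + 1 by omega]
  have hcas : ∀ x ∈ (Fam.psu n).facs, (∃ j, 1 ≤ j ∧ 2 * j + 1 ≤ n ∧ x = Fac.add (2 * j + 1)) ∨
      ∃ j, 1 ≤ j ∧ 2 * j ≤ n ∧ x = Fac.sub (2 * j) := by
    intro x hx
    obtain ⟨i, hi, rfl⟩ := List.mem_map.1 hx
    rw [List.mem_range] at hi
    rcases Nat.even_or_odd (i + 1) with ho | ho
    · rw [if_pos ho]
      obtain ⟨j, hj⟩ := ho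
      exact Or.inl ⟨j, by omega, by omega, by rw [show i + 2 = 2 * j + 1 by omega]⟩
    · rw [if_neg (Nat.not_even_iff_odd.2 ho)]
      obtain ⟨j, hj⟩ := ho
      exact Or.inr ⟨j + 1, by omega, by omega, by rw [show i + 2 = 2 * (j + 1) by omega]⟩
  have hpos : ∀ x ∈ (Fam.psu n).facs, 0 < ex f x := by
    intro x hx
    rcases hcas x hx with ⟨j, h1, -, rfl⟩ | ⟨j, h1, -, rfl⟩
    · exact Nat.mul_pos two_pos (Nat.mul_pos (by omega) (by omega))
    · exact Nat.mul_pos (by omega) (by omega)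
  have hex : ∀ j, ex f (Fac.sub (2 * j)) = 2 * (f * j) := fun j => by
    change f * (2 * j) = _
    ring
  have hex' : ∀ j, ex f (Fac.add (2 * j + 1)) = 4 * (f * j) + 2 * f := fun j => by
    change 2 * (f * (2 * j + 1)) = _
    ring
  obtain ⟨x, hx, hx18⟩ := part18 R h hpos
  obtain ⟨y, hy, hy14⟩ := part14 R h hpos
  obtain ⟨c, hc1, hc⟩ : ∃ c, 1 ≤ c ∧ (n = 2 * c + 1 ∨ n = 2 * c + 2) := ⟨(n - 1) / 2, by omega, by omega⟩
  have h1 := ex_le R h (hmo c hc1 (by omega))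
  rw [hex'] at h1
  have hfc1 : f * (c + 1) = f * c + f := by ring
  have hff : f * 1 ≤ f * c := Nat.mul_le_mul_left _ hc1
  have h9 : 4 * (f * c) + 2 * f = 18 * k := by
    rcases hcas x hx with ⟨j, h2, h3, rfl⟩ | ⟨j, h2, h3, rfl⟩
    · rw [hex'] at hx18
      have : f * j ≤ f * c := Nat.mul_le_mul_left _ (by omega)
      (clear * - h1 hx18 this; omega)
    · rw [hex] at hx18
      have : f * j ≤ f * (c + 1) := Nat.mul_le_mul_left _ (by omega)
      (clear * - h1 hfc1 hx18 this; omega)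
  rcases hcas y hy with ⟨b, hb1, hb2, rfl⟩ | ⟨b, hb1, hb2, rfl⟩
  · rw [hex'] at hy14
    have hbc : b < c := by
      by_contra hlt
      have : b = c := by omega
      subst this
      (clear * - hf hy14 h9; omega)
    obtain ⟨e, rfl⟩ : ∃ e, c = e + 1 := ⟨c - 1, by omega⟩
    have h3 : f * b ≤ f * e := Nat.mul_le_mul_left _ (by omega)
    have h4 := mid R h (hmo e (by omega) (by omega)) (by rw [hex']; (clear * - hy14 h3; omega))
    rw [hex'] at h4
    have hfe : f * (e + 1) = f * e + f := by ring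
    have hfk : f = k := by (clear * - hf h9 h4 hfe; omega)
    subst hfk
    have he : f * e = f * 3 := by (clear * - hfe h9; omega)
    have he3 := Nat.eq_of_mul_eq_mul_left hk he
    subst he3
    -- `n = 9` or `n = 10`: the classes 7 and 12 are missing
    have key : ∀ i, (i = 7 ∨ i = 12) → ¬ ∃ x ∈ (Fam.psu n).facs, Good f (f * i) x := by
      rintro i hi ⟨z, hz, hg⟩
      rcases hcas z hz with ⟨j, hj1, hj2, rfl⟩ | ⟨j, hj1, hj2, rfl⟩
      · obtain ⟨g1, g2⟩ := hg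
        rw [Nat.mul_dvd_mul_iff_left hk] at g2
        rw [show 2 * (f * (2 * j + 1)) = f * (2 * (2 * j + 1)) by ring, Nat.mul_dvd_mul_iff_left hk] at g1
        have hj : j ≤ 4 := by (clear * - hc hj2; omega)
        rcases hi with rfl | rfl <;> interval_cases j <;> omega
      · have g1 : f * i ∣ f * (2 * j) := hg
        rw [Nat.mul_dvd_mul_iff_left hk] at g1
        have hj : j ≤ 5 := by (clear * - hc hj2; omega)
        rcases hi with rfl | rfl <;> interval_cases j <;> omega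
    rcases R.one 7 (by decide) 12 (by decide) (by norm_num) with hF | hF
    · exact key 7 (Or.inl rfl) (partB R h (by decide) hF)
    · exact key 12 (Or.inr rfl) (partB R h (by decide) hF)
  · rw [hex] at hy14
    have : f * b ≤ f * (c + 1) := Nat.mul_le_mul_left _ (by omega)
    omega

/-- the two exponents `18 k`, `14 k` in a finite list -/
theorem fin_list {f d N : ℕ} {l : List Fac} (h : Sh p (Nat.card S) f d N l) (hpos : ∀ x ∈ l, 0 < ex f x) :
    (∃ x ∈ l, ex f x = 18 * k) ∧ (∃ x ∈ l, ex f x = 14 * k) ∧ ∀ x ∈ l, ex f x ≤ 18 * k :=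
  ⟨part18 R h hpos, part14 R h hpos, fun _ hx => ex_le R h hx⟩

/-- **The families in the own characteristic.** -/
theorem core {fam : Fam} {f d N : ℕ} (h : Sh p (Nat.card S) f d N fam.facs)
    (hn : match fam with
      | .psl n => 2 ≤ n | .psp m => 1 ≤ m | .psu n => 3 ≤ n | .oodd m => 1 ≤ m | .oplus m => 4 ≤ m | .ominus m => 4 ≤ m
      | _ => True) : fam = .e7 ∧ f = k := by
  have hk := R.hk
  have hf := h.f_pos
  cases fam with
  | psl n => exact (no_psl R hn h).elim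
  | psp m => exact (no_sp R hn h).elim
  | oodd m => exact (no_sp R hn h).elim
  | psu n => exact (no_psu R hn h).elim
  | oplus m => exact (no_oplus R hn h).elim
  | ominus m => exact (no_ominus R hn h).elim
  | e7 =>
    refine ⟨rfl, ?_⟩
    obtain ⟨h1, h2, h3⟩ := fin_list R h (by simp only [Fam.facs, ex, _root_.List.map_cons, _root_.List.map_nil, _root_.List.mem_cons, _root_.List.not_mem_nil, _root_.or_false, _root_.forall_eq_or_imp, _root_.Order.lt_two_iff, _root_.zero_le, _root_.mul_pos_iff_of_pos_right, _root_.Nat.ofNat_pos, _root_.forall_eq, _root_.and_self]; omega)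
    simp only [Fam.facs, ex, List.map_cons, List.map_nil, List.mem_cons, List.not_mem_nil, or_false, exists_eq_or_imp,
      exists_eq_left, forall_eq_or_imp, forall_eq] at h1 h2 h3
    (clear * - hk hf h1 h3; omega)
  | _ =>
    exfalso
    obtain ⟨h1, h2, h3⟩ := fin_list R h (by simp only [Fam.facs, ex, _root_.List.map_cons, _root_.List.map_nil, _root_.List.mem_cons, _root_.List.not_mem_nil, _root_.or_false, _root_.forall_eq_or_imp, _root_.Order.lt_two_iff, _root_.zero_le, _root_.mul_pos_iff_of_pos_right, _root_.forall_eq, _root_.Nat.ofNat_pos, _root_.and_self, _root_.mul_pos_iff_of_pos_left, _root_.mul_one]; try omega)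
    simp only [Fam.facs, ex, List.map_cons, List.map_nil, List.mem_cons, List.not_mem_nil, or_false, exists_eq_or_imp,
      exists_eq_left, forall_eq_or_imp, forall_eq] at h1 h2 h3
    omega

end core

end Cfsg.Agent.H791.E7
end

-- part: H791/E7/OwnName
section
/-!
# S3482, part R7: own characteristic (helper791)

* `fld g` : the field parameter of a name (0 for the alternating groups, the sporadic groups and the Tits group);
* `row_own` : `Row p k S`, `IsNamed g S`, `p ∣ fld g ≠ 0` imply `g = .e7 (p ^ k)`;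
* `row_own'` : the same for `fld g = p ^ f`.
-/

set_option autoImplicit false

namespace Cfsg.Agent.H791.E7

open Cfsg Cfsg.Agent.H436 Cfsg.Agent.H426.LieFam Cfsg.Agent.H414.LieShape Cfsg.Agent.H962.E7 Cfsg.Agent.OrdDiv

universe u

/-- the field parameter -/
def fld : Grp → ℕ
  | .psl _ q => q
  | .psp _ q => q
  | .psu _ q => q
  | .oodd _ q => q
  | .oplus _ q => q
  | .ominus _ q => q
  | .g2 q => q
  | .f4 q => q
  | .e6 q => q
  | .e7 q => q
  | .e8 q => q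
  | .te6 q => q
  | .td4 q => q
  | .sz q => q
  | .ree q => q
  | .tf4 q => q
  | _ => 0

theorem pow_of_dvd {p q : ℕ} (hp : p.Prime) (hq : IsPrimePow q) (h : p ∣ q) : ∃ f, 1 ≤ f ∧ q = p ^ f := by
  obtain ⟨r, f, hr, hf, rfl⟩ := (isPrimePow_nat_iff q).1 hq
  obtain rfl := (Nat.prime_dvd_prime_iff_eq hp hr).1 (hp.dvd_of_dvd_pow h)
  exact ⟨f, hf, rfl⟩

variable {p k : ℕ} {S : Type u} [Group S]

theorem cop_sub' {p f m : ℕ} (hp : p.Prime) : (Nat.gcd m (p ^ f - 1)).Coprime (p ^ f) := by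
  have := cop_gcd_sub (m := m) (k := 1) (f := f) hp le_rfl
  rwa [pow_one] at this

theorem cop_add' {p f m : ℕ} : (Nat.gcd m (p ^ f + 1)).Coprime (p ^ f) := by
  have := cop_gcd_add (m := m) (k := 1) (f := f) (r := p) le_rfl
  rwa [pow_one] at this

theorem gcd_small {m x : ℕ} (hm : m ∣ 12) (hm0 : 0 < m) (hm5 : m < 5) : Nat.gcd m x ∣ 12 ∧ Nat.gcd m x < 5 :=
  ⟨(Nat.gcd_dvd_left _ _).trans hm, lt_of_le_of_lt (Nat.le_of_dvd hm0 (Nat.gcd_dvd_left _ _)) hm5⟩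

/-- **Own characteristic.** -/
theorem row_own (R : Row p k S) {g : Grp} (hg : IsNamed g S) (h : p ∣ fld g) (h0 : fld g ≠ 0) : g = .e7 (p ^ k) := by
  have hp := R.hp
  have hreal := hg.real
  have hcond := hg.cond
  have heq := hg.eq
  cases g with
  | psl n q =>
    exfalso
    obtain ⟨hn, -, hq⟩ := hcond
    obtain ⟨f, hf, rfl⟩ := pow_of_dvd hp hq h
    obtain ⟨F, _, _, hF, ⟨e⟩⟩ := hreal
    obtain ⟨d, N, hS⟩ := sh_psl hf hF hn hp
    rw [← Nat.card_congr e.toEquiv] at hS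
    exact no_psl R hn hS
  | psp m q =>
    exfalso
    obtain ⟨hm, -, hq⟩ := hcond
    obtain ⟨f, hf, rfl⟩ := pow_of_dvd hp hq h
    obtain ⟨F, _, _, hF, ⟨e⟩⟩ := hreal
    obtain ⟨d, N, hS⟩ := sh_psp hf hF hm hp
    rw [← Nat.card_congr e.toEquiv] at hS
    exact no_sp R (by omega) hS
  | psu n q =>
    exfalso
    obtain ⟨hn, -, hq⟩ := hcond
    obtain ⟨f, hf, rfl⟩ := pow_of_dvd hp hq h
    obtain ⟨F, _, _, hF, ⟨e⟩⟩ := hreal
    obtain ⟨d, N, hS⟩ := sh_psu hf hF hn hp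
    rw [← Nat.card_congr e.toEquiv] at hS
    exact no_psu R hn hS
  | oodd m q =>
    exfalso
    obtain ⟨hm, ho, hq⟩ := hcond
    obtain ⟨f, hf, rfl⟩ := pow_of_dvd hp hq h
    obtain ⟨F, _, _, hF, ⟨e⟩⟩ := hreal
    obtain ⟨d, N, hS⟩ := sh_oodd hf hF hm (by rwa [hF]) hp
    rw [← Nat.card_congr e.toEquiv] at hS
    exact no_sp R (by omega) hS
  | oplus m q =>
    exfalso
    obtain ⟨hm, hq⟩ := hcond
    obtain ⟨f, hf, rfl⟩ := pow_of_dvd hp hq h
    obtain ⟨F, _, _, hF, ⟨e⟩⟩ := hreal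
    obtain ⟨d, N, hS⟩ := sh_oplus hf hF hm hp
    rw [← Nat.card_congr e.toEquiv] at hS
    exact no_oplus R hm hS
  | ominus m q =>
    exfalso
    obtain ⟨hm, hq⟩ := hcond
    obtain ⟨f, hf, rfl⟩ := pow_of_dvd hp hq h
    obtain ⟨F, _, _, a, b, hF, hab, ⟨e⟩⟩ := hreal
    obtain ⟨d, N, hS⟩ := sh_ominus hf hF hm hab hp
    rw [← Nat.card_congr e.toEquiv] at hS
    exact no_ominus R hm hS
  | g2 q =>
    obtain ⟨-, hq⟩ := hcond
    obtain ⟨f, hf, rfl⟩ := pow_of_dvd hp hq h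
    have hS : Sh p (Nat.card S) f 1 6 Fam.g2.facs := by
      refine sh_list hp (by norm_num) (Nat.coprime_one_left _) hf (by norm_num) (by norm_num) ?_
      refine heq.trans ?_
      change (p ^ f) ^ 6 * (((p ^ f) ^ 2 - 1) * ((p ^ f) ^ 6 - 1)) = _
      simp only [Fam.facs, List.map_cons, List.map_nil, List.prod_cons, List.prod_nil, Fac.val]
      ring
    exact absurd (core R (fam := .g2) hS trivial).1 (by simp)
  | f4 q =>
    obtain ⟨f, hf, rfl⟩ := pow_of_dvd hp hcond h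
    have hS : Sh p (Nat.card S) f 1 24 Fam.f4.facs := by
      refine sh_list hp (by norm_num) (Nat.coprime_one_left _) hf (by norm_num) (by norm_num) ?_
      refine heq.trans ?_
      change (p ^ f) ^ 24 * (((p ^ f) ^ 2 - 1) * ((p ^ f) ^ 6 - 1) * ((p ^ f) ^ 8 - 1) * ((p ^ f) ^ 12 - 1)) = _
      simp only [Fam.facs, List.map_cons, List.map_nil, List.prod_cons, List.prod_nil, Fac.val]
      ring
    exact absurd (core R (fam := .f4) hS trivial).1 (by simp)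
  | e6 q =>
    obtain ⟨f, hf, rfl⟩ := pow_of_dvd hp hcond h
    obtain ⟨g1, g2⟩ := gcd_small (m := 3) (x := p ^ f - 1) (by norm_num) (by norm_num) (by norm_num)
    have hS : Sh p (Nat.card S) f (Nat.gcd 3 (p ^ f - 1)) 36 Fam.e6.facs := by
      refine sh_list hp (by norm_num) (cop_sub' hp) hf g1 g2 ?_
      refine heq.trans ?_
      change (p ^ f) ^ 36 * (((p ^ f) ^ 2 - 1) * ((p ^ f) ^ 5 - 1) * ((p ^ f) ^ 6 - 1) * ((p ^ f) ^ 8 - 1) *
        ((p ^ f) ^ 9 - 1) * ((p ^ f) ^ 12 - 1)) = _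
      simp only [Fam.facs, List.map_cons, List.map_nil, List.prod_cons, List.prod_nil, Fac.val]
      ring
    exact absurd (core R (fam := .e6) hS trivial).1 (by simp)
  | e7 q =>
    obtain ⟨f, hf, rfl⟩ := pow_of_dvd hp hcond h
    obtain ⟨g1, g2⟩ := gcd_small (m := 2) (x := p ^ f - 1) (by norm_num) (by norm_num) (by norm_num)
    have hS : Sh p (Nat.card S) f (Nat.gcd 2 (p ^ f - 1)) 63 Fam.e7.facs := by
      refine sh_list hp (by norm_num) (cop_sub' hp) hf g1 g2 ?_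
      refine heq.trans ?_
      change (p ^ f) ^ 63 * (((p ^ f) ^ 2 - 1) * ((p ^ f) ^ 6 - 1) * ((p ^ f) ^ 8 - 1) * ((p ^ f) ^ 10 - 1) *
        ((p ^ f) ^ 12 - 1) * ((p ^ f) ^ 14 - 1) * ((p ^ f) ^ 18 - 1)) = _
      simp only [Fam.facs, List.map_cons, List.map_nil, List.prod_cons, List.prod_nil, Fac.val]
      ring
    rw [(core R (fam := .e7) hS trivial).2]
  | e8 q =>
    obtain ⟨f, hf, rfl⟩ := pow_of_dvd hp hcond h
    have hS : Sh p (Nat.card S) f 1 120 Fam.e8.facs := by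
      refine sh_list hp (by norm_num) (Nat.coprime_one_left _) hf (by norm_num) (by norm_num) ?_
      refine heq.trans ?_
      change (p ^ f) ^ 120 * (((p ^ f) ^ 2 - 1) * ((p ^ f) ^ 8 - 1) * ((p ^ f) ^ 12 - 1) * ((p ^ f) ^ 14 - 1) *
        ((p ^ f) ^ 18 - 1) * ((p ^ f) ^ 20 - 1) * ((p ^ f) ^ 24 - 1) * ((p ^ f) ^ 30 - 1)) = _
      simp only [Fam.facs, List.map_cons, List.map_nil, List.prod_cons, List.prod_nil, Fac.val]
      ring
    exact absurd (core R (fam := .e8) hS trivial).1 (by simp)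
  | te6 q =>
    obtain ⟨f, hf, rfl⟩ := pow_of_dvd hp hcond h
    obtain ⟨g1, g2⟩ := gcd_small (m := 3) (x := p ^ f + 1) (by norm_num) (by norm_num) (by norm_num)
    have hS : Sh p (Nat.card S) f (Nat.gcd 3 (p ^ f + 1)) 36 Fam.te6.facs := by
      refine sh_list hp (by norm_num) cop_add' hf g1 g2 ?_
      refine heq.trans ?_
      change (p ^ f) ^ 36 * (((p ^ f) ^ 2 - 1) * ((p ^ f) ^ 5 + 1) * ((p ^ f) ^ 6 - 1) * ((p ^ f) ^ 8 - 1) *
        ((p ^ f) ^ 9 + 1) * ((p ^ f) ^ 12 - 1)) = _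
      simp only [Fam.facs, List.map_cons, List.map_nil, List.prod_cons, List.prod_nil, Fac.val]
      ring
    exact absurd (core R (fam := .te6) hS trivial).1 (by simp)
  | td4 q =>
    obtain ⟨f, hf, rfl⟩ := pow_of_dvd hp hcond h
    have hS : Sh p (Nat.card S) f 1 12 Fam.td4.facs := by
      refine sh_list hp (by norm_num) (Nat.coprime_one_left _) hf (by norm_num) (by norm_num) ?_
      refine heq.trans ?_
      change (p ^ f) ^ 12 * (((p ^ f) ^ 2 - 1) * ((p ^ f) ^ 6 - 1) * ((p ^ f) ^ 8 + (p ^ f) ^ 4 + 1)) = _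
      simp only [Fam.facs, List.map_cons, List.map_nil, List.prod_cons, List.prod_nil, Fac.val]
      ring
    exact absurd (core R (fam := .td4) hS trivial).1 (by simp)
  | sz q =>
    obtain ⟨m, hm, rfl⟩ := hcond
    obtain rfl : p = 2 := (Nat.prime_dvd_prime_iff_eq hp Nat.prime_two).1 (hp.dvd_of_dvd_pow h)
    have hS : Sh 2 (Nat.card S) (2 * m + 1) 1 2 Fam.sz.facs := by
      refine sh_list (f := 2 * m + 1) Nat.prime_two (by norm_num) (Nat.coprime_one_left _) (by omega) (by norm_num)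
        (by norm_num) ?_
      refine heq.trans ?_
      change (2 ^ (2 * m + 1)) ^ 2 * ((2 ^ (2 * m + 1) - 1) * ((2 ^ (2 * m + 1)) ^ 2 + 1)) = _
      simp only [Fam.facs, List.map_cons, List.map_nil, List.prod_cons, List.prod_nil, Fac.val, pow_one]
      ring
    exact absurd (core R (fam := .sz) hS trivial).1 (by simp)
  | ree q =>
    obtain ⟨m, hm, rfl⟩ := hcond
    obtain rfl : p = 3 := (Nat.prime_dvd_prime_iff_eq hp Nat.prime_three).1 (hp.dvd_of_dvd_pow h)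
    have := R.cas
    omega
  | tf4 q =>
    obtain ⟨m, hm, rfl⟩ := hcond
    obtain rfl : p = 2 := (Nat.prime_dvd_prime_iff_eq hp Nat.prime_two).1 (hp.dvd_of_dvd_pow h)
    have hS : Sh 2 (Nat.card S) (2 * m + 1) 1 12 Fam.tf4.facs := by
      refine sh_list (f := 2 * m + 1) Nat.prime_two (by norm_num) (Nat.coprime_one_left _) (by omega) (by norm_num)
        (by norm_num) ?_
      refine heq.trans ?_
      change (2 ^ (2 * m + 1)) ^ 12 * ((2 ^ (2 * m + 1) - 1) * ((2 ^ (2 * m + 1)) ^ 3 + 1) *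
        ((2 ^ (2 * m + 1)) ^ 4 - 1) * ((2 ^ (2 * m + 1)) ^ 6 + 1)) = _
      simp only [Fam.facs, List.map_cons, List.map_nil, List.prod_cons, List.prod_nil, Fac.val, pow_one]
      ring
    exact absurd (core R (fam := .tf4) hS trivial).1 (by simp)
  | _ => exact absurd rfl h0

end Cfsg.Agent.H791.E7
end

private theorem dce_5b97a8ffcf6d : _root_.True := by
  try have : _root_.True := by simp only [_root_.Cfsg.Agent.H500.E7.I8.eq_1]
  try have : _root_.True := by simp only [_root_.Cfsg.Agent.H426.LieFam.ex.eq_1]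
  try have : _root_.True := by simp only [_root_.Cfsg.Agent.H426.LieFam.ex.eq_2]
  try have : _root_.True := by simp only [_root_.Cfsg.Agent.H500.E7.Ph.eq_1]
  try have : _root_.True := by simp only [_root_.Cfsg.Agent.H426.LieFam.ex.eq_3]
  exact _root_.True.intro
end

-- part: H627/E7/LinPSU
section
prune_inst 0x50005300318002000000000242002200480004900000800140800a42030160200002280002800000006022000004000811000000020000000000000000010120800046005381010c460089000000000000000000020000000000000000000000000000000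
set_option linter.all false
open scoped Cfsg.Agent.FastGrp

-- part: H627/E7/WC
section
/-!
# Bounds for cocliques of the prime graphs of the classical groups

A copy of `H420.SideBd` and of the rank bounds of `H420.CrossRank` (helper420) that does not import the recognition
theorems (helper627).

`WC S m c w cls N` : weights `w` and classes `cls` of the primes of `|S|`: two primes `r`, `s` with
`w r + w s + c ≤ m` are adjacent; two primes `> 3` of weight `> 2` and the same class are adjacent; there are at most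
`N w₀` classes of weight `> w₀` (`w₀ ≥ 2`).

* `WC.half` : a coclique of primes `> 3` has at most `1 + N ((m - c) / 2)` members (`4 + c ≤ m`);
* `WC.thru` : a coclique of primes `> 3` through `x` has at most `1 + N (m - c - w x)` members (`w x + 2 + c ≤ m`);
* `wc_psl`, `wc_psu`, `wc_sp`, `wc_odd`, `wc_plus`, `wc_minus`.
-/

set_option autoImplicit false

namespace Cfsg.Agent.H627.E7

open Cfsg Cfsg.Agent.H72 Cfsg.Agent.H436

universe u

theorem IsCoq.subset {G : Type*} [Group G] {ρ σ : Finset ℕ} (h : IsCoq G ρ) (hσ : σ ⊆ ρ) : IsCoq G σ :=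
  ⟨fun r hr => h.prime r (hσ hr), fun r hr => h.dvd r (hσ hr), fun r hr s hs => h.nadj r (hσ hr) s (hσ hs)⟩

/-- weights and classes of the primes of `|S|` -/
structure WC (S : Type u) [Group S] (m c : ℕ) (w cls N : ℕ → ℕ) : Prop where
  adj : ∀ r s : ℕ, r.Prime → s.Prime → r ≠ s → w r + w s + c ≤ m → ∃ g : S, orderOf g = r * s
  clq : ∀ r s : ℕ, r.Prime → s.Prime → 3 < r → 3 < s → r ≠ s → r ∣ Nat.card S → s ∣ Nat.card S → 2 < w r →
    2 < w s → cls r = cls s → ∃ g : S, orderOf g = r * s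
  cnt : ∀ w₀ : ℕ, 2 ≤ w₀ → ∃ T : Finset ℕ, (∀ s : ℕ, s.Prime → 3 < s → s ∣ Nat.card S → w₀ < w s → cls s ∈ T) ∧
    T.card ≤ N w₀

theorem IsCoq.congr {G H : Type*} [Group G] [Group H] (e : G ≃* H) {ρ : Finset ℕ} (h : IsCoq G ρ) : IsCoq H ρ :=
  ⟨h.prime, fun r hr => by rw [← Nat.card_congr e.toEquiv]; exact h.dvd r hr, fun r hr s hs hrs ⟨g, hg⟩ =>
    h.nadj r hr s hs hrs ⟨e.symm g, by rw [MulEquiv.orderOf_eq, hg]⟩⟩

theorem WC.congr {S T : Type*} [Group S] [Group T] (e : S ≃* T) {m c : ℕ} {w cls N : ℕ → ℕ} (h : WC T m c w cls N) :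
    WC S m c w cls N := by
  have hc := Nat.card_congr e.toEquiv
  have key : ∀ {n : ℕ}, (∃ g : T, orderOf g = n) → ∃ g : S, orderOf g = n := fun ⟨g, hg⟩ =>
    ⟨e.symm g, by rw [MulEquiv.orderOf_eq, hg]⟩
  refine ⟨fun r s hr hs hrs h1 => key (h.adj r s hr hs hrs h1),
    fun r s hr hs h3 h4 hrs h5 h6 h7 h8 h9 => key (h.clq r s hr hs h3 h4 hrs (hc ▸ h5) (hc ▸ h6) h7 h8 h9),
    fun w₀ hw => ?_⟩
  obtain ⟨C, h1, h2⟩ := h.cnt w₀ hw
  exact ⟨C, fun s hs h3 hd => h1 s hs h3 (hc ▸ hd), h2⟩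

variable {S : Type u} [Group S] {m c : ℕ} {w cls N : ℕ → ℕ}

/-- members of weight `> w₀ ≥ 2` -/
theorem WC.card_le (h : WC S m c w cls N) {ρ : Finset ℕ} (hρ : IsCoq S ρ) (h3 : ∀ r ∈ ρ, 3 < r) {w₀ : ℕ} (h2 : 2 ≤ w₀)
    (hw : ∀ r ∈ ρ, w₀ < w r) : ρ.card ≤ N w₀ := by
  obtain ⟨T, hT, hTc⟩ := h.cnt w₀ h2
  refine le_trans (Finset.card_le_card_of_injOn cls (fun r hr => hT r (hρ.prime r hr) (h3 r hr) (hρ.dvd r hr) (hw r hr))
    ?_) hTc
  intro r hr s hs hrs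
  by_contra hne
  exact hρ.nadj r hr s hs hne (h.clq r s (hρ.prime r hr) (hρ.prime s hs) (h3 r hr) (h3 s hs) hne (hρ.dvd r hr)
    (hρ.dvd s hs) (by have := hw r hr; omega) (by have := hw s hs; omega) hrs)

/-- **All cocliques.** -/
theorem WC.half (h : WC S m c w cls N) {ρ : Finset ℕ} (hρ : IsCoq S ρ) (h3 : ∀ r ∈ ρ, 3 < r) (hm : 4 + c ≤ m) :
    ρ.card ≤ 1 + N ((m - c) / 2) := by
  have h1 := Finset.card_filter_add_card_filter_not (s := ρ) (fun r => w r ≤ (m - c) / 2)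
  have h2 : (ρ.filter fun r => w r ≤ (m - c) / 2).card ≤ 1 := by
    rw [Finset.card_le_one]
    intro a ha b hb
    rw [Finset.mem_filter] at ha hb
    by_contra hne
    exact hρ.nadj a ha.1 b hb.1 hne (h.adj a b (hρ.prime a ha.1) (hρ.prime b hb.1) hne (by omega))
  have h4 : (ρ.filter fun r => ¬ w r ≤ (m - c) / 2).card ≤ N ((m - c) / 2) := by
    refine h.card_le (hρ.subset (Finset.filter_subset _ _)) (fun r hr => h3 r (Finset.mem_filter.1 hr).1) (by omega) ?_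
    intro r hr
    have := (Finset.mem_filter.1 hr).2
    omega
  omega

/-! ### The classical groups -/

section inst

variable {F : Type*} [Field F] [Fintype F] {n : ℕ}

theorem wc_psl (hn : 3 ≤ n) : WC (Matrix.ProjectiveSpecialLinearGroup (Fin n) F) n 0 (AdjPSL.wL (Fintype.card F))
    (AdjOrth.ee (Fintype.card F)) (fun w₀ => n - w₀) := by
  have key : ∀ r : ℕ, 2 < AdjPSL.wL (Fintype.card F) r → ¬ r ∣ Fintype.card F ∧
      AdjPSL.wL (Fintype.card F) r = AdjOrth.ee (Fintype.card F) r := by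
    intro r hr
    rw [AdjPSL.wL] at hr ⊢
    split_ifs at hr with h
    · omega
    · rw [not_or] at h
      exact ⟨h.1, if_neg (not_or.2 h)⟩
  refine ⟨fun r s hr hs hrs h => AdjPSL.adj_of_wL hr hs hrs (by simpa using h), ?_, ?_⟩
  · intro r s hr hs h3 h4 hrs hd hd' hw hw' hc
    exact AdjPSL.adj_of_ee hn hr hs hrs (key r hw).1 hc (AdjPSL.ee_le hr (key r hw).1 hd)
  · intro w₀ hw₀
    refine ⟨Finset.Ioc w₀ n, ?_, by rw [Nat.card_Ioc]⟩
    intro s hs h3 hd hw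
    obtain ⟨h1, h2⟩ := key s (by omega)
    rw [Finset.mem_Ioc]
    exact ⟨h2 ▸ hw, AdjPSL.ee_le hs h1 hd⟩

theorem wc_psu {q : ℕ} (hF : Fintype.card F = q ^ 2) (hn : 3 ≤ n) : WC (PSU n F q) n 0 (AdjPSU.wU q)
    (AdjPSU.nu q) (fun w₀ => n - w₀) := by
  have key : ∀ r : ℕ, 2 < AdjPSU.wU q r → ¬ r ∣ q ∧ AdjPSU.wU q r = AdjPSU.nu q r := by
    intro r hr
    rw [AdjPSU.wU] at hr ⊢
    split_ifs at hr with h
    · omega
    · rw [not_or] at h
      exact ⟨h.1, if_neg (not_or.2 h)⟩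
  refine ⟨fun r s hr hs hrs h => AdjPSU.adj_of_wU hF hn hr hs hrs (by simpa using h), ?_, ?_⟩
  · intro r s hr hs h3 h4 hrs hd hd' hw hw' hc
    exact AdjPSU.adj_of_nu hF hn hr hs hrs (key r hw).1 hc (AdjPSU.nu_le hF (by omega) hr (key r hw).1 hd)
  · intro w₀ hw₀
    refine ⟨Finset.Ioc w₀ n, ?_, by rw [Nat.card_Ioc]⟩
    intro s hs h3 hd hw
    obtain ⟨h1, h2⟩ := key s (by omega)
    rw [Finset.mem_Ioc]
    exact ⟨h2 ▸ hw, AdjPSU.nu_le hF (by omega) hs h1 hd⟩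

end inst

/-! ### `PSL_2(q)` -/

section PSL2

variable {F : Type*} [Field F] [Fintype F]

theorem psl_two_order {N : ℕ} (h : AdjPSL.HasBlock F 2 N) (hN : Odd N) :
    ∃ z : Matrix.ProjectiveSpecialLinearGroup (Fin 2) F, orderOf z = N := by
  obtain ⟨A, hAd, hA1, hA2⟩ := h
  refine AdjPSL.exists_order A hAd ?_ N dvd_rfl
  intro k c hk
  have h1 : c ^ N = 1 := AdjPSU.pow_eq_one_of_scalar (by norm_num) hA1 hk
  have h2 : c ^ 2 = 1 := by
    have h3 := congrArg Matrix.det hk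
    rw [Matrix.det_pow, hAd, one_pow, Matrix.det_smul, Matrix.det_one, mul_one, Fintype.card_fin] at h3
    exact h3.symm
  have h4 : c = 1 := by
    have h5 : orderOf c ∣ Nat.gcd 2 N := Nat.dvd_gcd (orderOf_dvd_of_pow_eq_one h2) (orderOf_dvd_of_pow_eq_one h1)
    rw [(Nat.coprime_two_left.2 hN : Nat.gcd 2 N = 1), Nat.dvd_one] at h5
    exact orderOf_eq_one_iff.1 h5
  rw [h4, one_smul] at hk
  exact hA2 _ hk

theorem psl_two_card_le {ρ : Finset ℕ} (hρ : IsCoq (Matrix.ProjectiveSpecialLinearGroup (Fin 2) F) ρ)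
    (h3 : ∀ r ∈ ρ, 3 < r) : ρ.card ≤ 3 := by
  classical
  have hq := Fintype.one_lt_card (α := F)
  obtain ⟨p, -, -, hp⟩ := AdjCoc.prime_dvd_card F
  let f : ℕ → ℕ := fun s => if s ∣ Fintype.card F then 0 else AdjOrth.ee (Fintype.card F) s
  have hle : ∀ s ∈ ρ, f s ∈ Finset.range 3 := by
    intro s hs
    rw [Finset.mem_range]
    simp only [f]
    split_ifs with h
    · omega
    · exact Nat.lt_succ_of_le (AdjPSL.ee_le (hρ.prime s hs) h (hρ.dvd s hs))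
  refine (Finset.card_le_card_of_injOn f hle ?_).trans (by rw [Finset.card_range])
  intro r hr s hs hrs
  by_contra hne
  have hr1 := hρ.prime r hr
  have hs1 := hρ.prime s hs
  have hr3 := h3 r hr
  have hs3 := h3 s hs
  have hco : Nat.Coprime r s := (Nat.coprime_primes hr1 hs1).2 hne
  have hodd : Odd (r * s) := Nat.odd_mul.2 ⟨hr1.odd_of_ne_two (by omega), hs1.odd_of_ne_two (by omega)⟩
  simp only [f] at hrs
  split_ifs at hrs with h1 h2 h2
  · rw [← Nat.card_eq_fintype_card] at h1 h2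
    exact hne ((hp r hr1 h1).trans (hp s hs1 h2).symm)
  · have := AdjOrth.ee_pos hs1 h2
    omega
  · have := AdjOrth.ee_pos hr1 h1
    omega
  · have h4 := AdjPSL.ee_le hr1 h1 (hρ.dvd r hr)
    have h5 := AdjOrth.ee_pos hr1 h1
    have h6 := AdjOrth.dvd_pow_ee (q := Fintype.card F) (r := r) (by omega)
    have h7 := AdjOrth.dvd_pow_ee (q := Fintype.card F) (r := s) (by omega)
    rw [← hrs] at h7
    refine hρ.nadj r hr s hs hne ?_
    have h8 : AdjOrth.ee (Fintype.card F) r = 1 ∨ AdjOrth.ee (Fintype.card F) r = 2 := by omega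
    rcases h8 with h8 | h8
    · rw [h8, pow_one] at h6 h7
      exact psl_two_order (AdjPSL.hasBlock_two (hco.mul_dvd_of_dvd_of_dvd h6 h7)) hodd
    · have h9 : ¬ r ∣ Fintype.card F - 1 := fun h9 => by
        have := (AdjPSL.ee_eq_one_iff (by omega)).2 h9
        omega
      have h10 : ¬ s ∣ Fintype.card F - 1 := fun h9 => by
        have := (AdjPSL.ee_eq_one_iff (by omega)).2 h9
        omega
      rw [h8] at h6 h7
      exact psl_two_order (AdjPSL.hasBlock_singer (by norm_num) (hco.mul_dvd_of_dvd_of_dvd h6 h7)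
        (Nat.Coprime.mul_left ((Nat.Prime.coprime_iff_not_dvd hr1).2 h9)
          ((Nat.Prime.coprime_iff_not_dvd hs1).2 h10))) hodd

end PSL2

/-! ### small ranks -/

/-! ### ranks -/

section rank

variable {S : Type u} [Group S] {F : Type*} [Field F] [Fintype F] {m : ℕ} {ρ : Finset ℕ}

theorem rank_psl (hm : 2 ≤ m) (e : S ≃* Matrix.ProjectiveSpecialLinearGroup (Fin m) F) (hρ : IsCoq S ρ)
    (h3 : ∀ r ∈ ρ, 3 < r) (h6 : 6 ≤ ρ.card) : 9 ≤ m := by
  have h1 := hρ.congr e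
  by_cases h4 : 4 ≤ m
  · have := (wc_psl (F := F) (n := m) (by omega)).half h1 h3 h4
    omega
  · have h2 : m = 2 ∨ m = 3 := by omega
    rcases h2 with rfl | rfl
    · have := psl_two_card_le h1 h3
      omega
    · obtain ⟨x, hx⟩ : ρ.Nonempty := Finset.card_pos.1 (by omega)
      have := (AdjPSL.card_coclique (F := F) (n := 3) le_rfl (fun r hr => ⟨h1.prime r hr, h1.dvd r hr⟩) h1.nadj hx).1
      omega

theorem rank_psu {q : ℕ} (hF : Fintype.card F = q ^ 2) (hm : 3 ≤ m) (e : S ≃* PSU m F q) (hρ : IsCoq S ρ)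
    (h3 : ∀ r ∈ ρ, 3 < r) (h6 : 6 ≤ ρ.card) : 9 ≤ m := by
  have h1 := hρ.congr e
  by_cases h4 : 4 ≤ m
  · have := (wc_psu hF (n := m) (by omega)).half h1 h3 h4
    omega
  · obtain rfl : m = 3 := by omega
    obtain ⟨x, hx⟩ : ρ.Nonempty := Finset.card_pos.1 (by omega)
    have := (AdjPSU.card_coclique hF (n := 3) le_rfl (fun r hr => ⟨h1.prime r hr, h1.dvd r hr⟩) h1.nadj hx).1
    omega

end rank

end Cfsg.Agent.H627.E7
end

-- part: H627/E7/LinMain
section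
/-!
# S3482 (`E₇(q)`), rows R1, R2: the linear and unitary groups, common part (helper627)

* `Lin S m u w cls` : the facts on `S = PSL_m(u)`, `PSU_m(u)` that are used;
* `size` : the numerical contradiction;
* `Lin.false` : `Row p k S`, `Lin S m u w cls`, `11 ≤ m` are contradictory.
-/

set_option autoImplicit false

namespace Cfsg.Agent.H627.E7

open Cfsg Cfsg.Agent.H436 Cfsg.Agent.H962.E7

universe u

/-- the facts on `PSL_m(u)`, `PSU_m(u)` -/
structure Lin (S : Type u) [Group S] (m u : ℕ) (w cls : ℕ → ℕ) : Prop where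
  wc : WC S m 0 w cls (fun w₀ => m - w₀)
  two : w 2 = 2
  eq : ∀ r : ℕ, r.Prime → 2 < w r → r ∣ Nat.card S → cls r = w r ∧ w r ≤ m
  nadj : ∀ r s : ℕ, r.Prime → s.Prime → 2 < w r → 2 < w s → r ∣ Nat.card S → s ∣ Nat.card S →
    cls r = m → cls s = m - 1 → ¬ ∃ x : S, orderOf x = r * s
  ord : ∀ a N : ℕ, (2 * a = m ∨ 2 * a + 1 = m) → (∃ x : S, orderOf x = N) →
    (∀ r : ℕ, r.Prime → r ∣ N → 2 < w r ∧ cls r = 2 * a) → N ≤ u ^ a + 1
  big : ∃ z : S, u ^ (m - 1) ≤ (u + 1) * orderOf z + 1 ∧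
    ∀ r : ℕ, r.Prime → 2 < w r → cls r = m - 1 → r ∣ orderOf z

theorem Lin.congr {S T : Type*} [Group S] [Group T] (e : S ≃* T) {m u : ℕ} {w cls : ℕ → ℕ} (h : Lin T m u w cls) :
    Lin S m u w cls := by
  have hc := Nat.card_congr e.toEquiv
  have key : ∀ {n : ℕ}, (∃ g : T, orderOf g = n) → ∃ g : S, orderOf g = n := fun ⟨g, hg⟩ =>
    ⟨e.symm g, by rw [MulEquiv.orderOf_eq, hg]⟩
  have key' : ∀ {n : ℕ}, (∃ g : S, orderOf g = n) → ∃ g : T, orderOf g = n := fun ⟨g, hg⟩ =>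
    ⟨e g, by rw [MulEquiv.orderOf_eq, hg]⟩
  refine ⟨h.wc.congr e, h.two, fun r hr hw hd => h.eq r hr hw (hc ▸ hd), fun r s hr hs h1 h2 h3 h4 h5 h6 hx =>
    h.nadj r s hr hs h1 h2 (hc ▸ h3) (hc ▸ h4) h5 h6 (key' hx), fun a N ha hx hN => h.ord a N ha (key' hx) hN, ?_⟩
  obtain ⟨z, h1, h2⟩ := h.big
  exact ⟨e.symm z, by rwa [MulEquiv.orderOf_eq], by rwa [MulEquiv.orderOf_eq]⟩

theorem size {u q m a : ℕ} (hu : 2 ≤ u) (hq : 13 ≤ q) (ha : 5 ≤ a) (hm : 2 * a ≤ m)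
    (h1 : u ^ (m - 1) ≤ (u + 1) * q ^ 7 + 1) (h2 : q ^ 6 ≤ 8 * (u ^ a + 1)) : False := by
  obtain ⟨X, hX⟩ : ∃ X, X = u ^ a := ⟨_, rfl⟩
  rw [← hX] at h2
  have h3 : 13 ^ 6 ≤ q ^ 6 := Nat.pow_le_pow_left hq 6
  have hX1 : 603350 ≤ X := by
    norm_num at h3
    omega
  have h4 : u ^ (m - 2) ≤ 2 * q ^ 7 := by
    have h5 : u ^ (m - 1) = u * u ^ (m - 2) := by
      rw [show m - 1 = (m - 2) + 1 by omega, pow_succ, mul_comm]
    have h6 : 1 ≤ q ^ 7 := Nat.one_le_pow _ _ (by omega)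
    have h7 : u * u ^ (m - 2) ≤ u * (2 * q ^ 7) := by
      rw [← h5]
      refine h1.trans ?_
      nlinarith only [hu, h6]
    exact Nat.le_of_mul_le_mul_left h7 (by omega)
  have h5 : (u ^ (m - 2)) ^ 6 ≤ (2 * q ^ 7) ^ 6 := Nat.pow_le_pow_left h4 6
  have h6 : (2 * q ^ 7) ^ 6 ≤ 2 ^ 34 * X ^ 7 := by
    have h7 : (q ^ 6) ^ 7 ≤ (16 * X) ^ 7 := Nat.pow_le_pow_left (by omega) 7
    calc (2 * q ^ 7) ^ 6 = 64 * (q ^ 6) ^ 7 := by ring
      _ ≤ 64 * (16 * X) ^ 7 := Nat.mul_le_mul_left _ h7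
      _ = 2 ^ 34 * X ^ 7 := by ring
  have h7 : X ^ 7 * (X ^ 2 * 8) ≤ (u ^ (m - 2)) ^ 6 := by
    have h8 : u ^ 3 ≥ 8 := by
      calc u ^ 3 ≥ 2 ^ 3 := Nat.pow_le_pow_left hu 3
        _ = 8 := by norm_num
    calc X ^ 7 * (X ^ 2 * 8) ≤ X ^ 7 * (X ^ 2 * u ^ 3) := by gcongr
      _ = u ^ (a * 7 + a * 2 + 3) := by rw [hX, ← pow_mul, ← pow_mul, pow_add, pow_add]; ring
      _ ≤ u ^ ((m - 2) * 6) := Nat.pow_le_pow_right (by omega) (by omega)
      _ = (u ^ (m - 2)) ^ 6 := by rw [pow_mul]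
  have h8 : X ^ 7 * (X ^ 2 * 8) ≤ X ^ 7 * 2 ^ 34 := by
    refine h7.trans (h5.trans (h6.trans ?_))
    rw [mul_comm]
  have h9 : X ^ 2 * 8 ≤ 2 ^ 34 := Nat.le_of_mul_le_mul_left h8 (by positivity)
  have h10 : 603350 ^ 2 ≤ X ^ 2 := Nat.pow_le_pow_left hX1 2
  norm_num at h9 h10
  omega

section

variable {S : Type u} [Group S] {m u p k : ℕ} {w cls : ℕ → ℕ}

/-- the classes of the primes not adjacent to 2 -/
theorem Lin.cls_of (L : Lin S m u w cls) (R : Row p k S) (hm : 11 ≤ m) {i r : ℕ} (hi : i ∈ C4)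
    (h : p = 2 ∨ i = 14 ∨ i = 18) (hr : Prim (p ^ k) i r) :
    3 < r ∧ r ∣ Nat.card S ∧ 2 < w r ∧ (cls r = m ∨ cls r = m - 1) := by
  have h3 := three_lt (C4_sub hi) (two_le R) hr
  have hd := (fl R hi h).dvd r hr
  have hw : m < w r + 2 := by
    by_contra hlt
    exact nadj_two' R hi h hr (L.wc.adj r 2 hr.prime Nat.prime_two (by omega) (by rw [L.two]; omega))
  obtain ⟨h4, h5⟩ := L.eq r hr.prime (by omega) hd
  exact ⟨h3, hd, by omega, by omega⟩

/-- different classes of `q` have different classes of `u` -/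
theorem Lin.cls_ne (L : Lin S m u w cls) (R : Row p k S) (hm : 11 ≤ m) {i r j s : ℕ} (hi : i ∈ C4)
    (h : p = 2 ∨ i = 14 ∨ i = 18) (hr : Prim (p ^ k) i r) (hj : j ∈ C4)
    (h' : p = 2 ∨ j = 14 ∨ j = 18) (hs : Prim (p ^ k) j s) (hij : i ≠ j) : cls r ≠ cls s := by
  intro he
  obtain ⟨h1, h2, h3, -⟩ := L.cls_of R hm hi h hr
  obtain ⟨h4, h5, h6, -⟩ := L.cls_of R hm hj h' hs
  refine R.nad i (C4_sub hi) j (C4_sub hj) hij r s hr hs (L.wc.clq r s hr.prime hs.prime h1 h4 ?_ h2 h5 h3 h6 he)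
  rintro rfl
  exact hij (hr.unique hs)

theorem Lin.false (L : Lin S m u w cls) (R : Row p k S) (hm : 11 ≤ m) (hu : 2 ≤ u) : False := by
  have h14 : (14 : ℕ) ∈ C4 := by decide
  have h18 : (18 : ℕ) ∈ C4 := by decide
  have h7 : (7 : ℕ) ∈ C4 := by decide
  obtain ⟨r, hr⟩ := exists_prim8 (C4_sub h14) (two_le R)
  obtain ⟨s, hs⟩ := exists_prim8 (C4_sub h18) (two_le R)
  have c14 := (L.cls_of R hm h14 (Or.inr (Or.inl rfl)) hr).2.2.2
  have c18 := (L.cls_of R hm h18 (Or.inr (Or.inr rfl)) hs).2.2.2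
  have hne := L.cls_ne R hm h14 (Or.inr (Or.inl rfl)) hr h18 (Or.inr (Or.inr rfl)) hs (by norm_num)
  by_cases hp : p = 2
  · obtain ⟨t, ht⟩ := exists_prim8 (C4_sub h7) (two_le R)
    have c7 := (L.cls_of R hm h7 (Or.inl hp) ht).2.2.2
    have h1 := L.cls_ne R hm h14 (Or.inr (Or.inl rfl)) hr h7 (Or.inl hp) ht (by norm_num)
    have h2 := L.cls_ne R hm h18 (Or.inr (Or.inr rfl)) hs h7 (Or.inl hp) ht (by norm_num)
    omega
  · have hq := q_ge R hp
    have hqm := q_mod R hp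
    -- all primes of one class `i` have the same class
    have hsame : ∀ i : ℕ, i = 14 ∨ i = 18 → ∀ r s : ℕ, Prim (p ^ k) i r → Prim (p ^ k) i s → cls r = cls s := by
      intro i hi r s hr hs
      have hi4 : i ∈ C4 := by
        rcases hi with rfl | rfl
        · exact h14
        · exact h18
      have key : ∀ r s : ℕ, Prim (p ^ k) i r → Prim (p ^ k) i s → cls r = m → cls s = m - 1 → False := by
        intro r s hr hs h1 h2
        have h3 := L.cls_of R hm hi4 (Or.inr hi) hr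
        have h4 := L.cls_of R hm hi4 (Or.inr hi) hs
        have hrs : r ≠ s := by
          rintro rfl
          omega
        obtain ⟨x, hx⟩ := (fl R hi4 (Or.inr hi)).elt hi4
        have hN := NN_pos hi4 (two_le R)
        have hd : r * s ∣ orderOf x := by
          rw [hx]
          exact ((Nat.coprime_primes hr.prime hs.prime).2 hrs).mul_dvd_of_dvd_of_dvd (dvd_NN hi4 (two_le R) hr)
            (dvd_NN hi4 (two_le R) hs)
        exact L.nadj r s hr.prime hs.prime h3.2.2.1 h4.2.2.1 h3.2.1 h4.2.1 h1 h2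
          ⟨x ^ (orderOf x / (r * s)), orderOf_pow_orderOf_div (by omega) hd⟩
      rcases (L.cls_of R hm hi4 (Or.inr hi) hr).2.2.2 with h1 | h1 <;>
        rcases (L.cls_of R hm hi4 (Or.inr hi) hs).2.2.2 with h2 | h2
      · omega
      · exact (key r s hr hs h1 h2).elim
      · exact (key s r hs hr h2 h1).elim
      · omega
    -- the class of even size
    have hA : ∀ i r : ℕ, i = 14 ∨ i = 18 → Prim (p ^ k) i r → cls r = 2 * (m / 2) →
        (p ^ k) ^ 6 ≤ 8 * (u ^ (m / 2) + 1) := by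
      intro i r hi hr hc
      have hi4 : i ∈ C4 := by
        rcases hi with rfl | rfl
        · exact h14
        · exact h18
      have h1 := L.ord (m / 2) (NN (p ^ k) i) (by omega) ((fl R hi4 (Or.inr hi)).elt hi4) (fun s hs hd => by
        have h2 := prim_of_dvd_NN hi4 (two_le R) hs hd
        exact ⟨(L.cls_of R hm hi4 (Or.inr hi) h2).2.2.1, (hsame i hi s r h2 hr).trans hc⟩)
      exact (q_le hi (by omega)).trans (Nat.mul_le_mul_left _ h1)
    -- the class of size `m - 1`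
    have hB : ∀ i r : ℕ, i = 14 ∨ i = 18 → Prim (p ^ k) i r → cls r = m - 1 →
        u ^ (m - 1) ≤ (u + 1) * (p ^ k) ^ 7 + 1 := by
      intro i r hi hr hc
      have hi4 : i ∈ C4 := by
        rcases hi with rfl | rfl
        · exact h14
        · exact h18
      obtain ⟨z, hz1, hz2⟩ := L.big
      have h1 := hz2 r hr.prime (L.cls_of R hm hi4 (Or.inr hi) hr).2.2.1 hc
      have h2 := R.tor i hi4 z r hr h1
      have h3 := TT_le hi (two_le R) (by omega)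
      have h4 : 0 < TT (p ^ k) i := by
        rcases Nat.eq_zero_or_pos (TT (p ^ k) i) with h0 | h0
        · have := odd_TT' R hi4 (Or.inr hi)
          rw [h0] at this
          exact absurd (dvd_zero _) this
        · exact h0
      have h5 := (Nat.le_of_dvd h4 h2).trans h3
      refine hz1.trans ?_
      gcongr
    have hA' : (p ^ k) ^ 6 ≤ 8 * (u ^ (m / 2) + 1) := by
      by_cases h1 : cls r = 2 * (m / 2)
      · exact hA 14 r (Or.inl rfl) hr h1
      · exact hA 18 s (Or.inr rfl) hs (by (clear * - c14 c18 hne h1; omega))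
    have hB' : u ^ (m - 1) ≤ (u + 1) * (p ^ k) ^ 7 + 1 := by
      by_cases h1 : cls r = m - 1
      · exact hB 14 r (Or.inl rfl) hr h1
      · exact hB 18 s (Or.inr rfl) hs (by (clear * - hm c14 c18 hne h1; omega))
    exact size hu hq (a := m / 2) (by omega) (by omega) hB' hA'

end

end Cfsg.Agent.H627.E7
end

-- part: H627/E7/LinPSL
section
/-!
# S3482 (`E₇(q)`), row R1: `S` is not `PSL_m(u)` (helper627)
-/

set_option autoImplicit false

namespace Cfsg.Agent.H627.E7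

open Cfsg Cfsg.Agent.H436 Cfsg.Agent.H962.E7 Cfsg.Agent.H72 Cfsg.Agent.OrdDiv

universe u

/-- a number is at most `c` if it divides `b * c` and is prime to `b` -/
theorem le_of_coprime {N b c : ℕ} (h : N ∣ b * c) (hco : Nat.Coprime N b) (hc : 0 < c) : N ≤ c :=
  Nat.le_of_dvd hc (hco.dvd_of_dvd_mul_left h)

theorem sq_sub (x a : ℕ) : x ^ (2 * a) - 1 = (x ^ a - 1) * (x ^ a + 1) := by
  rw [mul_comm 2 a, pow_mul, mul_comm]
  have := Nat.sq_sub_sq (x ^ a) 1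
  rw [one_pow] at this
  exact this

section inst

variable {F : Type*} [Field F] [Fintype F] {m : ℕ}

theorem wL_two : AdjPSL.wL (Fintype.card F) 2 = 2 := by
  have h : 2 ∣ Fintype.card F ∨ 2 ∣ Fintype.card F - 1 := by
    have := Fintype.card_pos (α := F)
    omega
  rw [AdjPSL.wL, if_pos h]

theorem wL_key {q r : ℕ} (hr : 2 < AdjPSL.wL q r) : ¬ r ∣ q ∧ ¬ r ∣ q - 1 ∧ AdjPSL.wL q r = AdjOrth.ee q r := by
  rw [AdjPSL.wL] at hr ⊢
  split_ifs at hr with h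
  · omega
  · have h' := not_or.1 h
    exact ⟨h'.1, h'.2, if_neg h⟩

theorem lin_psl (hm : 3 ≤ m) : Lin (Matrix.ProjectiveSpecialLinearGroup (Fin m) F) m (Fintype.card F)
    (AdjPSL.wL (Fintype.card F)) (AdjOrth.ee (Fintype.card F)) := by
  classical
  have hq1 := Fintype.one_lt_card (α := F)
  obtain ⟨p, hp⟩ := CharP.exists F
  have hpp : Fact p.Prime := ⟨CharP.char_is_prime F p⟩
  obtain ⟨j, -, hj⟩ := FiniteField.card F p
  have hfin : Finite (Matrix.ProjectiveSpecialLinearGroup (Fin m) F) := inferInstance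
  refine ⟨wc_psl hm, wL_two, ?_, ?_, ?_, ?_⟩
  · intro r hr hw hd
    obtain ⟨h1, -, h2⟩ := wL_key hw
    exact ⟨h2.symm, h2 ▸ AdjPSL.ee_le hr h1 hd⟩
  · intro r s hr hs hwr hws hdr hds hcr hcs hex
    obtain ⟨h1, h2, h3⟩ := wL_key hwr
    obtain ⟨h4, h5, h6⟩ := wL_key hws
    have hr2 : r ≠ 2 := by
      rintro rfl
      rw [wL_two] at hwr
      omega
    have hs2 : s ≠ 2 := by
      rintro rfl
      rw [wL_two] at hws
      omega
    have hrs : s ≠ r := by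
      rintro rfl
      omega
    have hrp : r ≠ p := by
      rintro rfl
      exact h1 (by rw [hj]; exact dvd_pow_self r j.ne_zero)
    have hsp : s ≠ p := by
      rintro rfl
      exact h4 (by rw [hj]; exact dvd_pow_self s j.ne_zero)
    have hkey := (S2468.result (F := F) p m (by omega) (by omega) s r hs hr hs2 hr2 hsp hrp hrs hds hdr (m - 1) m
      hcs.symm hcr.symm (by omega) (by (clear * - hm hcr hex hr2 hs2 hrs hrp hsp; omega))).2 ⟨by omega, ?_⟩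
    · obtain ⟨x, hx⟩ := hex
      exact hkey ⟨x, by rw [hx, mul_comm]⟩
    · intro hd
      have h7 : m - 1 ∣ m - (m - 1) := Nat.dvd_sub hd dvd_rfl
      have := Nat.le_of_dvd (by (clear * - hm hcr hex hr2 hs2 hrs hrp hsp; omega)) h7
      (clear * - hm hcr hex hr2 hs2 hrs hrp hsp this; omega)
  · rintro a N ha ⟨x, hx⟩ hN
    have hN0 : N ≠ 0 := by
      rw [← hx]
      exact (orderOf_pos x).ne'
    have ha1 : 1 ≤ a := by omega
    have hNd : N ∣ ∏ i : Fin m, (Fintype.card F ^ m - Fintype.card F ^ (i : ℕ)) := by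
      rw [← hx]
      exact (orderOf_dvd_natCard x).trans H102.TPsl.card_dvd
    have h1 : N ∣ Fintype.card F ^ (2 * a) - 1 := by
      rw [Nat.dvd_iff_prime_pow_dvd_dvd]
      intro r k hr hrk
      rcases Nat.eq_zero_or_pos k with rfl | hk0
      · rw [pow_zero]
        exact one_dvd _
      · obtain ⟨hw, hc⟩ := hN r hr ((dvd_pow_self r hk0.ne').trans hrk)
        obtain ⟨h2, -, -⟩ := wL_key hw
        refine H102.TPsl.pow_dvd_of_prod hr h2 (by omega) (by omega) (hrk.trans hNd) ?_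
        intro i hi hin hne hd
        have h3 := AdjOrth.ee_dvd (by omega) hd
        rw [hc] at h3
        obtain ⟨c, hc'⟩ := h3
        have hc2 : c < 2 := by
          by_contra h
          have : 2 * a * 2 ≤ 2 * a * c := Nat.mul_le_mul_left _ (by omega)
          omega
        interval_cases c <;> omega
    rw [sq_sub] at h1
    refine le_of_coprime h1 ?_ (Nat.succ_pos _)
    apply Nat.Coprime.symm
    apply Nat.coprime_of_dvd
    intro r hr hd hd2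
    obtain ⟨hw, hc⟩ := hN r hr hd2
    have h3 := AdjOrth.ee_dvd (by omega) hd
    rw [hc] at h3
    have := Nat.le_of_dvd ha1 h3
    omega
  · obtain ⟨n, rfl⟩ : ∃ n, m = n + 1 := ⟨m - 1, by omega⟩
    obtain ⟨A, hA⟩ := AdjPSU.exists_singer F (m := n) (by omega)
    have hpos : 0 < Fintype.card F ^ n - 1 := by
      have h1 : 1 < Fintype.card F ^ n := Nat.one_lt_pow (by omega) hq1
      omega
    obtain ⟨N, hN⟩ : Fintype.card F - 1 ∣ Fintype.card F ^ n - 1 := by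
      simpa only [_root_.one_pow] using Nat.sub_dvd_pow_sub_pow (Fintype.card F) 1 n
    have hb : AdjPSL.HasBlock F n N := by
      refine ⟨((A ^ (Fintype.card F - 1) : (Matrix (Fin n) (Fin n) F)ˣ) : Matrix (Fin n) (Fin n) F), ?_, ?_, ?_⟩
      · rw [Units.val_pow_eq_pow_val, Matrix.det_pow]
        exact FiniteField.pow_card_sub_one_eq_one _ ((Matrix.isUnit_iff_isUnit_det _).1 (Units.isUnit _)).ne_zero
      · rw [← Units.val_pow_eq_pow_val, ← pow_mul, ← hN, ← hA, pow_orderOf_eq_one, Units.val_one]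
      · intro k hk
        have h2 : A ^ ((Fintype.card F - 1) * k) = 1 := by
          rw [pow_mul]
          apply Units.ext
          rw [Units.val_pow_eq_pow_val, hk, Units.val_one]
        have h3 := orderOf_dvd_of_pow_eq_one h2
        rw [hA, hN] at h3
        exact Nat.dvd_of_mul_dvd_mul_left (by omega) h3
    obtain ⟨z, hz⟩ := AdjPSL.exists_order_of_block_lt hb (Nat.lt_succ_self n) N dvd_rfl
    refine ⟨z, ?_, ?_⟩
    · rw [hz, Nat.add_sub_cancel]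
      have h1 : (Fintype.card F - 1) * N ≤ (Fintype.card F + 1) * N := Nat.mul_le_mul_right _ (by omega)
      omega
    · intro r hr hw hc
      obtain ⟨h1, h2, h3⟩ := wL_key hw
      rw [hz]
      rw [Nat.add_sub_cancel] at hc
      have h4 := AdjOrth.dvd_pow_ee (q := Fintype.card F) (r := r) (by omega)
      rw [hc, hN] at h4
      exact (hr.dvd_mul.1 h4).resolve_left h2

end inst

/-- **Row R1.** -/
theorem row_psl {p k m v : ℕ} {S : Type u} [Group S] [Finite S] (R : Row p k S) (hg : IsNamed (.psl m v) S)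
    (_hv : ¬ p ∣ v) : False := by
  obtain ⟨F, _, _, hF, ⟨e⟩⟩ := hg.real
  subst hF
  have hm := hg.cond.1
  obtain ⟨ρ, hρ, h3, h7⟩ := coq R
  have h9 := rank_psl hm e hρ h3 (by omega)
  have h11 := (wc_psl (F := F) (n := m) (by omega)).half (hρ.congr e) h3 (by omega)
  exact ((lin_psl (F := F) (m := m) (by omega)).congr e).false R (by omega) Fintype.one_lt_card

end Cfsg.Agent.H627.E7
end

-- part: H627/E7/LinPSU
section
/-!
# S3482 (`E₇(q)`), row R2: `S` is not `PSU_m(u)` (helper627)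
-/

set_option autoImplicit false

namespace Cfsg.Agent.H627.E7

open Cfsg Cfsg.Agent.H436 Cfsg.Agent.H962.E7 Cfsg.Agent.H72 Cfsg.Agent.OrdDiv Matrix
open Cfsg.Agent.H186 Cfsg.Agent.ClassicalGeometry.GUBasic Cfsg.Agent.H103.UniBlock Cfsg.Agent.H103.PGUUpper
  Cfsg.Agent.H127 Cfsg.Agent.H376.PrimeOrd

universe u

section inst

variable {F : Type*} [Field F] [Fintype F] {m q : ℕ}

theorem wU_two : AdjPSU.wU q 2 = 2 := by
  have h : 2 ∣ q ∨ 2 ∣ q + 1 := by omega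
  rw [AdjPSU.wU, if_pos h]

theorem wU_key {r : ℕ} (hr : 2 < AdjPSU.wU q r) : ¬ r ∣ q ∧ ¬ r ∣ q + 1 ∧ AdjPSU.wU q r = AdjPSU.nu q r := by
  rw [AdjPSU.wU] at hr ⊢
  split_ifs at hr with h
  · omega
  · have h' := not_or.1 h
    exact ⟨h'.1, h'.2, if_neg h⟩

theorem nu_dvd_of {r a : ℕ} (hq : 1 ≤ q) (h : if Even a then r ∣ q ^ a - 1 else r ∣ q ^ a + 1) :
    AdjPSU.nu q r ∣ a := by
  apply orderOf_dvd_of_pow_eq_one
  split_ifs at h with he
  · rw [he.neg_pow]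
    rw [← ZMod.natCast_eq_zero_iff, Nat.cast_sub (Nat.one_le_pow _ _ hq)] at h
    push_cast at h
    linear_combination h
  · rw [(Nat.not_even_iff_odd.1 he).neg_pow]
    rw [← ZMod.natCast_eq_zero_iff] at h
    push_cast at h
    linear_combination -h

/-- the order of `q ^ 2` -/
theorem order_sq (r : ℕ) : orderOf ((q ^ 2 : ℕ) : ZMod r) = AdjPSU.nu q r / Nat.gcd (AdjPSU.nu q r) 2 := by
  have h : ((q ^ 2 : ℕ) : ZMod r) = (-(q : ZMod r)) ^ 2 := by
    push_cast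
    ring
  rw [h, orderOf_pow' _ two_ne_zero]
  rfl

theorem center_pow (hF : Fintype.card F = q ^ 2) (hm : 3 ≤ m) (x : SU m F q)
    (hx : x ∈ Subgroup.center (SU m F q)) : x ^ (q + 1) = 1 := by
  have hfin : Finite (SU m F q) := inferInstance
  have h1 : orderOf x ∣ Nat.card (Subgroup.center (SU m F q)) := by
    have := orderOf_dvd_natCard (⟨x, hx⟩ : Subgroup.center (SU m F q))
    rwa [Subgroup.orderOf_mk] at this
  rw [S0279.result hF m hm] at h1
  exact orderOf_dvd_iff_pow_eq_one.1 (h1.trans (Nat.gcd_dvd_right _ _))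

theorem arith_nadj {m : ℕ} (hm : 4 ≤ m) (hkey : m / Nat.gcd m 2 + (m - 1) / Nat.gcd (m - 1) 2 ≤ m ∨
    ∃ d, 0 < d ∧ d ≤ m ∧ m / Nat.gcd m 2 ∣ d ∧ (m - 1) / Nat.gcd (m - 1) 2 ∣ d) : False := by
  rcases Nat.even_or_odd' m with ⟨b, hb | hb⟩
  · have g1 : Nat.gcd m 2 = 2 := Nat.gcd_eq_right ⟨b, hb⟩
    have g2 : Nat.gcd (m - 1) 2 = 1 := by
      rw [Nat.gcd_comm]
      exact (Nat.Prime.coprime_iff_not_dvd Nat.prime_two).2 (by clear hkey; omega)
    rw [g1, g2, Nat.div_one] at hkey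
    rcases hkey with h7 | ⟨d, hd0, hd, h8, h9⟩
    · omega
    · obtain ⟨c, hc⟩ := h9
      have hc1 : c = 1 := by
        have : c < 2 := by
          by_contra h
          have : (m - 1) * 2 ≤ (m - 1) * c := Nat.mul_le_mul_left _ (by omega)
          omega
        interval_cases c <;> omega
      rw [hc1, mul_one] at hc
      rw [hc, show m / 2 = b by omega] at h8
      have h10 : b ∣ 1 := by
        have h11 : b ∣ m := ⟨2, by omega⟩
        have := Nat.dvd_sub h11 h8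
        rwa [show m - (m - 1) = 1 by omega] at this
      have := Nat.le_of_dvd one_pos h10
      omega
  · have hb2 : (m - 1) / 2 = b := by clear hkey; omega
    have g1 : Nat.gcd (m - 1) 2 = 2 := Nat.gcd_eq_right ⟨b, by clear hkey; omega⟩
    have g2 : Nat.gcd m 2 = 1 := by
      rw [Nat.gcd_comm]
      exact (Nat.Prime.coprime_iff_not_dvd Nat.prime_two).2 (by clear hkey; omega)
    rw [g1, g2, Nat.div_one, hb2] at hkey
    rcases hkey with h7 | ⟨d, hd0, hd, h8, h9⟩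
    · omega
    · have h10 := Nat.le_of_dvd hd0 h8
      have hdm : d = m := by omega
      rw [hdm] at h9
      have h11 : b ∣ 1 := by
        have h12 : b ∣ 2 * b := Dvd.intro_left _ rfl
        have := Nat.dvd_sub h9 h12
        rwa [show m - 2 * b = 1 by omega] at this
      have := Nat.le_of_dvd one_pos h11
      omega

/-- **Non-adjacency of the classes `m`, `m - 1`.** -/
theorem psu_nadj (hF : Fintype.card F = q ^ 2) (hm : 4 ≤ m) {r s : ℕ} (hr : r.Prime) (hs : s.Prime)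
    (hwr : 2 < AdjPSU.wU q r) (hws : 2 < AdjPSU.wU q s) (hcr : AdjPSU.nu q r = m) (hcs : AdjPSU.nu q s = m - 1) :
    ¬ ∃ x : PSU m F q, orderOf x = r * s := by
  classical
  rintro ⟨x, hx⟩
  have hq := ClassicalGeometry.GUBasic.two_le hF
  obtain ⟨p, hp⟩ := CharP.exists F
  have hpp : Fact p.Prime := ⟨CharP.char_is_prime F p⟩
  obtain ⟨h1, h2, -⟩ := wU_key hwr
  obtain ⟨h4, h5, -⟩ := wU_key hws
  have hrs : r ≠ s := by
    rintro rfl
    omega
  have hcr' : Nat.Coprime (q + 1) r := (Nat.Prime.coprime_iff_not_dvd hr).2 h2 |>.symm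
  have hcs' : Nat.Coprime (q + 1) s := (Nat.Prime.coprime_iff_not_dvd hs).2 h5 |>.symm
  have hchar : ∀ t : ℕ, t.Prime → ¬ t ∣ q → (t : F) ≠ 0 := by
    intro t ht htq h0
    rw [CharP.cast_eq_zero_iff F p] at h0
    have h7 : p = t := ((Nat.dvd_prime ht).1 h0).resolve_left hpp.out.one_lt.ne'
    obtain ⟨j, hj, hj'⟩ := FiniteField.card F p
    apply htq
    apply ht.dvd_of_dvd_pow (n := 2)
    rw [← hF, hj', h7]
    exact dvd_pow_self t j.ne_zero
  have hrF := hchar r hr h1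
  have hsF := hchar s hs h4
  set Z := Subgroup.center (SU m F q) with hZ
  obtain ⟨y, hy1, hy2⟩ := exists_lift Z (fun x hx => center_pow hF (by omega) x hx) (Nat.Coprime.mul_right hcr' hcs') x hx
  let f : SU m F q →* Module.End F (Fin m → F) := (S2468.phi F m).comp (SU m F q).subtype
  have hf : Function.Injective f := (S2468.phi_injective F m).comp (SU m F q).subtype_injective
  have hA : f (y ^ s) ^ r = 1 := by
    rw [← map_pow, ← pow_mul, mul_comm s r, hy1, map_one]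
  have hB : f (y ^ r) ^ s = 1 := by
    rw [← map_pow, ← pow_mul, hy1, map_one]
  have hfin : Finite (SU m F q) := inferInstance
  have hyo : orderOf y = r * s := by
    apply Nat.dvd_antisymm (orderOf_dvd_of_pow_eq_one hy1)
    rw [← hy2]
    exact orderOf_map_dvd (QuotientGroup.mk' Z) y
  have hys : f (y ^ s) ≠ 1 := by
    intro h
    have h3 : y ^ s = 1 := hf (h.trans (map_one _).symm)
    have h6 := orderOf_dvd_of_pow_eq_one h3
    rw [hyo] at h6
    nlinarith only [Nat.le_of_dvd hs.pos h6, hr.two_le, hs.pos]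
  have hyr : f (y ^ r) ≠ 1 := by
    intro h
    have h3 : y ^ r = 1 := hf (h.trans (map_one _).symm)
    have h6 := orderOf_dvd_of_pow_eq_one h3
    rw [hyo] at h6
    nlinarith only [Nat.le_of_dvd hr.pos h6, hs.two_le, hr.pos]
  have hcomm : f (y ^ s) * f (y ^ r) = f (y ^ r) * f (y ^ s) := by
    rw [← map_mul, ← map_mul, ← pow_add, ← pow_add, add_comm]
  have hkey := two_primes hr hs hrF hsF hA hB hys hyr hcomm
  have hfr : Module.finrank F (Fin m → F) = m := by simp only [_root_.Module.finrank_fintype_fun_eq_card, _root_.Fintype.card_fin]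
  have hc : Nat.card F = q ^ 2 := by rw [Nat.card_eq_fintype_card, hF]
  rw [hfr, hc, order_sq, order_sq, hcr, hcs] at hkey
  exact arith_nadj hm hkey

/-- a block of determinant one from an isometry of order `(q + 1) * N` -/
theorem hasBlock_of_unit' (hF : Fintype.card F = q ^ 2) {a N : ℕ} {ι : Type*} [Fintype ι] [DecidableEq ι]
    (e : Fin a ≃ ι) {A : Matrix ι ι F} (hA : Uni q A) (h1 : A ^ ((q + 1) * N) = 1)
    (h2 : ∀ k : ℕ, A ^ k = 1 → (q + 1) * N ∣ k) : AdjPSU.HasBlock F q a N := by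
  have hs : ∀ k : ℕ, ((A ^ (q + 1)).submatrix e e) ^ k = (A ^ ((q + 1) * k)).submatrix e e := by
    intro k
    induction k with
    | zero => rw [pow_zero, mul_zero, pow_zero, Matrix.submatrix_one_equiv]
    | succ k ih => rw [pow_succ, ih, Matrix.submatrix_mul_equiv, ← pow_add, mul_add, mul_one]
  refine ⟨(A ^ (q + 1)).submatrix e e, uni_submatrix e (AdjPSU.uni_pow hF hA _), ?_, ?_, ?_⟩
  · rw [Matrix.det_submatrix_equiv_self, Matrix.det_pow, AdjPSU.det_pow hF hA]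
  · rw [hs, h1, Matrix.submatrix_one_equiv]
  · intro k hk
    rw [hs] at hk
    have h3 : A ^ ((q + 1) * k) = 1 := by
      have h4 := congrArg (fun M : Matrix (Fin a) (Fin a) F => M.submatrix e.symm e.symm) hk
      simp only [Matrix.submatrix_submatrix, Equiv.self_comp_symm, Matrix.submatrix_id_id] at h4
      rw [h4, Matrix.submatrix_one_equiv]
    exact Nat.dvd_of_mul_dvd_mul_left (Nat.succ_pos q) (h2 _ h3)

theorem block_odd (hF : Fintype.card F = q ^ 2) {a N : ℕ} (ha : Odd a) (hN : q ^ a + 1 = (q + 1) * N) :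
    AdjPSU.HasBlock F q a N := by
  obtain ⟨p, hp⟩ := CharP.exists F
  have : Fact p.Prime := ⟨CharP.char_is_prime F p⟩
  obtain ⟨j, hj, -⟩ := UnitRoots.exists_eq_pow hF p
  obtain ⟨A, hA, ho⟩ := exists_singer_unitary (p := p) hj hF ha
  refine hasBlock_of_unit' hF (Equiv.refl _) (N := N) hA ?_ ?_
  · rw [← hN, ← Units.val_pow_eq_pow_val, ← ho, pow_orderOf_eq_one, Units.val_one]
  · intro k hk
    rw [← hN, ← ho]
    apply orderOf_dvd_of_pow_eq_one
    apply Units.ext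
    rw [Units.val_pow_eq_pow_val, hk, Units.val_one]

theorem block_even (hF : Fintype.card F = q ^ 2) {j N : ℕ} (hj : j ≠ 0) (hN : q ^ (2 * j) - 1 = (q + 1) * N) :
    AdjPSU.HasBlock F q (2 * j) N := by
  have hq := ClassicalGeometry.GUBasic.two_le hF
  obtain ⟨A, hA⟩ := AdjPSU.exists_singer F hj
  have hA' : orderOf A = q ^ (2 * j) - 1 := by rw [hA, hF, ← pow_mul]
  let A' : GL (Fin j) F := A
  have hpow : ∀ k : ℕ, (fromBlocks (A' : Matrix (Fin j) (Fin j) F) 0 0 (st q ((A'⁻¹ : GL (Fin j) F) :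
      Matrix (Fin j) (Fin j) F))) ^ k = fromBlocks ((A' ^ k : GL (Fin j) F) : Matrix (Fin j) (Fin j) F) 0 0
        (st q (((A' ^ k)⁻¹ : GL (Fin j) F) : Matrix (Fin j) (Fin j) F)) := by
    intro k
    induction k with
    | zero =>
      rw [pow_zero, pow_zero, inv_one, Units.val_one, st_one hF, fromBlocks_one]
    | succ k ih =>
      rw [pow_succ, ih, fromBlocks_multiply, pow_succ, _root_.mul_inv_rev, Units.val_mul, Units.val_mul, st_mul hF]
      simp only [Matrix.mul_zero, Matrix.zero_mul, add_zero, zero_add]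
  refine hasBlock_of_unit' hF ((finCongr (two_mul j)).trans finSumFinEquiv.symm) (N := N)
    (uni_hyp hF A') ?_ ?_
  · rw [hpow, ← hN, ← hA', show A' ^ orderOf A = 1 from pow_orderOf_eq_one A, inv_one, Units.val_one, st_one hF,
      fromBlocks_one]
  · intro k hk
    rw [hpow, ← fromBlocks_one, fromBlocks_inj] at hk
    rw [← hN, ← hA']
    apply orderOf_dvd_of_pow_eq_one
    exact Units.ext hk.1

theorem exists_pm (n : ℕ) : ∃ N, (if Even n then q ^ n - 1 else q ^ n + 1) = (q + 1) * N := by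
  split_ifs with h
  · obtain ⟨j, hj⟩ := h
    have h1 : q + 1 ∣ q ^ 2 - 1 := ⟨q - 1, by
      have := Nat.sq_sub_sq q 1
      rw [one_pow] at this
      exact this⟩
    have h2 : q ^ 2 - 1 ∣ q ^ n - 1 := by
      rw [hj, ← two_mul, pow_mul]
      simpa only [_root_.one_pow] using Nat.sub_dvd_pow_sub_pow (q ^ 2) 1 j
    exact h1.trans h2
  · have := (Nat.not_even_iff_odd.1 h).nat_add_dvd_pow_add_pow q 1
    rw [one_pow] at this
    exact this

theorem lin_psu (hF : Fintype.card F = q ^ 2) (hm : 4 ≤ m) : Lin (PSU m F q) m q (AdjPSU.wU q) (AdjPSU.nu q) := by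
  classical
  have hq := ClassicalGeometry.GUBasic.two_le hF
  have hfin' : Finite (SU m F q) := inferInstance
  have hfin : Finite (PSU m F q) := inferInstance
  refine ⟨wc_psu hF (by omega), wU_two, ?_, ?_, ?_, ?_⟩
  · intro r hr hw hd
    obtain ⟨h1, -, h2⟩ := wU_key hw
    exact ⟨h2.symm, h2 ▸ AdjPSU.nu_le hF (by omega) hr h1 hd⟩
  · intro r s hr hs hwr hws _ _ hcr hcs
    exact psu_nadj hF hm hr hs hwr hws hcr hcs
  · rintro a N ha ⟨x, hx⟩ hN
    have ha1 : 1 ≤ a := by omega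
    have hNd : N ∣ q ^ (m * (m - 1) / 2) * ∏ i ∈ Finset.range (m - 1), H948.UProd.ph q (i + 1) := by
      rw [← H948.UProd.card_SU hF (by omega), ← hx]
      exact (orderOf_dvd_natCard x).trans (Subgroup.card_quotient_dvd_card _)
    have h1 : N ∣ q ^ (2 * a) - 1 := by
      rw [Nat.dvd_iff_prime_pow_dvd_dvd]
      intro r k hr hrk
      rcases Nat.eq_zero_or_pos k with rfl | hk0
      · rw [pow_zero]
        exact one_dvd _
      · obtain ⟨hw, hc⟩ := hN r hr ((dvd_pow_self r hk0.ne').trans hrk)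
        obtain ⟨h2, -, -⟩ := wU_key hw
        have h3 := hrk.trans hNd
        have h4 : Nat.Coprime (r ^ k) (q ^ (m * (m - 1) / 2)) :=
          Nat.Coprime.pow _ _ ((Nat.Prime.coprime_iff_not_dvd hr).2 h2)
        have h5 := h4.dvd_of_dvd_mul_left h3
        have hmem : 2 * a - 2 ∈ Finset.range (m - 1) := Finset.mem_range.2 (by omega)
        rw [← Finset.mul_prod_erase _ _ hmem] at h5
        have hco : Nat.Coprime (r ^ k) (∏ i ∈ (Finset.range (m - 1)).erase (2 * a - 2), H948.UProd.ph q (i + 1)) := by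
          apply Nat.Coprime.prod_right
          intro i hi
          apply Nat.Coprime.pow_left
          rw [Nat.Prime.coprime_iff_not_dvd hr]
          intro h6
          obtain ⟨hne, hi⟩ := Finset.mem_erase.1 hi
          rw [Finset.mem_range] at hi
          have h7 : AdjPSU.nu q r ∣ i + 1 + 1 := by
            apply nu_dvd_of (by omega)
            rw [H948.UProd.ph] at h6
            split_ifs at h6 with h8
            · rw [if_neg (by rw [Nat.even_add_one, not_not]; exact h8)]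
              exact h6
            · rw [if_pos (by rw [Nat.even_add_one]; exact h8)]
              exact h6
          rw [hc] at h7
          obtain ⟨c, hc'⟩ := h7
          have hc2 : c < 2 := by
            by_contra h
            have : 2 * a * 2 ≤ 2 * a * c := Nat.mul_le_mul_left _ (by omega)
            (clear * - hm ha ha1 hi hc' this; omega)
          interval_cases c <;> omega
        have h8 := hco.dvd_of_dvd_mul_right h5
        rw [H948.UProd.ph, if_neg (by rw [Nat.not_even_iff_odd]; exact ⟨a - 1, by omega⟩),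
          show 2 * a - 2 + 1 + 1 = 2 * a by omega] at h8
        exact h8
    rw [sq_sub] at h1
    -- the primes of `N` divide exactly one factor
    have hcls : ∀ r : ℕ, r.Prime → r ∣ N → (-(q : ZMod r)) ^ a = -1 := by
      intro r hr hd
      have hf := Fact.mk hr
      obtain ⟨hw, hc⟩ := hN r hr hd
      have h2 : ((-(q : ZMod r)) ^ a) ^ 2 = 1 := by
        rw [← pow_mul, mul_comm, ← hc]
        exact pow_orderOf_eq_one _
      rw [pow_two] at h2
      rcases mul_self_eq_one_iff.1 h2 with h3 | h3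
      · exfalso
        have h4 := orderOf_dvd_of_pow_eq_one h3
        change AdjPSU.nu q r ∣ a at h4
        rw [hc] at h4
        have := Nat.le_of_dvd ha1 h4
        omega
      · exact h3
    have hr2 : ∀ r : ℕ, r.Prime → r ∣ N → (2 : ZMod r) ≠ 0 := by
      intro r hr hd h0
      have hf := Fact.mk hr
      obtain ⟨hw, hc⟩ := hN r hr hd
      have h1 : r ∣ 2 := (ZMod.natCast_eq_zero_iff 2 r).1 (by exact_mod_cast h0)
      have h3 := (Nat.prime_dvd_prime_iff_eq hr Nat.prime_two).1 h1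
      rw [h3, wU_two] at hw
      omega
    have hpos : 0 < q ^ a - 1 := by
      have : 1 < q ^ a := Nat.one_lt_pow (by omega) hq
      omega
    rcases Nat.even_or_odd a with he | ho
    · refine le_of_coprime h1 ?_ (Nat.succ_pos _)
      apply Nat.Coprime.symm
      apply Nat.coprime_of_dvd
      intro r hr hd hd2
      have h3 := hcls r hr hd2
      rw [he.neg_pow] at h3
      rw [← ZMod.natCast_eq_zero_iff, Nat.cast_sub (Nat.one_le_pow _ _ (by omega))] at hd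
      push_cast at hd
      apply hr2 r hr hd2
      linear_combination h3 - hd
    · refine (le_of_coprime (b := q ^ a + 1) (c := q ^ a - 1) (by rw [mul_comm]; exact h1) ?_ hpos).trans (by omega)
      apply Nat.Coprime.symm
      apply Nat.coprime_of_dvd
      intro r hr hd hd2
      have h3 := hcls r hr hd2
      rw [ho.neg_pow] at h3
      rw [← ZMod.natCast_eq_zero_iff] at hd
      push_cast at hd
      apply hr2 r hr hd2
      linear_combination hd + h3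
  · obtain ⟨n, rfl⟩ : ∃ n, m = n + 1 := ⟨m - 1, by omega⟩
    obtain ⟨N, hN⟩ := exists_pm (q := q) n
    have hb : AdjPSU.HasBlock F q n N := by
      by_cases he : Even n
      · rw [if_pos he] at hN
        obtain ⟨j, hj⟩ := he
        have hj2 : n = 2 * j := by omega
        subst hj2
        exact block_even hF (by omega) hN
      · rw [if_neg he] at hN
        exact block_odd hF (Nat.not_even_iff_odd.1 he) hN
    obtain ⟨z, hz⟩ := AdjPSU.exists_order_of_block_lt hF (by omega) hb (Nat.lt_succ_self n) N dvd_rfl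
    refine ⟨z, ?_, ?_⟩
    · rw [hz, Nat.add_sub_cancel, ← hN]
      split_ifs <;> omega
    · intro r hr hw hc
      obtain ⟨h1, h2, h3⟩ := wU_key hw
      rw [hz]
      rw [Nat.add_sub_cancel] at hc
      have h4 := AdjPSU.nu_dvd (q := q) (by omega) r
      rw [hc] at h4
      have h5 : r ∣ (q + 1) * N := by
        rw [← hN]
        split_ifs at h4 ⊢
        · exact h4
        · exact h4
      exact (hr.dvd_mul.1 h5).resolve_left h2

end inst

/-- **Row R2.** -/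
theorem row_psu {p k m v : ℕ} {S : Type u} [Group S] [Finite S] (R : Row p k S) (hg : IsNamed (.psu m v) S)
    (_hv : ¬ p ∣ v) : False := by
  obtain ⟨F, _, _, hF, ⟨e⟩⟩ := hg.real
  have hm := hg.cond.1
  obtain ⟨ρ, hρ, h3, h7⟩ := coq R
  have h9 := rank_psu hF hm e hρ h3 (by omega)
  have h11 := (wc_psu hF (n := m) (by omega)).half (hρ.congr e) h3 (by omega)
  exact ((lin_psu hF (m := m) (by omega)).congr e).false R (by omega) (ClassicalGeometry.GUBasic.two_le hF)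

end Cfsg.Agent.H627.E7
end
end

-- part: H267/E7R/Tools_mg
section
prune_inst 0x502043403d8002000000001202002000680005900000000170a00d4201077022804220004a800c020022b200180400000010005000000000000034000003012080a8960471c0000c46008f800006000000000000020000000000000000041000000000000
set_option linter.all false
open scoped Cfsg.Agent.FastGrp

-- part: H267/E7R/Tools
section
/-!
# S3482: tools for the rows (helper267)

* `TT_odd` : the tori of the classes 14 and 18 have odd order;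
* `not_two` : their primes are not adjacent to 2;
* `TT_dvd_sub`, `TT_dvd_add` : `TT q 7 ∣ q ^ 7 - 1`, `TT q 9 ∣ q ^ 9 - 1`, `TT q 14 ∣ q ^ 7 + 1`, `TT q 18 ∣ q ^ 9 + 1`;
* `sep` : an odd prime does not divide both a torus of class 14, 18 and a torus of class 7, 9.
-/

set_option autoImplicit false

namespace Cfsg.Agent.H267.E7R

open Cfsg.Agent.H436 Cfsg.Agent.H962.E7

universe u

variable {p k : ℕ} {S : Type u} [Group S]

theorem q_two (R : Row p k S) : 2 ≤ p ^ k := by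
  have h1 := R.hp.two_le
  have h2 := R.hk
  calc 2 ≤ p := h1
    _ = p ^ 1 := (pow_one p).symm
    _ ≤ p ^ k := Nat.pow_le_pow_right (by omega) h2

theorem q_mod (R : Row p k S) (h2 : p ≠ 2) : p ^ k % 4 = 1 := by
  rcases R.cas with h | h | h
  · exact absurd h h2
  · subst h
    rw [Nat.pow_mod]
    norm_num
  · subst h
    rw [Nat.pow_mod]
    norm_num

theorem prim14 (R : Row p k S) : ∃ r, Prim (p ^ k) 14 r := exists_prim (q_two R) (by norm_num) (by norm_num)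

theorem prim18 (R : Row p k S) : ∃ r, Prim (p ^ k) 18 r := exists_prim (q_two R) (by norm_num) (by norm_num)

theorem prim7 (R : Row p k S) : ∃ r, Prim (p ^ k) 7 r := exists_prim (q_two R) (by norm_num) (by norm_num)

theorem prim9 (R : Row p k S) : ∃ r, Prim (p ^ k) 9 r := exists_prim (q_two R) (by norm_num) (by norm_num)

theorem gcd_two_eq {q : ℕ} (h : q % 4 = 1) : Nat.gcd 2 (q - 1) = 2 :=
  Nat.gcd_eq_left (by omega)

theorem gcd_two_even {q : ℕ} (h : q % 2 = 0) (hq : 2 ≤ q) : Nat.gcd 2 (q - 1) = 1 := by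
  have : Nat.Coprime 2 (q - 1) := Nat.coprime_two_left.2 (Nat.odd_iff.2 (by omega))
  exact this

theorem even_of (R : Row p k S) (h2 : p = 2) : p ^ k % 2 = 0 := by
  subst h2
  have h1 : 2 ∣ 2 ^ k := dvd_pow_self 2 (by have := R.hk; omega)
  omega

/-- the torus of class 14 -/
theorem TT14_odd (R : Row p k S) : TT (p ^ k) 14 % 2 = 1 := by
  have hq := q_two R
  have e : TT (p ^ k) 14 = ((p ^ k) ^ 7 + 1) / Nat.gcd 2 (p ^ k - 1) := by
    unfold TT; norm_num only [_root_.ite_false, _root_.ite_true]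
  rw [e]
  by_cases h2 : p = 2
  · have h3 := even_of R h2
    rw [gcd_two_even h3 hq, Nat.div_one, Nat.add_mod, Nat.pow_mod, h3]
  · have h3 := q_mod R h2
    rw [gcd_two_eq h3]
    have h4 : (p ^ k) ^ 7 % 4 = 1 := by rw [Nat.pow_mod, h3]
    omega

/-- the torus of class 18 -/
theorem TT18_odd (R : Row p k S) : TT (p ^ k) 18 % 2 = 1 := by
  have hq := q_two R
  have e : TT (p ^ k) 18 = (p ^ k + 1) * ((p ^ k) ^ 6 - (p ^ k) ^ 3 + 1) / Nat.gcd 2 (p ^ k - 1) := by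
    unfold TT; norm_num only [_root_.ite_true, _root_.ite_false]
  rw [e]
  obtain ⟨q, hqq⟩ : ∃ q, p ^ k = q := ⟨_, rfl⟩
  rw [hqq] at hq ⊢
  have hle : q ^ 3 ≤ q ^ 6 := Nat.pow_le_pow_right (by omega) (by norm_num)
  have h6 : (q ^ 6 - q ^ 3 + 1) % 2 = 1 := by
    have h7 : q ^ 6 % 2 = q ^ 3 % 2 := by
      rcases Nat.mod_two_eq_zero_or_one q with h | h <;> rw [Nat.pow_mod, h, Nat.pow_mod q 3, h] <;> norm_num
    omega
  by_cases h2 : p = 2
  · have h3 := even_of R h2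
    rw [hqq] at h3
    rw [gcd_two_even h3 hq, Nat.div_one, Nat.mul_mod, h6]
    (clear * - h3; omega)
  · have h3 := q_mod R h2
    rw [hqq] at h3
    rw [gcd_two_eq h3]
    obtain ⟨t, ht⟩ : ∃ t, q + 1 = 2 * t := ⟨(q + 1) / 2, by omega⟩
    rw [ht, mul_assoc, Nat.mul_div_cancel_left _ (by norm_num), Nat.mul_mod, h6]
    omega

/-- the primes of the classes 14, 18 are not adjacent to 2 -/
theorem not_two (R : Row p k S) {i r : ℕ} (hi : i = 14 ∨ i = 18) (hr : Prim (p ^ k) i r) {x : S}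
    (hx : r ∣ orderOf x) : ¬ 2 ∣ orderOf x := by
  intro h2
  have h3 := h2.trans (R.tor i (by rcases hi with rfl | rfl <;> decide) x r hr hx)
  rcases hi with rfl | rfl
  · have := TT14_odd R
    omega
  · have := TT18_odd R
    omega

theorem div_dvd {a b : ℕ} (h : b ∣ a) : a / b ∣ a := Nat.div_dvd_of_dvd h

theorem gcd_dvd_left' {q a : ℕ} (h : q - 1 ∣ a) : Nat.gcd 2 (q - 1) ∣ a := (Nat.gcd_dvd_right _ _).trans h

/-- an odd prime dividing a torus of class 7 or 9 -/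
theorem dvd_sub {q i r : ℕ} (hq : 2 ≤ q) (hi : i = 7 ∨ i = 9) (h : r ∣ TT q i) : r ∣ q ^ i - 1 := by
  have c1 : ∀ j, ((q ^ j - 1 : ℕ) : ℤ) = (q : ℤ) ^ j - 1 := by
    intro j
    rw [Nat.cast_sub (Nat.one_le_pow _ _ (by omega))]; push_cast; ring
  have h0 : ((q - 1 : ℕ) : ℤ) = (q : ℤ) - 1 := by
    rw [Nat.cast_sub (by omega)]; push_cast; ring
  rcases hi with rfl | rfl
  · have e : TT q 7 = (q ^ 7 - 1) / Nat.gcd 2 (q - 1) := by unfold TT; norm_num only [_root_.ite_false, _root_.ite_true]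
    rw [e] at h
    have h1 : q - 1 ∣ q ^ 7 - 1 := by
      have := Nat.sub_dvd_pow_sub_pow q 1 7
      rwa [one_pow] at this
    exact h.trans (div_dvd (gcd_dvd_left' h1))
  · have e : TT q 9 = (q - 1) * (q ^ 6 + q ^ 3 + 1) / Nat.gcd 2 (q - 1) := by unfold TT; norm_num only [_root_.ite_false, _root_.ite_true]
    rw [e] at h
    refine (h.trans (div_dvd (gcd_dvd_left' (dvd_mul_right _ _)))).trans ?_
    refine ⟨q ^ 2 + q + 1, ?_⟩
    have : ((q ^ 9 - 1 : ℕ) : ℤ) = (((q - 1) * (q ^ 6 + q ^ 3 + 1) * (q ^ 2 + q + 1) : ℕ) : ℤ) := by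
      rw [c1]; push_cast; rw [h0]; ring
    exact_mod_cast this

/-- a prime dividing a torus of class 14 or 18 -/
theorem dvd_add {q i r : ℕ} (hq : 2 ≤ q) (hi : i = 14 ∨ i = 18) (h : r ∣ TT q i) : r ∣ q ^ (i / 2) + 1 := by
  have hg : Nat.gcd 2 (q - 1) ∣ q + 1 := by
    rcases Nat.mod_two_eq_zero_or_one q with h1 | h1
    · rw [gcd_two_even h1 hq]; exact one_dvd _
    · exact (Nat.gcd_dvd_left _ _).trans (by omega)
  rcases hi with rfl | rfl
  · have e : TT q 14 = (q ^ 7 + 1) / Nat.gcd 2 (q - 1) := by unfold TT; norm_num only [_root_.ite_false, _root_.ite_true]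
    rw [e] at h
    have h1 : q + 1 ∣ q ^ 7 + 1 := by
      have := Odd.nat_add_dvd_pow_add_pow q 1 (n := 7) (by decide)
      rwa [one_pow] at this
    exact h.trans (div_dvd (hg.trans h1))
  · have e : TT q 18 = (q + 1) * (q ^ 6 - q ^ 3 + 1) / Nat.gcd 2 (q - 1) := by unfold TT; norm_num only [_root_.ite_true, _root_.ite_false]
    rw [e] at h
    refine (h.trans (div_dvd (hg.trans (dvd_mul_right _ _)))).trans ?_
    have hle : q ^ 3 ≤ q ^ 6 := Nat.pow_le_pow_right (by omega) (by norm_num)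
    have hle' : q ≤ q ^ 2 := Nat.le_self_pow (by norm_num) q
    refine ⟨q ^ 2 - q + 1, ?_⟩
    change q ^ 9 + 1 = _
    zify [hle, hle']
    ring

/-- an odd prime does not divide both kinds of tori -/
theorem sep {q i j r : ℕ} (hq : 2 ≤ q) (hr : r.Prime) (hr2 : r ≠ 2) (hi : i = 14 ∨ i = 18) (hj : j = 7 ∨ j = 9)
    (h : r ∣ TT q i) (h' : r ∣ q ^ j - 1) : False := by
  have := Fact.mk hr
  have h1 := dvd_add hq hi h
  have e1 : (q : ZMod r) ^ (i / 2) = -1 := by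
    have := (ZMod.natCast_eq_zero_iff _ _).2 h1
    push_cast at this
    exact eq_neg_of_add_eq_zero_left this
  have e2 : (q : ZMod r) ^ j = 1 := by
    have := (ZMod.natCast_eq_zero_iff _ _).2 h'
    rw [Nat.cast_sub (Nat.one_le_pow _ _ (by omega))] at this
    push_cast at this
    exact sub_eq_zero.1 this
  have hne : (1 : ZMod r) ≠ -1 := by
    intro h3
    have h4 : ((2 : ℕ) : ZMod r) = 0 := by
      push_cast
      linear_combination h3
    rw [ZMod.natCast_eq_zero_iff] at h4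
    exact hr2 ((Nat.prime_dvd_prime_iff_eq hr Nat.prime_two).1 h4)
  have e3 : ((q : ZMod r) ^ (i / 2)) ^ j = -1 := by
    rw [e1]
    rcases hj with rfl | rfl
    · exact Odd.neg_one_pow (by decide)
    · exact Odd.neg_one_pow (by decide)
  rw [← pow_mul, mul_comm, pow_mul, e2, one_pow] at e3
  exact hne e3

end Cfsg.Agent.H267.E7R
end

-- part: H334/E7/NT
section
/-!
# The equation `A P_s(u) - B P_c(u) = e` (helper334, S3482 R9)
-/

set_option autoImplicit false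

namespace Cfsg.Agent.H334.E7.NT

/-- `A P7 = B P9 + e` or `A P9 = B P7 + e` : `u - 1 ∣ e`. -/
theorem no79 {u A B e X Y : ℤ} (hu : 8 ≤ u) (he : e = 1 ∨ e = 2) (hX : u - 1 ∣ X) (hY : u - 1 ∣ Y)
    (h : A * X = B * Y + e) : False := by
  have h1 : u - 1 ∣ e := by
    have h2 : e = A * X - B * Y := by linarith
    rw [h2]
    exact dvd_sub (hX.mul_left A) (hY.mul_left B)
  have h3 := Int.le_of_dvd (by omega) h1
  omega

theorem no1418 {u A B e X Y : ℤ} (hu : 8 ≤ u) (he : e = 1 ∨ e = 2) (hX : u + 1 ∣ X) (hY : u + 1 ∣ Y)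
    (h : A * X = B * Y + e) : False := by
  have h1 : u + 1 ∣ e := by
    have h2 : e = A * X - B * Y := by linarith
    rw [h2]
    exact dvd_sub (hX.mul_left A) (hY.mul_left B)
  have h3 := Int.le_of_dvd (by omega) h1
  omega

theorem u4 {u : ℤ} (hu : 8 ≤ u) : 512 * u ≤ u ^ 4 := by
  have h1 : 512 ≤ u ^ 3 := by
    calc (512 : ℤ) = 8 ^ 3 := by norm_num
      _ ≤ u ^ 3 := pow_le_pow_left₀ (by norm_num) hu 3
  calc 512 * u ≤ u ^ 3 * u := mul_le_mul_of_nonneg_right h1 (by omega)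
    _ = u ^ 4 := by ring

theorem u7 {u : ℤ} (hu : 8 ≤ u) : 512 * u ^ 4 ≤ u ^ 7 := by
  have h1 : 512 ≤ u ^ 3 := by
    calc (512 : ℤ) = 8 ^ 3 := by norm_num
      _ ≤ u ^ 3 := pow_le_pow_left₀ (by norm_num) hu 3
  calc 512 * u ^ 4 ≤ u ^ 3 * u ^ 4 := mul_le_mul_of_nonneg_right h1 (by positivity)
    _ = u ^ 7 := by ring

theorem u6 {u : ℤ} (hu : 8 ≤ u) : 64 * u ^ 4 ≤ u ^ 6 := by
  have h1 : 64 ≤ u ^ 2 := by
    calc (64 : ℤ) = 8 ^ 2 := by norm_num
      _ ≤ u ^ 2 := pow_le_pow_left₀ (by norm_num) hu 2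
  calc 64 * u ^ 4 ≤ u ^ 2 * u ^ 4 := mul_le_mul_of_nonneg_right h1 (by positivity)
    _ = u ^ 6 := by ring

/-- `(14, 7)` -/
theorem s147 {u A B e : ℤ} (hu : 8 ≤ u) (he : e = 1 ∨ e = 2) (hB : 0 < B)
    (hB4 : B < u ^ 4) (h : A * (u ^ 7 + 1) = B * (u ^ 7 - 1) + e) : e = 2 ∧ A = 1 := by
  have h7 := u7 hu
  have h4 := u4 hu
  have h1 : (A - B) * (u ^ 7 + 1) = e - 2 * B := by linarith only [h]
  rcases lt_trichotomy A B with h2 | h2 | h2
  · exfalso
    have h3 : (A - B) * (u ^ 7 + 1) ≤ (-1) * (u ^ 7 + 1) := mul_le_mul_of_nonneg_right (by omega) (by linarith)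
    rcases he with rfl | rfl <;> linarith
  · subst h2
    rw [sub_self, zero_mul] at h1
    omega
  · exfalso
    have h3 : 1 * (u ^ 7 + 1) ≤ (A - B) * (u ^ 7 + 1) := mul_le_mul_of_nonneg_right (by omega) (by linarith)
    rcases he with rfl | rfl <;> linarith

/-- `(7, 14)` -/
theorem s714 {u A B e : ℤ} (hu : 8 ≤ u) (he : e = 1 ∨ e = 2) (hB : 0 < B)
    (hB4 : B < u ^ 4) (h : A * (u ^ 7 - 1) = B * (u ^ 7 + 1) + e) : False := by
  have h7 := u7 hu
  have h4 := u4 hu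
  have h1 : (A - B) * (u ^ 7 - 1) = e + 2 * B := by linarith only [h]
  have h2 : 0 < A - B := by
    by_contra hcon
    push Not at hcon
    have : (A - B) * (u ^ 7 - 1) ≤ 0 := mul_nonpos_of_nonpos_of_nonneg hcon (by linarith)
    rcases he with rfl | rfl <;> linarith only [hB, this, h]
  have h3 : 1 * (u ^ 7 - 1) ≤ (A - B) * (u ^ 7 - 1) := mul_le_mul_of_nonneg_right (by omega) (by linarith)
  rcases he with rfl | rfl <;> linarith

theorem u2 {u : ℤ} (hu : 8 ≤ u) : 64 * u ^ 2 ≤ u ^ 4 := by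
  have h1 : 64 ≤ u ^ 2 := by
    calc (64 : ℤ) = 8 ^ 2 := by norm_num
      _ ≤ u ^ 2 := pow_le_pow_left₀ (by norm_num) hu 2
  calc 64 * u ^ 2 ≤ u ^ 2 * u ^ 2 := mul_le_mul_of_nonneg_right h1 (by positivity)
    _ = u ^ 4 := by ring

/-- `(18, 9)` -/
theorem s189 {u A B e : ℤ} (hu : 8 ≤ u) (he : e = 1 ∨ e = 2) (hA : 0 < A) (hA4 : A < u ^ 4)
    (h : A * ((u + 1) * (u ^ 6 - u ^ 3 + 1)) = B * ((u - 1) * (u ^ 6 + u ^ 3 + 1)) + e) :
    e = 2 ∧ A = u ^ 2 - u + 1 := by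
  have h4 := u4 hu
  have h6 := u6 hu
  have h2 := u2 hu
  have hu4 : 0 < u ^ 4 := by positivity
  have hu3 : 0 ≤ u ^ 3 := by positivity
  have hX : (u - 1) * (u ^ 6 + u ^ 3 + 1) ∣ e * (2 * A - e * (u ^ 2 - u + 1)) := by
    refine ⟨A * (2 * B - e * (u ^ 2 + u + 1)) - B * (2 * A - e * (u ^ 2 - u + 1)), ?_⟩
    linear_combination (2 * A - e * (u ^ 2 - u + 1)) * (-h) + A * (2 * h)
  have hbig : 7 * (64 * u ^ 4) ≤ (u - 1) * (u ^ 6 + u ^ 3 + 1) := by
    calc 7 * (64 * u ^ 4) ≤ 7 * (u ^ 6 + u ^ 3 + 1) := by linarith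
      _ ≤ (u - 1) * (u ^ 6 + u ^ 3 + 1) := mul_le_mul_of_nonneg_right (by omega) (by linarith)
  have h0 : e * (2 * A - e * (u ^ 2 - u + 1)) = 0 := by
    apply Int.eq_zero_of_abs_lt_dvd hX
    rw [abs_lt]
    rcases he with rfl | rfl
    · constructor <;> linarith only [hu, hA, h4, h2, hbig, hA4, _root_.sq_nonneg (u : ℤ)]
    · constructor <;> linarith only [hu, hA, h4, h2, hbig, hA4, _root_.sq_nonneg (u : ℤ)]
  rcases he with rfl | rfl
  · exfalso
    have h5 : 2 * A = u * (u - 1) + 1 := by linarith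
    have h7 : Even (u * (u - 1)) := Int.even_mul_pred_self u
    obtain ⟨t, ht⟩ := h7
    omega
  · exact ⟨rfl, by linarith only [h0]⟩

/-- `(9, 18)` -/
theorem s918 {u A B e : ℤ} (hu : 8 ≤ u) (he : e = 1 ∨ e = 2) (hA : 0 < A) (hA4 : A < u ^ 4)
    (h : A * ((u - 1) * (u ^ 6 + u ^ 3 + 1)) = B * ((u + 1) * (u ^ 6 - u ^ 3 + 1)) + e) : False := by
  have h4 := u4 hu
  have h7 := u7 hu
  have h2 := u2 hu
  have hu4 : 0 < u ^ 4 := by positivity
  have hu2 : 0 ≤ u ^ 2 := by positivity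
  have hX : (u + 1) * (u ^ 6 - u ^ 3 + 1) ∣ e * (2 * A + e * (u ^ 2 + u + 1)) := by
    refine ⟨A * (2 * B + e * (u ^ 2 - u + 1)) - B * (2 * A + e * (u ^ 2 + u + 1)), ?_⟩
    linear_combination (2 * A + e * (u ^ 2 + u + 1)) * (-h) + A * (2 * h)
  have hpos : 0 < e * (2 * A + e * (u ^ 2 + u + 1)) := by rcases he with rfl | rfl <;> linarith only [hu, hA, _root_.sq_nonneg (u : ℤ)]
  have hle := Int.le_of_dvd hpos hX
  have hbig : u ^ 7 ≤ (u + 1) * (u ^ 6 - u ^ 3 + 1) := by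
    have h6 := u6 hu
    have h3 : u ^ 3 ≤ u ^ 4 := pow_le_pow_right₀ (by omega) (by norm_num)
    linarith only [hu, h4, h6, h3]
  rcases he with rfl | rfl <;> linarith only [hu, hA4, h4, h7, h2, hbig, hle]

/-- the Euclidean algorithm: `P = a Q + R`, `Q = b R + S`, `D R - E Q = ± e` gives `D > E b`, `E S ≥ R - e` -/
theorem step {D E R Q S b e : ℤ} (hR : e < R) (he : 0 ≤ e) (hQ : Q = b * R + S) (hS : 0 < S)
    (hE : 0 < E) (h : E * Q = D * R - e ∨ E * Q = D * R + e) (hSe : e < S) :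
    E * b + 1 ≤ D ∧ R - e ≤ E * S := by
  have hR0 : 0 < R := by linarith
  have h1 : (D - E * b) * R = E * S + e ∨ (D - E * b) * R = E * S - e := by
    rcases h with h | h
    · left; rw [hQ] at h; linarith
    · right; rw [hQ] at h; linarith
  have hES : S ≤ E * S := by nlinarith only [hS, hE]
  have h2 : 0 < D - E * b := by
    by_contra hcon
    push Not at hcon
    have h3 : (D - E * b) * R ≤ 0 := mul_nonpos_of_nonpos_of_nonneg hcon hR0.le
    rcases h1 with h1 | h1 <;> linarith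
  refine ⟨by omega, ?_⟩
  have h4 : 1 * R ≤ (D - E * b) * R := mul_le_mul_of_nonneg_right (by omega) hR0.le
  rcases h1 with h1 | h1 <;> linarith

/-- size -/
theorem size {u R e E D B a b : ℤ} (hu : 8 ≤ u) (he : e = 1 ∨ e = 2) (hR : u ^ 5 - u ^ 4 ≤ R)
    (ha : u - 1 ≤ a) (hb : u - 1 ≤ b) (hE : 0 < E)
    (h1 : E * b + 1 ≤ D) (h2 : R - e ≤ E * (u ^ 2 + 1)) (h3 : D * a ≤ B) (hB : B < u ^ 4) : False := by
  have ha0 : 0 < a := by omega
  have hb0 : 0 < b := by omega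
  have h4 : E * (u - 1) ≤ D := by
    have : E * (u - 1) ≤ E * b := mul_le_mul_of_nonneg_left hb hE.le
    linarith
  have h5 : E * (u - 1) * (u - 1) ≤ u ^ 4 := by
    calc E * (u - 1) * (u - 1) ≤ D * (u - 1) := mul_le_mul_of_nonneg_right h4 (by omega)
      _ ≤ D * a := mul_le_mul_of_nonneg_left ha (le_trans (mul_nonneg hE.le (by omega)) h4)
      _ ≤ u ^ 4 := by linarith
  have h6 : (R - e) * ((u - 1) * (u - 1)) ≤ u ^ 4 * (u ^ 2 + 1) := by
    calc (R - e) * ((u - 1) * (u - 1)) ≤ E * (u ^ 2 + 1) * ((u - 1) * (u - 1)) :=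
          mul_le_mul_of_nonneg_right h2 (by linarith only [_root_.mul_self_nonneg (u - 1 : ℤ)])
      _ = E * (u - 1) * (u - 1) * (u ^ 2 + 1) := by ring
      _ ≤ u ^ 4 * (u ^ 2 + 1) := mul_le_mul_of_nonneg_right h5 (by positivity)
  obtain ⟨t, rfl⟩ : ∃ t, u = t + 8 := ⟨u - 8, by ring⟩
  have ht : 0 ≤ t := by omega
  have h7 : ((t + 8) ^ 5 - (t + 8) ^ 4 - 2) * ((t + 8 - 1) * (t + 8 - 1)) ≤ (t + 8) ^ 4 * ((t + 8) ^ 2 + 1) := by
    refine le_trans ?_ h6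
    apply mul_le_mul_of_nonneg_right
    · rcases he with rfl | rfl <;> linarith only [hR]
    · linarith only [_root_.mul_self_nonneg (t + 8 - 1 : ℤ)]
  have h8 : 0 < ((t + 8) ^ 5 - (t + 8) ^ 4 - 2) * ((t + 8 - 1) * (t + 8 - 1)) - (t + 8) ^ 4 * ((t + 8) ^ 2 + 1) := by
    ring_nf
    (clear * - ht; positivity)
  linarith

/-- both orders -/
theorem euclid {u A B e P Q R a b : ℤ} (hu : 8 ≤ u) (he : e = 1 ∨ e = 2) (hA : 0 < A) (hB : 0 < B)
    (hA4 : A < u ^ 4) (hB4 : B < u ^ 4) (ha : u - 1 ≤ a) (hb : u - 1 ≤ b) (hR : u ^ 5 - u ^ 4 ≤ R)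
    (hP : P = a * Q + R) (hQ : Q = b * R + (u ^ 2 + 1))
    (h : A * P = B * (P + Q) + e ∨ A * (P + Q) = B * P + e) : False := by
  have h5 : 7 * (64 * 64) ≤ u ^ 5 - u ^ 4 := by
    have h1 : 4096 ≤ u ^ 4 := by
      calc (4096 : ℤ) = 8 ^ 4 := by norm_num
        _ ≤ u ^ 4 := pow_le_pow_left₀ (by norm_num) hu 4
    have h2 : u ^ 5 - u ^ 4 = u ^ 4 * (u - 1) := by ring
    rw [h2]
    nlinarith only [hu, h1]
  have he2 : e ≤ 2 := by rcases he with rfl | rfl <;> norm_num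
  have he0 : 0 < e := by rcases he with rfl | rfl <;> norm_num
  have hR0 : 2 < R := by linarith
  have hS : 0 < u ^ 2 + 1 := by positivity
  have hS2 : e < u ^ 2 + 1 := by nlinarith only [hA, hA4, he2]
  have hQ0 : R < Q := by
    rw [hQ]
    nlinarith only [hu, hb, hR, h5]
  have hP0 : 0 < P := by
    rw [hP]
    have : 0 < a * Q := mul_pos (by omega) (by linarith)
    linarith
  rcases h with h | h
  · obtain ⟨D, hD⟩ : ∃ D, D = A - B := ⟨_, rfl⟩
    have h1 : D * P = B * Q + e := by rw [hD]; linarith only [h]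
    have hD0 : 0 < D := by
      by_contra hcon
      push Not at hcon
      have h2 : D * P ≤ 0 := mul_nonpos_of_nonpos_of_nonneg hcon hP0.le
      have h3 : 0 < B * Q := mul_pos hB (by linarith)
      linarith
    obtain ⟨E, hE⟩ : ∃ E, E = B - D * a := ⟨_, rfl⟩
    have h2 : E * Q = D * R - e := by
      rw [hE]
      rw [hP] at h1
      linarith only [h1]
    have hE0 : 0 < E := by
      by_contra hcon
      push Not at hcon
      have h3 : E * Q ≤ 0 := mul_nonpos_of_nonpos_of_nonneg hcon (by linarith)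
      have h4 : 1 * R ≤ D * R := mul_le_mul_of_nonneg_right (by omega) (by linarith only [hR, h5])
      linarith only [hR, h5, he2, h2, h3, h4]
    obtain ⟨h3, h4⟩ := step (by linarith) he0.le hQ hS hE0 (Or.inl h2) hS2
    exact size hu he hR ha hb hE0 h3 h4 (by linarith) hB4
  · obtain ⟨D, hD⟩ : ∃ D, D = B - A := ⟨_, rfl⟩
    have h1 : A * Q = D * P + e := by rw [hD]; linarith only [h]
    have hD0 : 0 < D := by
      by_contra hcon
      push Not at hcon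
      have h2 : D * P ≤ 0 := mul_nonpos_of_nonpos_of_nonneg hcon hP0.le
      have h3 : 1 * Q ≤ A * Q := mul_le_mul_of_nonneg_right (by omega) (by linarith only [hR, h5, hQ0])
      linarith
    obtain ⟨E, hE⟩ : ∃ E, E = A - D * a := ⟨_, rfl⟩
    have h2 : E * Q = D * R + e := by
      rw [hE]
      rw [hP] at h1
      linarith only [h1]
    have hE0 : 0 < E := by
      by_contra hcon
      push Not at hcon
      have h3 : E * Q ≤ 0 := mul_nonpos_of_nonpos_of_nonneg hcon (by linarith)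
      have h4 : 0 < D * R := mul_pos hD0 (by linarith)
      linarith
    obtain ⟨h3, h4⟩ := step (by linarith) he0.le hQ hS hE0 (Or.inr h2) hS2
    exact size hu he hR ha hb hE0 h3 h4 (by linarith) hA4

/-- the polynomials -/
def PZ (u : ℤ) (i : ℕ) : ℤ :=
  if i = 7 then u ^ 7 - 1 else if i = 9 then (u - 1) * (u ^ 6 + u ^ 3 + 1) else if i = 14 then u ^ 7 + 1
  else (u + 1) * (u ^ 6 - u ^ 3 + 1)

/-- **the equation** -/
theorem main {u A B e : ℤ} (hu : 8 ≤ u) (he : e = 1 ∨ e = 2) (hA : 0 < A) (hB : 0 < B)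
    (hA4 : A < u ^ 4) (hB4 : B < u ^ 4) {s c : ℕ} (hs : s = 7 ∨ s = 9 ∨ s = 14 ∨ s = 18)
    (hc : c = 7 ∨ c = 9 ∨ c = 14 ∨ c = 18) (hsc : s ≠ c) (h : A * PZ u s = B * PZ u c + e) :
    e = 2 ∧ (A * PZ u s = u ^ 7 + 1 ∨ A * PZ u s = u ^ 9 + 1) := by
  have p7 : PZ u 7 = u ^ 7 - 1 := rfl
  have p9 : PZ u 9 = (u - 1) * (u ^ 6 + u ^ 3 + 1) := rfl
  have p14 : PZ u 14 = u ^ 7 + 1 := rfl
  have p18 : PZ u 18 = (u + 1) * (u ^ 6 - u ^ 3 + 1) := rfl
  have d7 : u - 1 ∣ PZ u 7 := ⟨u ^ 6 + u ^ 5 + u ^ 4 + u ^ 3 + u ^ 2 + u + 1, by rw [p7]; ring⟩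
  have d9 : u - 1 ∣ PZ u 9 := ⟨_, p9⟩
  have d14 : u + 1 ∣ PZ u 14 := ⟨u ^ 6 - u ^ 5 + u ^ 4 - u ^ 3 + u ^ 2 - u + 1, by rw [p14]; ring⟩
  have d18 : u + 1 ∣ PZ u 18 := ⟨_, p18⟩
  have hu2 : 0 ≤ u ^ 2 - 2 * u - 1 := by nlinarith only [hu]
  have hu4 : 0 ≤ u ^ 4 := by positivity
  have hR1 : u ^ 5 - u ^ 4 ≤ u ^ 5 + u ^ 4 - u ^ 2 - 2 * u - 1 := by
    have h2 := u2 hu
    linarith only [hu, hu2, h2]
  have hR2 : u ^ 5 - u ^ 4 ≤ u ^ 5 - u ^ 4 + u ^ 2 - 2 * u + 1 := by linarith only [hu2]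
  have hP1 : u ^ 7 - 1 = u * (u ^ 6 - u ^ 4 - u ^ 3 + u + 2) + (u ^ 5 + u ^ 4 - u ^ 2 - 2 * u - 1) := by ring
  have hQ1 : u ^ 6 - u ^ 4 - u ^ 3 + u + 2 = (u - 1) * (u ^ 5 + u ^ 4 - u ^ 2 - 2 * u - 1) + (u ^ 2 + 1) := by ring
  have hP2 : (u - 1) * (u ^ 6 + u ^ 3 + 1) = (u - 1) * (u ^ 6 - u ^ 4 + u ^ 3 - u + 2) +
      (u ^ 5 - u ^ 4 + u ^ 2 - 2 * u + 1) := by ring
  have hQ2 : u ^ 6 - u ^ 4 + u ^ 3 - u + 2 = (u + 1) * (u ^ 5 - u ^ 4 + u ^ 2 - 2 * u + 1) + (u ^ 2 + 1) := by ring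
  rcases hs with rfl | rfl | rfl | rfl <;> rcases hc with rfl | rfl | rfl | rfl
  · exact absurd rfl hsc
  · exact (no79 hu he d7 d9 h).elim
  · rw [p7, p14] at h
    exact (s714 hu he hB hB4 h).elim
  · rw [p7, p18] at h
    refine (euclid hu he hA hB hA4 hB4 (by omega) le_rfl hR1 hP1 hQ1 (Or.inl ?_)).elim
    rw [h]
    ring
  · exact (no79 hu he d9 d7 h).elim
  · exact absurd rfl hsc
  · rw [p9, p14] at h
    refine (euclid hu he hA hB hA4 hB4 le_rfl (by omega) hR2 hP2 hQ2 (Or.inl ?_)).elim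
    rw [h]
    ring
  · rw [p9, p18] at h
    exact (s918 hu he hA hA4 h).elim
  · rw [p14, p7] at h
    obtain ⟨rfl, rfl⟩ := s147 hu he hB hB4 h
    exact ⟨rfl, Or.inl (by rw [p14, one_mul])⟩
  · rw [p14, p9] at h
    refine (euclid hu he hA hB hA4 hB4 le_rfl (by omega) hR2 hP2 hQ2 (Or.inr ?_)).elim
    rw [← h]
    ring
  · exact absurd rfl hsc
  · exact (no1418 hu he d14 d18 h).elim
  · rw [p18, p7] at h
    refine (euclid hu he hA hB hA4 hB4 (by omega) le_rfl hR1 hP1 hQ1 (Or.inr ?_)).elim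
    rw [← h]
    ring
  · rw [p18, p9] at h
    obtain ⟨rfl, rfl⟩ := s189 hu he hA hA4 h
    exact ⟨rfl, Or.inr (by rw [p18]; ring)⟩
  · exact (no1418 hu he d18 d14 h).elim
  · exact absurd rfl hsc

end Cfsg.Agent.H334.E7.NT
end

-- part: H334/E7/Lay
section
/-!
# Orders of the tori of `E₇(q)` (helper334, S3482 R9)
-/

set_option autoImplicit false

namespace Cfsg.Agent.H334.E7.Lay

open Cfsg.Agent.H436 Cfsg.Agent.H962.E7 Cfsg.Agent.H334.E7.NT

/-- the polynomials, on `ℕ` -/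
def PN (u i : ℕ) : ℕ :=
  if i = 7 then u ^ 7 - 1 else if i = 9 then (u - 1) * (u ^ 6 + u ^ 3 + 1) else if i = 14 then u ^ 7 + 1
  else (u + 1) * (u ^ 6 - u ^ 3 + 1)

theorem mem_c4 {i : ℕ} (hi : i ∈ C4) : i = 7 ∨ i = 9 ∨ i = 14 ∨ i = 18 := by
  simpa only [C4, Finset.mem_insert, Finset.mem_singleton] using hi

theorem pn_cast {u i : ℕ} (hu : 1 ≤ u) (hi : i ∈ C4) : (PN u i : ℤ) = PZ (u : ℤ) i := by
  rcases mem_c4 hi with rfl | rfl | rfl | rfl
  · show ((u ^ 7 - 1 : ℕ) : ℤ) = (u : ℤ) ^ 7 - 1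
    rw [Nat.cast_sub (Nat.one_le_pow _ _ hu)]; push_cast; ring
  · show (((u - 1) * (u ^ 6 + u ^ 3 + 1) : ℕ) : ℤ) = ((u : ℤ) - 1) * ((u : ℤ) ^ 6 + (u : ℤ) ^ 3 + 1)
    rw [Nat.cast_mul, Nat.cast_sub hu]; push_cast; ring
  · show ((u ^ 7 + 1 : ℕ) : ℤ) = (u : ℤ) ^ 7 + 1
    push_cast; ring
  · show (((u + 1) * (u ^ 6 - u ^ 3 + 1) : ℕ) : ℤ) = ((u : ℤ) + 1) * ((u : ℤ) ^ 6 - (u : ℤ) ^ 3 + 1)
    rw [Nat.cast_mul, Nat.cast_add, Nat.cast_add, Nat.cast_sub (Nat.pow_le_pow_right hu (by norm_num))]; push_cast; ring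

theorem gcd_pos {u : ℕ} : 0 < Nat.gcd 2 (u - 1) := Nat.gcd_pos_of_pos_left _ (by norm_num)

theorem gcd_dvd_add {u : ℕ} (hu : 1 ≤ u) : Nat.gcd 2 (u - 1) ∣ u + 1 := by
  have h1 : u + 1 = (u - 1) + 2 := by omega
  rw [h1]
  exact dvd_add (Nat.gcd_dvd_right _ _) (Nat.gcd_dvd_left _ _)

theorem gcd_cases (u : ℕ) : Nat.gcd 2 (u - 1) = 1 ∨ Nat.gcd 2 (u - 1) = 2 :=
  (Nat.dvd_prime Nat.prime_two).1 (Nat.gcd_dvd_left 2 (u - 1))

theorem sub_dvd_pn {u i : ℕ} (hi : i = 7 ∨ i = 9) : u - 1 ∣ PN u i := by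
  rcases hi with rfl | rfl
  · show u - 1 ∣ u ^ 7 - 1
    simpa only [_root_.one_pow] using Nat.sub_dvd_pow_sub_pow u 1 7
  · exact Dvd.intro _ rfl

theorem add_dvd_pn {u i : ℕ} (hi : i = 14 ∨ i = 18) : u + 1 ∣ PN u i := by
  rcases hi with rfl | rfl
  · show u + 1 ∣ u ^ 7 + 1
    have h := Odd.nat_add_dvd_pow_add_pow u 1 (show Odd 7 by decide)
    simpa only [_root_.one_pow] using h
  · exact Dvd.intro _ rfl

theorem gcd_dvd_pn {u i : ℕ} (hu : 1 ≤ u) (hi : i ∈ C4) : Nat.gcd 2 (u - 1) ∣ PN u i := by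
  rcases mem_c4 hi with h | h | h | h
  · exact (Nat.gcd_dvd_right _ _).trans (sub_dvd_pn (Or.inl h))
  · exact (Nat.gcd_dvd_right _ _).trans (sub_dvd_pn (Or.inr h))
  · exact (gcd_dvd_add hu).trans (add_dvd_pn (Or.inl h))
  · exact (gcd_dvd_add hu).trans (add_dvd_pn (Or.inr h))

theorem tt_eq {u i : ℕ} (hi : i ∈ C4) : TT u i = PN u i / Nat.gcd 2 (u - 1) := by
  rcases mem_c4 hi with rfl | rfl | rfl | rfl <;> rfl

theorem tt_mul {u i : ℕ} (hu : 1 ≤ u) (hi : i ∈ C4) : Nat.gcd 2 (u - 1) * TT u i = PN u i := by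
  rw [tt_eq hi, Nat.mul_div_cancel' (gcd_dvd_pn hu hi)]

/-- a prime of class `i` divides the torus -/
theorem prim_dvd_tt {u i r : ℕ} (hu : 2 ≤ u) (hi : i ∈ C4) (h : Prim u i r) : r ∣ TT u i := by
  have hr2 : r ≠ 2 := by
    have := h.odd (by rcases mem_c4 hi with rfl | rfl | rfl | rfl <;> norm_num)
    omega
  have h1 : r ∣ PN u i := by
    rcases mem_c4 hi with rfl | rfl | rfl | rfl
    · exact h.dvd dvd_rfl
    · have h2 : r ∣ u ^ 9 - 1 := h.dvd dvd_rfl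
      have h3 : ¬ r ∣ u ^ 3 - 1 := h.not_dvd_sub (by norm_num)
      have h4 : u ^ 9 - 1 = (u ^ 3 - 1) * (u ^ 6 + u ^ 3 + 1) := by
        have h5 : 1 ≤ u ^ 3 := Nat.one_le_pow _ _ (by omega)
        zify [h5, Nat.one_le_pow 9 u (by omega)]
        ring
      rw [h4] at h2
      exact ((h.prime.dvd_mul.1 h2).resolve_left h3).mul_left _
    · exact h.dvd_add (m := 7) (by norm_num) (by norm_num)
    · have h2 : r ∣ u ^ 9 + 1 := h.dvd_add (m := 9) (by norm_num) (by norm_num)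
      have h3 : ¬ r ∣ u ^ 3 + 1 := h.not_dvd_add (by norm_num)
      have h4 : u ^ 9 + 1 = (u ^ 3 + 1) * (u ^ 6 - u ^ 3 + 1) := by
        have h5 : u ^ 3 ≤ u ^ 6 := Nat.pow_le_pow_right (by omega) (by norm_num)
        zify [h5]
        ring
      rw [h4] at h2
      exact ((h.prime.dvd_mul.1 h2).resolve_left h3).mul_left _
  rw [← tt_mul (by omega) hi] at h1
  rcases h.prime.dvd_mul.1 h1 with h2 | h2
  · exact absurd ((Nat.prime_dvd_prime_iff_eq h.prime Nat.prime_two).1 (h2.trans (Nat.gcd_dvd_left _ _))) hr2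
  · exact h2

/-! ### the parts `NN` -/

theorem gcd_dvd_aux {a n B : ℕ} {c : ℤ} (h : (B : ℤ) = (a : ℤ) * c + n) : Nat.gcd n a ∣ B := by
  apply Int.natCast_dvd_natCast.1
  rw [h]
  exact dvd_add ((Int.natCast_dvd_natCast.2 (Nat.gcd_dvd_right n a)).mul_right c)
    (Int.natCast_dvd_natCast.2 (Nat.gcd_dvd_left n a))

/-- `q ∓ 1` -/
def LL (q i : ℕ) : ℕ := if i = 7 ∨ i = 9 then q - 1 else q + 1

/-- `7` or `3` -/
def ee (i : ℕ) : ℕ := if i = 7 ∨ i = 14 then 7 else 3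

theorem nn_mul {q i : ℕ} (hq : 2 ≤ q) (hi : i ∈ C4) : NN q i * (LL q i * Nat.gcd (ee i) (LL q i)) = PN q i := by
  have hq1 : 1 ≤ q := by omega
  rcases mem_c4 hi with rfl | rfl | rfl | rfl
  · obtain ⟨B, hB⟩ : ∃ B : ℕ, B = q ^ 6 + q ^ 5 + q ^ 4 + q ^ 3 + q ^ 2 + q + 1 := ⟨_, rfl⟩
    have hN' : q ^ 7 - 1 = (q - 1) * B := by
      rw [hB]
      zify [Nat.one_le_pow 7 q hq1, hq1]
      ring
    have hg : Nat.gcd 7 (q - 1) ∣ B := by
      apply gcd_dvd_aux (c := (q : ℤ) ^ 5 + 2 * (q : ℤ) ^ 4 + 3 * (q : ℤ) ^ 3 + 4 * (q : ℤ) ^ 2 + 5 * (q : ℤ) + 6)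
      rw [hB]
      push_cast [Nat.cast_sub hq1]
      ring
    show (q ^ 7 - 1) / ((q - 1) * Nat.gcd 7 (q - 1)) * ((q - 1) * Nat.gcd 7 (q - 1)) = q ^ 7 - 1
    apply Nat.div_mul_cancel
    rw [hN']
    exact Nat.mul_dvd_mul_left _ hg
  · have hg : Nat.gcd 3 (q - 1) ∣ q ^ 6 + q ^ 3 + 1 := by
      apply gcd_dvd_aux (c := (q : ℤ) ^ 5 + (q : ℤ) ^ 4 + (q : ℤ) ^ 3 + 2 * (q : ℤ) ^ 2 + 2 * (q : ℤ) + 2)
      push_cast [Nat.cast_sub hq1]
      ring
    show (q ^ 6 + q ^ 3 + 1) / Nat.gcd 3 (q - 1) * ((q - 1) * Nat.gcd 3 (q - 1)) = (q - 1) * (q ^ 6 + q ^ 3 + 1)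
    rw [mul_comm (q - 1) (Nat.gcd 3 (q - 1)), ← mul_assoc, Nat.div_mul_cancel hg, mul_comm]
  · obtain ⟨B, hB⟩ : ∃ B : ℕ, (B : ℤ) = (q : ℤ) ^ 6 - (q : ℤ) ^ 5 + (q : ℤ) ^ 4 - (q : ℤ) ^ 3 + (q : ℤ) ^ 2 - (q : ℤ) + 1 := by
      obtain ⟨a, rfl⟩ : ∃ a, q = a + 1 := ⟨q - 1, by omega⟩
      refine ⟨a ^ 6 + 5 * a ^ 5 + 11 * a ^ 4 + 13 * a ^ 3 + 9 * a ^ 2 + 3 * a + 1, ?_⟩
      push_cast
      ring
    have hN' : q ^ 7 + 1 = (q + 1) * B := by
      zify
      rw [hB]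
      ring
    have hg : Nat.gcd 7 (q + 1) ∣ B := by
      apply gcd_dvd_aux (c := (q : ℤ) ^ 5 - 2 * (q : ℤ) ^ 4 + 3 * (q : ℤ) ^ 3 - 4 * (q : ℤ) ^ 2 + 5 * (q : ℤ) - 6)
      rw [hB]
      push_cast
      ring
    show (q ^ 7 + 1) / ((q + 1) * Nat.gcd 7 (q + 1)) * ((q + 1) * Nat.gcd 7 (q + 1)) = q ^ 7 + 1
    apply Nat.div_mul_cancel
    rw [hN']
    exact Nat.mul_dvd_mul_left _ hg
  · have hle : q ^ 3 ≤ q ^ 6 := Nat.pow_le_pow_right hq1 (by norm_num)
    have hg : Nat.gcd 3 (q + 1) ∣ q ^ 6 - q ^ 3 + 1 := by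
      apply gcd_dvd_aux (c := (q : ℤ) ^ 5 - (q : ℤ) ^ 4 + (q : ℤ) ^ 3 - 2 * (q : ℤ) ^ 2 + 2 * (q : ℤ) - 2)
      push_cast [Nat.cast_sub hle]
      ring
    show (q ^ 6 - q ^ 3 + 1) / Nat.gcd 3 (q + 1) * ((q + 1) * Nat.gcd 3 (q + 1)) = (q + 1) * (q ^ 6 - q ^ 3 + 1)
    rw [mul_comm (q + 1) (Nat.gcd 3 (q + 1)), ← mul_assoc, Nat.div_mul_cancel hg, mul_comm]

theorem ee_pos (i : ℕ) : 0 < ee i := by unfold ee; split_ifs <;> norm_num

theorem gcd_le_ee (q i : ℕ) : Nat.gcd (ee i) (LL q i) ≤ ee i := Nat.gcd_le_left _ (ee_pos i)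

/-- a prime of class `i` divides `NN q i` -/
theorem prim_dvd_nn {q i r : ℕ} (hq : 2 ≤ q) (hi : i ∈ C4) (h : Prim q i r) : r ∣ NN q i := by
  have h1 : r ∣ PN q i := by
    rw [← tt_mul (by omega) hi]
    exact (prim_dvd_tt hq hi h).mul_left _
  rw [← nn_mul hq hi] at h1
  rcases h.prime.dvd_mul.1 h1 with h2 | h2
  · exact h2
  exfalso
  have h3 : ¬ r ∣ q ^ 2 - 1 := h.not_dvd_sub (by rcases mem_c4 hi with rfl | rfl | rfl | rfl <;> norm_num)
  have e2 : q ^ 2 - 1 = (q + 1) * (q - 1) := by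
    have := Nat.sq_sub_sq q 1
    simpa only [_root_.one_pow] using this
  rcases h.prime.dvd_mul.1 h2 with h4 | h4
  · apply h3
    rw [e2]
    unfold LL at h4
    split_ifs at h4
    · exact h4.mul_left _
    · exact h4.mul_right _
  · have h5 := h4.trans (Nat.gcd_dvd_left _ _)
    have h6 := Nat.le_of_dvd (ee_pos i) h5
    -- `i ∣ r - 1`
    have h7 : i ∣ r - 1 := by
      rw [← h.dvd_iff]
      have h8 : q.Coprime r := by
        rw [Nat.coprime_comm, h.prime.coprime_iff_not_dvd]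
        exact h.not_dvd
      have h9 := Nat.ModEq.pow_totient h8
      rw [Nat.totient_prime h.prime] at h9
      exact (Nat.modEq_iff_dvd' (Nat.one_le_pow _ _ (by omega))).1 h9.symm
    have h8 := h.prime.two_le
    have h9 := Nat.le_of_dvd (by omega) h7
    unfold ee at h6
    rcases mem_c4 hi with rfl | rfl | rfl | rfl
    · norm_num at h6; omega
    · norm_num at h6; omega
    · norm_num at h6; omega
    · norm_num at h6; omega

/-! ### the primes of `NN` -/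

/-- the cofactor -/
def BZ (q : ℤ) (i : ℕ) : ℤ :=
  if i = 7 then q ^ 6 + q ^ 5 + q ^ 4 + q ^ 3 + q ^ 2 + q + 1 else if i = 9 then q ^ 6 + q ^ 3 + 1
  else if i = 14 then q ^ 6 - q ^ 5 + q ^ 4 - q ^ 3 + q ^ 2 - q + 1 else q ^ 6 - q ^ 3 + 1

theorem nn_gcd {q i : ℕ} (hq : 2 ≤ q) (hi : i ∈ C4) :
    (NN q i : ℤ) * (Nat.gcd (ee i) (LL q i) : ℤ) = BZ (q : ℤ) i := by
  have h1 := nn_mul hq hi
  have h2 : (NN q i : ℤ) * ((LL q i : ℤ) * (Nat.gcd (ee i) (LL q i) : ℤ)) = PZ (q : ℤ) i := by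
    rw [← pn_cast (by omega) hi, ← h1]
    push_cast
    ring
  have h3 : (LL q i : ℤ) ≠ 0 := by
    have : LL q i ≠ 0 := by unfold LL; split_ifs <;> omega
    exact_mod_cast this
  apply mul_left_cancel₀ h3
  rw [show (LL q i : ℤ) * ((NN q i : ℤ) * (Nat.gcd (ee i) (LL q i) : ℤ)) =
    (NN q i : ℤ) * ((LL q i : ℤ) * (Nat.gcd (ee i) (LL q i) : ℤ)) by ring, h2]
  have c1 : ((q - 1 : ℕ) : ℤ) = (q : ℤ) - 1 := by rw [Nat.cast_sub (by omega)]; push_cast; ring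
  rcases mem_c4 hi with rfl | rfl | rfl | rfl
  · show (q : ℤ) ^ 7 - 1 = ((q - 1 : ℕ) : ℤ) * ((q : ℤ) ^ 6 + (q : ℤ) ^ 5 + (q : ℤ) ^ 4 + (q : ℤ) ^ 3 + (q : ℤ) ^ 2 + (q : ℤ) + 1)
    rw [c1]; ring
  · show ((q : ℤ) - 1) * ((q : ℤ) ^ 6 + (q : ℤ) ^ 3 + 1) = ((q - 1 : ℕ) : ℤ) * ((q : ℤ) ^ 6 + (q : ℤ) ^ 3 + 1)
    rw [c1]
  · show (q : ℤ) ^ 7 + 1 = ((q + 1 : ℕ) : ℤ) * ((q : ℤ) ^ 6 - (q : ℤ) ^ 5 + (q : ℤ) ^ 4 - (q : ℤ) ^ 3 + (q : ℤ) ^ 2 - (q : ℤ) + 1)
    push_cast; ring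
  · show ((q : ℤ) + 1) * ((q : ℤ) ^ 6 - (q : ℤ) ^ 3 + 1) = ((q + 1 : ℕ) : ℤ) * ((q : ℤ) ^ 6 - (q : ℤ) ^ 3 + 1)
    push_cast; ring

theorem prim_of_order {q i r : ℕ} (hq : 1 ≤ q) (hr : r.Prime) (hi : i ≠ 0) (h : orderOf (q : ZMod r) = i) :
    Prim q i r := by
  have : Fact r.Prime := ⟨hr⟩
  refine ⟨hr, fun n => ?_, fun hd => ?_⟩
  · rw [← h, orderOf_dvd_iff_pow_eq_one, ← Nat.cast_one (R := ZMod r), ← Nat.cast_pow, eq_comm,
      ZMod.natCast_eq_natCast_iff, Nat.modEq_iff_dvd' (Nat.one_le_pow _ _ hq)]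
  · apply hi
    rw [← h, (ZMod.natCast_eq_zero_iff _ _).2 hd]
    exact orderOf_eq_zero_iff'.2 fun n hn => by
      rw [zero_pow hn.ne']
      exact zero_ne_one

theorem b7 : ∀ x : ZMod 49, x ^ 6 + x ^ 5 + x ^ 4 + x ^ 3 + x ^ 2 + x + 1 ≠ 0 := by decide +kernel
theorem b14 : ∀ x : ZMod 49, x ^ 6 - x ^ 5 + x ^ 4 - x ^ 3 + x ^ 2 - x + 1 ≠ 0 := by decide +kernel
theorem b9 : ∀ x : ZMod 9, x ^ 6 + x ^ 3 + 1 ≠ 0 := by decide
theorem b18 : ∀ x : ZMod 9, x ^ 6 - x ^ 3 + 1 ≠ 0 := by decide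
theorem z31 : ∀ y : ZMod 3, y ^ 3 = 1 → y = 1 := by decide
theorem z3m : ∀ y : ZMod 3, y ^ 3 = -1 → y = -1 := by decide
theorem z2a : ∀ y : ZMod 2, y ^ 6 - y ^ 5 + y ^ 4 - y ^ 3 + y ^ 2 - y + 1 ≠ 0 := by decide
theorem z2b : ∀ y : ZMod 2, y ^ 6 - y ^ 3 + 1 ≠ 0 := by decide

theorem not_sq {q i : ℕ} (hi : i ∈ C4) : ¬ ((ee i ^ 2 : ℕ) : ℤ) ∣ BZ (q : ℤ) i := by
  intro h
  rcases mem_c4 hi with rfl | rfl | rfl | rfl
  · have h1 := (ZMod.intCast_zmod_eq_zero_iff_dvd (BZ (q : ℤ) 7) 49).2 h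
    apply b7 (q : ZMod 49)
    have h2 : ((BZ (q : ℤ) 7 : ℤ) : ZMod 49) = (q : ZMod 49) ^ 6 + (q : ZMod 49) ^ 5 + (q : ZMod 49) ^ 4 +
      (q : ZMod 49) ^ 3 + (q : ZMod 49) ^ 2 + (q : ZMod 49) + 1 := by
      show (((q : ℤ) ^ 6 + (q : ℤ) ^ 5 + (q : ℤ) ^ 4 + (q : ℤ) ^ 3 + (q : ℤ) ^ 2 + (q : ℤ) + 1 : ℤ) : ZMod 49) = _
      push_cast; ring
    rw [← h2, h1]
  · have h1 := (ZMod.intCast_zmod_eq_zero_iff_dvd (BZ (q : ℤ) 9) 9).2 h
    apply b9 (q : ZMod 9)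
    have h2 : ((BZ (q : ℤ) 9 : ℤ) : ZMod 9) = (q : ZMod 9) ^ 6 + (q : ZMod 9) ^ 3 + 1 := by
      show (((q : ℤ) ^ 6 + (q : ℤ) ^ 3 + 1 : ℤ) : ZMod 9) = _
      push_cast; ring
    rw [← h2, h1]
  · have h1 := (ZMod.intCast_zmod_eq_zero_iff_dvd (BZ (q : ℤ) 14) 49).2 h
    apply b14 (q : ZMod 49)
    have h2 : ((BZ (q : ℤ) 14 : ℤ) : ZMod 49) = (q : ZMod 49) ^ 6 - (q : ZMod 49) ^ 5 + (q : ZMod 49) ^ 4 -
      (q : ZMod 49) ^ 3 + (q : ZMod 49) ^ 2 - (q : ZMod 49) + 1 := by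
      show (((q : ℤ) ^ 6 - (q : ℤ) ^ 5 + (q : ℤ) ^ 4 - (q : ℤ) ^ 3 + (q : ℤ) ^ 2 - (q : ℤ) + 1 : ℤ) : ZMod 49) = _
      push_cast; ring
    rw [← h2, h1]
  · have h1 := (ZMod.intCast_zmod_eq_zero_iff_dvd (BZ (q : ℤ) 18) 9).2 h
    apply b18 (q : ZMod 9)
    have h2 : ((BZ (q : ℤ) 18 : ℤ) : ZMod 9) = (q : ZMod 9) ^ 6 - (q : ZMod 9) ^ 3 + 1 := by
      show (((q : ℤ) ^ 6 - (q : ℤ) ^ 3 + 1 : ℤ) : ZMod 9) = _
      push_cast; ring
    rw [← h2, h1]

/-- a prime `r ∣ NN` is not `ee i` if `ee i ∣ LL q i` -/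
theorem ne_ee {q i : ℕ} (hq : 2 ≤ q) (hi : i ∈ C4) (h : ee i ∣ NN q i) (h' : ee i ∣ LL q i) : False := by
  apply not_sq (q := q) hi
  rw [← nn_gcd hq hi, Nat.gcd_eq_left h', ← Nat.cast_mul]
  exact Int.natCast_dvd_natCast.2 (by rw [pow_two]; exact Nat.mul_dvd_mul_right h _)

/-- **the primes of `NN q i` are of class `i`** -/
theorem nn_prim {q i r : ℕ} (hq : 2 ≤ q) (hi : i ∈ C4) (hr : r.Prime) (h : r ∣ NN q i) : Prim q i r := by
  have : Fact r.Prime := ⟨hr⟩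
  have hi0 : i ≠ 0 := by rcases mem_c4 hi with rfl | rfl | rfl | rfl <;> norm_num
  refine prim_of_order (by omega) hr hi0 ?_
  set x : ZMod r := (q : ZMod r) with hx
  have hB : ((BZ (q : ℤ) i : ℤ) : ZMod r) = 0 := by
    rw [ZMod.intCast_zmod_eq_zero_iff_dvd, ← nn_gcd hq hi]
    exact (Int.natCast_dvd_natCast.2 h).mul_right _
  rcases mem_c4 hi with rfl | rfl | rfl | rfl
  · have hb : x ^ 6 + x ^ 5 + x ^ 4 + x ^ 3 + x ^ 2 + x + 1 = 0 := by
      have h2 : ((BZ (q : ℤ) 7 : ℤ) : ZMod r) = x ^ 6 + x ^ 5 + x ^ 4 + x ^ 3 + x ^ 2 + x + 1 := by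
        show (((q : ℤ) ^ 6 + (q : ℤ) ^ 5 + (q : ℤ) ^ 4 + (q : ℤ) ^ 3 + (q : ℤ) ^ 2 + (q : ℤ) + 1 : ℤ) : ZMod r) = _
        push_cast; ring
      rw [← h2, hB]
    have h7 : x ^ 7 = 1 := by linear_combination (x - 1) * hb
    rcases (Nat.dvd_prime (by norm_num)).1 (orderOf_dvd_of_pow_eq_one h7) with h1 | h1
    · exfalso
      have hx1 : x = 1 := orderOf_eq_one_iff.1 h1
      rw [hx1] at hb
      have h8 : ((7 : ℕ) : ZMod r) = 0 := by
        push_cast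
        linear_combination hb
      have h9 := (Nat.prime_dvd_prime_iff_eq hr (by norm_num)).1 ((ZMod.natCast_eq_zero_iff _ _).1 h8)
      subst h9
      refine ne_ee hq hi h ?_
      show 7 ∣ q - 1
      rw [← ZMod.natCast_eq_zero_iff, Nat.cast_sub (by omega), ← hx, hx1]
      simp
    · exact h1
  · have hb : x ^ 6 + x ^ 3 + 1 = 0 := by
      have h2 : ((BZ (q : ℤ) 9 : ℤ) : ZMod r) = x ^ 6 + x ^ 3 + 1 := by
        show (((q : ℤ) ^ 6 + (q : ℤ) ^ 3 + 1 : ℤ) : ZMod r) = _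
        push_cast; ring
      rw [← h2, hB]
    have h7 : x ^ 9 = 1 := by linear_combination (x ^ 3 - 1) * hb
    obtain ⟨m, hm, h1⟩ := (Nat.dvd_prime_pow (by norm_num : Nat.Prime 3)).1
      (show orderOf x ∣ 3 ^ 2 from orderOf_dvd_of_pow_eq_one h7)
    have hm2 : m = 2 ∨ x ^ 3 = 1 := by
      by_cases h2 : m = 2
      · exact Or.inl h2
      · right
        rw [← orderOf_dvd_iff_pow_eq_one, h1]
        calc 3 ^ m ∣ 3 ^ 1 := pow_dvd_pow 3 (by omega)
          _ = 3 := by norm_num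
    rcases hm2 with rfl | h3
    · exact h1
    · exfalso
      have h8 : ((3 : ℕ) : ZMod r) = 0 := by
        push_cast
        linear_combination hb - (x ^ 3 + 2) * h3
      have h9 := (Nat.prime_dvd_prime_iff_eq hr (by norm_num)).1 ((ZMod.natCast_eq_zero_iff _ _).1 h8)
      subst h9
      refine ne_ee hq hi h ?_
      show 3 ∣ q - 1
      rw [← ZMod.natCast_eq_zero_iff, Nat.cast_sub (by omega), ← hx, z31 x h3]
      simp
  · have hb : x ^ 6 - x ^ 5 + x ^ 4 - x ^ 3 + x ^ 2 - x + 1 = 0 := by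
      have h2 : ((BZ (q : ℤ) 14 : ℤ) : ZMod r) = x ^ 6 - x ^ 5 + x ^ 4 - x ^ 3 + x ^ 2 - x + 1 := by
        show (((q : ℤ) ^ 6 - (q : ℤ) ^ 5 + (q : ℤ) ^ 4 - (q : ℤ) ^ 3 + (q : ℤ) ^ 2 - (q : ℤ) + 1 : ℤ) : ZMod r) = _
        push_cast; ring
      rw [← h2, hB]
    have h7 : (-x) ^ 7 = 1 := by linear_combination (-(x + 1)) * hb
    have hr2 : r ≠ 2 := by
      rintro rfl
      exact z2a x hb
    have h14 : x ^ 14 = 1 := by
      have : x ^ 14 = ((-x) ^ 7) ^ 2 := by ring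
      rw [this, h7, one_pow]
    have hod := orderOf_dvd_of_pow_eq_one h14
    have hn7 : ¬ orderOf x ∣ 7 := by
      intro h1
      have h2 : x ^ 7 = 1 := orderOf_dvd_iff_pow_eq_one.1 h1
      have h3 : ((2 : ℕ) : ZMod r) = 0 := by
        push_cast
        linear_combination -h7 - h2
      exact hr2 ((Nat.prime_dvd_prime_iff_eq hr Nat.prime_two).1 ((ZMod.natCast_eq_zero_iff _ _).1 h3))
    rcases (Nat.dvd_prime (by norm_num)).1 (orderOf_dvd_of_pow_eq_one h7) with h1 | h1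
    · exfalso
      have hx1 : -x = 1 := orderOf_eq_one_iff.1 h1
      have hx2 : x = -1 := by rw [← hx1, neg_neg]
      rw [hx2] at hb
      have h8 : ((7 : ℕ) : ZMod r) = 0 := by
        push_cast
        linear_combination hb
      have h9 := (Nat.prime_dvd_prime_iff_eq hr (by norm_num)).1 ((ZMod.natCast_eq_zero_iff _ _).1 h8)
      subst h9
      refine ne_ee hq hi h ?_
      show 7 ∣ q + 1
      rw [← ZMod.natCast_eq_zero_iff, Nat.cast_add, ← hx, hx2]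
      simp
    · -- `x` has order 14
      have h2 : ¬ orderOf x ∣ 2 := by
        intro h3
        have h4 : x ^ 2 = 1 := orderOf_dvd_iff_pow_eq_one.1 h3
        have h5 : (-x) ^ 2 = 1 := by rw [← h4]; ring
        have h6 := orderOf_dvd_of_pow_eq_one h5
        rw [h1] at h6
        norm_num at h6
      have h3 := Nat.le_of_dvd (by norm_num) hod
      generalize orderOf x = m at hod hn7 h2 h3 ⊢
      clear h7 hb hB h h14 h1
      interval_cases m <;> first | rfl | (exfalso; omega)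
  · have hb : x ^ 6 - x ^ 3 + 1 = 0 := by
      have h2 : ((BZ (q : ℤ) 18 : ℤ) : ZMod r) = x ^ 6 - x ^ 3 + 1 := by
        show (((q : ℤ) ^ 6 - (q : ℤ) ^ 3 + 1 : ℤ) : ZMod r) = _
        push_cast; ring
      rw [← h2, hB]
    have h9 : x ^ 9 = -1 := by linear_combination (x ^ 3 + 1) * hb
    have hr2 : r ≠ 2 := by
      rintro rfl
      exact z2b x hb
    have h18 : x ^ 18 = 1 := by
      have : x ^ 18 = (x ^ 9) ^ 2 := by ring
      rw [this, h9]; ring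
    have hod := orderOf_dvd_of_pow_eq_one h18
    have hn9 : ¬ orderOf x ∣ 9 := by
      intro h1
      have h2 : x ^ 9 = 1 := orderOf_dvd_iff_pow_eq_one.1 h1
      have h3 : ((2 : ℕ) : ZMod r) = 0 := by
        push_cast
        linear_combination h9 - h2
      exact hr2 ((Nat.prime_dvd_prime_iff_eq hr Nat.prime_two).1 ((ZMod.natCast_eq_zero_iff _ _).1 h3))
    have hn6 : ¬ orderOf x ∣ 6 := by
      intro h1
      have h2 : x ^ 6 = 1 := orderOf_dvd_iff_pow_eq_one.1 h1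
      have h3 : x ^ 3 = -1 := by
        have : x ^ 9 = x ^ 6 * x ^ 3 := by ring
        rw [this, h2, one_mul] at h9
        exact h9
      have h8 : ((3 : ℕ) : ZMod r) = 0 := by
        push_cast
        linear_combination hb - h2 + h3
      have h10 := (Nat.prime_dvd_prime_iff_eq hr (by norm_num)).1 ((ZMod.natCast_eq_zero_iff _ _).1 h8)
      subst h10
      refine ne_ee hq hi h ?_
      show 3 ∣ q + 1
      rw [← ZMod.natCast_eq_zero_iff, Nat.cast_add, ← hx, z3m x h3]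
      simp
    have h3 := Nat.le_of_dvd (by norm_num) hod
    generalize orderOf x = m at hod hn9 hn6 h3 ⊢
    clear hb hB h h18 h9
    interval_cases m <;> first | rfl | (exfalso; omega)

end Cfsg.Agent.H334.E7.Lay
end

-- part: H334/E7/Size
section
/-!
# Sizes (helper334, S3482 R9)
-/

set_option autoImplicit false

namespace Cfsg.Agent.H334.E7.Size

open Cfsg.Agent.H436 Cfsg.Agent.H962.E7 Cfsg.Agent.H334.E7.NT Cfsg.Agent.H334.E7.Lay

theorem pn_le {q i : ℕ} (hq : 2 ≤ q) (hi : i ∈ C4) : PN q i ≤ NN q i * (LL q i * ee i) := by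
  rw [← nn_mul hq hi]
  gcongr
  exact gcd_le_ee q i

theorem pn_pos {q i : ℕ} (hq : 2 ≤ q) (hi : i ∈ C4) : 0 < PN q i := by
  have h1 : 0 < q - 1 := by omega
  rcases mem_c4 hi with rfl | rfl | rfl | rfl
  · show 0 < q ^ 7 - 1
    exact Nat.sub_pos_of_lt (Nat.one_lt_pow (by norm_num) (by omega))
  · show 0 < (q - 1) * (q ^ 6 + q ^ 3 + 1)
    positivity
  · show 0 < q ^ 7 + 1
    positivity
  · show 0 < (q + 1) * (q ^ 6 - q ^ 3 + 1)
    positivity

theorem nn_pos {q i : ℕ} (hq : 2 ≤ q) (hi : i ∈ C4) : 0 < NN q i := by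
  have h := pn_pos hq hi
  rw [← nn_mul hq hi] at h
  exact Nat.pos_of_ne_zero fun h0 => by rw [h0, zero_mul] at h; omega

theorem tt_pos {q i : ℕ} (hq : 2 ≤ q) (hi : i ∈ C4) : 0 < TT q i := by
  have h := pn_pos hq hi
  rw [← tt_mul (by omega) hi] at h
  exact Nat.pos_of_ne_zero fun h0 => by rw [h0, mul_zero] at h; omega

theorem pn_le18 {u i : ℕ} (hu : 2 ≤ u) (hi : i ∈ C4) : (PN u i : ℤ) ≤ ((u : ℤ) + 1) * ((u : ℤ) ^ 6 - (u : ℤ) ^ 3 + 1) := by
  rw [pn_cast (by omega) hi]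
  obtain ⟨t, ht⟩ : ∃ t : ℕ, (u : ℤ) = t + 2 := ⟨u - 2, by omega⟩
  rw [ht]
  have ht0 : (0 : ℤ) ≤ t := by positivity
  rcases mem_c4 hi with rfl | rfl | rfl | rfl
  · show ((t : ℤ) + 2) ^ 7 - 1 ≤ _
    rw [← sub_nonneg]; ring_nf; (clear * -; positivity)
  · show ((t : ℤ) + 2 - 1) * (((t : ℤ) + 2) ^ 6 + ((t : ℤ) + 2) ^ 3 + 1) ≤ _
    rw [← sub_nonneg]; ring_nf; (clear * -; positivity)
  · show ((t : ℤ) + 2) ^ 7 + 1 ≤ _
    rw [← sub_nonneg]; ring_nf; (clear * -; positivity)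
  · exact le_rfl

theorem tt_le {u i : ℕ} (hu : 2 ≤ u) (hi : i ∈ C4) : (TT u i : ℤ) ≤ ((u : ℤ) + 1) * ((u : ℤ) ^ 6 - (u : ℤ) ^ 3 + 1) := by
  refine le_trans ?_ (pn_le18 hu hi)
  rw [← tt_mul (by omega) hi]
  exact_mod_cast Nat.le_mul_of_pos_left _ gcd_pos

theorem tt_le' {u i : ℕ} (hu : 2 ≤ u) (hi : i ∈ C4) : TT u i ≤ 2 * u ^ 7 := by
  have h := tt_le hu hi
  have h2 : ((u : ℤ) + 1) * ((u : ℤ) ^ 6 - (u : ℤ) ^ 3 + 1) ≤ 2 * (u : ℤ) ^ 7 := by
    obtain ⟨t, ht⟩ : ∃ t : ℕ, (u : ℤ) = t + 2 := ⟨u - 2, by omega⟩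
    rw [ht, ← sub_nonneg]
    ring_nf
    (clear * -; positivity)
  exact_mod_cast h.trans h2

/-- the lower bound of `TT u a` -/
theorem q7_le {q u a : ℕ} (hq : 2 ≤ q) (h : NN q 14 ≤ TT u a) : q ^ 7 + 1 ≤ 7 * (q + 1) * TT u a := by
  have h1 := pn_le hq (show 14 ∈ C4 by decide)
  change q ^ 7 + 1 ≤ NN q 14 * ((q + 1) * 7) at h1
  calc q ^ 7 + 1 ≤ NN q 14 * ((q + 1) * 7) := h1
    _ ≤ TT u a * ((q + 1) * 7) := Nat.mul_le_mul_right _ h
    _ = 7 * (q + 1) * TT u a := by ring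

theorem small_tt : ∀ u < 8, ∀ a ∈ C4, TT u a ≤ 469228 := by decide

theorem u_ge {q u a : ℕ} (hq : 13 ≤ q) (ha : a ∈ C4) (h : NN q 14 ≤ TT u a) : 8 ≤ u := by
  by_contra hcon
  push Not at hcon
  have h1 := q7_le (q := q) (by omega) h
  have h2 := small_tt u hcon a ha
  have h3 : q ^ 7 + 1 ≤ 7 * (q + 1) * 469228 := h1.trans (Nat.mul_le_mul_left _ h2)
  have h4 : 4826809 * q ≤ q ^ 7 := by
    calc 4826809 * q = 13 ^ 6 * q := by norm_num
      _ ≤ q ^ 6 * q := Nat.mul_le_mul_right _ (Nat.pow_le_pow_left hq 6)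
      _ = q ^ 7 := by ring
  omega

/-- the factor -/
theorem x_le {q u s a X : ℕ} (hq : 2 ≤ q) (hodd : Nat.gcd 2 (q - 1) = 2) (hs : s ∈ C4)
    (h : X * TT u a = TT q s) (hd : NN q s ∣ TT u a) : 2 * X ≤ LL q s * ee s := by
  obtain ⟨m, hm⟩ := hd
  have h1 := tt_mul (u := q) (by omega) hs
  rw [hodd, ← h, ← nn_mul hq hs, hm] at h1
  have h2 : NN q s * (2 * X * m) = NN q s * (LL q s * Nat.gcd (ee s) (LL q s)) := by
    rw [← h1]; ring
  have h3 := Nat.eq_of_mul_eq_mul_left (nn_pos hq hs) h2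
  have hm0 : 0 < m := by
    rcases Nat.eq_zero_or_pos m with rfl | h4
    · exfalso
      rw [mul_zero] at hm
      rw [hm, mul_zero] at h
      exact (tt_pos hq hs).ne h
    · exact h4
  calc 2 * X ≤ 2 * X * m := Nat.le_mul_of_pos_right _ hm0
    _ = LL q s * Nat.gcd (ee s) (LL q s) := h3
    _ ≤ LL q s * ee s := Nat.mul_le_mul_left _ (gcd_le_ee q s)

/-- `j = 7` -/
theorem bound7 {q u a X : ℕ} (hq : 13 ≤ q) (hu : 8 ≤ u) (ha : a ∈ C4) (h : NN q 14 ≤ TT u a)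
    (hX : 2 * X ≤ 7 * (q + 1)) : X < u ^ 4 := by
  by_contra hcon
  push Not at hcon
  have h1 := q7_le (q := q) (by omega) h
  have h2 := tt_le' (u := u) (by omega) ha
  have h3 : q ^ 7 + 1 ≤ 7 * (q + 1) * (2 * u ^ 7) := h1.trans (Nat.mul_le_mul_left _ h2)
  have h4 : 2 * u ^ 4 ≤ 7 * (q + 1) := by omega
  have h5 : 32 * u ^ 7 ≤ 49 * (q + 1) ^ 2 := by
    calc 32 * u ^ 7 = 4 * u ^ 7 * 8 := by ring
      _ ≤ 4 * u ^ 7 * u := Nat.mul_le_mul_left _ hu
      _ = (2 * u ^ 4) ^ 2 := by ring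
      _ ≤ (7 * (q + 1)) ^ 2 := Nat.pow_le_pow_left h4 2
      _ = 49 * (q + 1) ^ 2 := by ring
  have h6 : 32 * q ^ 7 ≤ 5488 * q ^ 3 := by
    calc 32 * q ^ 7 ≤ 32 * (q ^ 7 + 1) := by omega
      _ ≤ 32 * (7 * (q + 1) * (2 * u ^ 7)) := Nat.mul_le_mul_left _ h3
      _ = 14 * (q + 1) * (32 * u ^ 7) := by ring
      _ ≤ 14 * (q + 1) * (49 * (q + 1) ^ 2) := Nat.mul_le_mul_left _ h5
      _ = 686 * (q + 1) ^ 3 := by ring
      _ ≤ 686 * (2 * q) ^ 3 := Nat.mul_le_mul_left _ (Nat.pow_le_pow_left (by omega) 3)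
      _ = 5488 * q ^ 3 := by ring
  have h7 : 28561 * q ^ 3 ≤ q ^ 7 := by
    calc 28561 * q ^ 3 = 13 ^ 4 * q ^ 3 := by norm_num
      _ ≤ q ^ 4 * q ^ 3 := Nat.mul_le_mul_right _ (Nat.pow_le_pow_left hq 4)
      _ = q ^ 7 := by ring
  have h8 : 0 < q ^ 3 := by positivity
  omega

/-- `j = 9` -/
theorem bound9 {q u b X : ℕ} (hq : 13 ≤ q) (hu : 8 ≤ u) (hb : b ∈ C4) (h : NN q 18 ≤ TT u b)
    (hX : 2 * X ≤ 3 * (q ^ 3 + 1)) : X < u ^ 4 := by
  by_contra hcon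
  push Not at hcon
  have h1 := pn_le (q := q) (by omega) (show 18 ∈ C4 by decide)
  change (q + 1) * (q ^ 6 - q ^ 3 + 1) ≤ NN q 18 * ((q + 1) * 3) at h1
  have h2 : q ^ 6 - q ^ 3 + 1 ≤ 3 * NN q 18 := by
    have : (q + 1) * (q ^ 6 - q ^ 3 + 1) ≤ (q + 1) * (3 * NN q 18) := by
      calc _ ≤ NN q 18 * ((q + 1) * 3) := h1
        _ = _ := by ring
    exact Nat.le_of_mul_le_mul_left this (by omega)
  have h3 : q ^ 6 - q ^ 3 + 1 ≤ 3 * TT u b := h2.trans (Nat.mul_le_mul_left _ h)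
  have h4 := tt_le (show 2 ≤ u by omega) hb
  have hle : q ^ 3 ≤ q ^ 6 := Nat.pow_le_pow_right (by omega) (by norm_num)
  have h5 : (q : ℤ) ^ 6 - (q : ℤ) ^ 3 + 1 ≤ 3 * (((u : ℤ) + 1) * ((u : ℤ) ^ 6 - (u : ℤ) ^ 3 + 1)) := by
    have h6 : ((q ^ 6 - q ^ 3 + 1 : ℕ) : ℤ) ≤ ((3 * TT u b : ℕ) : ℤ) := by exact_mod_cast h3
    push_cast [Nat.cast_sub hle] at h6
    linarith only [h4, h6]
  have h6 : 2 * (u : ℤ) ^ 4 ≤ 3 * ((q : ℤ) ^ 3 + 1) := by
    have : 2 * u ^ 4 ≤ 3 * (q ^ 3 + 1) := by omega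
    exact_mod_cast this
  have hq' : (13 : ℤ) ≤ q := by exact_mod_cast hq
  have hu' : (8 : ℤ) ≤ u := by exact_mod_cast hu
  have hq3 : (2197 : ℤ) ≤ (q : ℤ) ^ 3 := by
    calc (2197 : ℤ) = 13 ^ 3 := by norm_num
      _ ≤ (q : ℤ) ^ 3 := pow_le_pow_left₀ (by norm_num) hq' 3
  have hu6 : (0 : ℤ) < (u : ℤ) ^ 6 := by positivity
  have hu3 : (512 : ℤ) ≤ (u : ℤ) ^ 3 := by
    calc (512 : ℤ) = 8 ^ 3 := by norm_num
      _ ≤ (u : ℤ) ^ 3 := pow_le_pow_left₀ (by norm_num) hu' 3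
  have h7 : 4 * (u : ℤ) ^ 8 ≤ 9 * ((q : ℤ) ^ 3 + 1) ^ 2 := by
    have h8 : (2 * (u : ℤ) ^ 4) ^ 2 ≤ (3 * ((q : ℤ) ^ 3 + 1)) ^ 2 := pow_le_pow_left₀ (by positivity) h6 2
    calc 4 * (u : ℤ) ^ 8 = (2 * (u : ℤ) ^ 4) ^ 2 := by ring
      _ ≤ _ := h8
      _ = 9 * ((q : ℤ) ^ 3 + 1) ^ 2 := by ring
  have h8 : 100 * ((q : ℤ) ^ 3 + 1) ^ 2 ≤ 101 * ((q : ℤ) ^ 6 - (q : ℤ) ^ 3 + 1) := by
    have h9 : (q : ℤ) ^ 6 = (q : ℤ) ^ 3 * (q : ℤ) ^ 3 := by ring
    rw [h9]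
    generalize (q : ℤ) ^ 3 = z at hq3
    nlinarith only [hq3]
  have h9 : 400 * (u : ℤ) ^ 8 ≤ 2727 * (((u : ℤ) + 1) * (u : ℤ) ^ 6) := by
    have h10 : ((u : ℤ) + 1) * ((u : ℤ) ^ 6 - (u : ℤ) ^ 3 + 1) ≤ ((u : ℤ) + 1) * (u : ℤ) ^ 6 :=
      mul_le_mul_of_nonneg_left (by linarith only [hu3]) (by positivity)
    linarith only [h5, h7, h8, h10]
  have h10 : 400 * (u : ℤ) ^ 2 ≤ 2727 * ((u : ℤ) + 1) := by
    have h11 : (u : ℤ) ^ 6 * (400 * (u : ℤ) ^ 2) ≤ (u : ℤ) ^ 6 * (2727 * ((u : ℤ) + 1)) := by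
      calc _ = 400 * (u : ℤ) ^ 8 := by ring
        _ ≤ _ := h9
        _ = _ := by ring
    exact le_of_mul_le_mul_left h11 hu6
  nlinarith only [hu, h10]

end Cfsg.Agent.H334.E7.Size
end

private theorem dce_41e24faa4cf8 : _root_.True := by
  try have : _root_.True := by simp only [_root_.Cfsg.Agent.H962.E7.C4.eq_1]
  exact _root_.True.intro
end

-- part: H267/E7R/Sp_mg
section
prune_inst 0x50205340358002000000001240003e02ea000590000b800141a00b420781682280022e00aaa0000200e6a280103400481100005002000000000004000001012080a8960471d1ac0c56008f801004000000000000020000000000000000000000000000000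
set_option linter.all false
open scoped Cfsg.Agent.FastGrp

-- part: H267/E7R/Sp
section
/-!
# S3482: the symplectic and odd dimensional orthogonal rows (helper267)

* `row_psp`, `row_oodd`.
-/

set_option autoImplicit false
set_option linter.unusedVariables false

namespace Cfsg.Agent.H267.E7R

open Cfsg Cfsg.Agent.H436 Cfsg.Agent.H962.E7 Cfsg.Agent.OrdDiv
open Cfsg.Agent.H72.AdjOrth (wO ee eta)
open Cfsg.Agent.H72.AdjSp (orderOf_of_adj)

universe u

/-- the argument, in terms of the prime graph of `PSp_{2m}(u)` -/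
theorem core {p k : ℕ} {S : Type u} [Group S] (R : Row p k S) {F : Type} [Field F] [Fintype F] {m : ℕ} (hm : 2 ≤ m)
    (hv : ¬ p ∣ Nat.card F)
    (hcard : ∀ r : ℕ, r ∣ Nat.card S → r ∣ Nat.card (PSp m F))
    (hadj : ∀ r s : ℕ, r.Prime → s.Prime → r ≠ s → (∃ x : PSp m F, orderOf x = r * s) → ∃ x : S, orderOf x = r * s) :
    False := by
  classical
  obtain ⟨q, hq⟩ : ∃ q, p ^ k = q := ⟨_, rfl⟩
  have hq2 := q_two R
  have tor := R.tor
  have nad := R.nad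
  have one := R.one
  have top := R.top
  obtain ⟨a, ha⟩ := prim14 R
  obtain ⟨b, hb⟩ := prim18 R
  -- adjacency
  have hA : ∀ {r s : ℕ}, Cfsg.Agent.H94.PG.Adj (PSp m F) r s → ∃ x : S, orderOf x = r * s := by
    intro r s h
    exact hadj r s h.1 h.2.1 h.2.2.1 (orderOf_of_adj h)
  have na : ¬ Cfsg.Agent.H94.PG.Adj (PSp m F) a 2 := by
    intro h
    obtain ⟨x, hx⟩ := hA h
    exact not_two R (Or.inl rfl) ha (x := x) (by rw [hx]; exact dvd_mul_right _ _) (by rw [hx]; exact dvd_mul_left _ _)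
  have nb : ¬ Cfsg.Agent.H94.PG.Adj (PSp m F) b 2 := by
    intro h
    obtain ⟨x, hx⟩ := hA h
    exact not_two R (Or.inr rfl) hb (x := x) (by rw [hx]; exact dvd_mul_right _ _) (by rw [hx]; exact dvd_mul_left _ _)
  have a2 : a ≠ 2 := by
    have := ha.odd (by norm_num)
    omega
  have b2 : b ≠ 2 := by
    have := hb.odd (by norm_num)
    omega
  have hab : a ≠ b := by
    intro h
    have := ha.unique (h ▸ hb)
    omega
  have da := (top 14 (by decide)).dvd a ha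
  have db := (top 18 (by decide)).dvd b hb
  obtain ⟨ia, ja⟩ := H377.psp_info hm ha.prime a2 (hcard a da) na
  obtain ⟨ib, jb⟩ := H377.psp_info hm hb.prime b2 (hcard b db) nb
  have nab : ¬ Cfsg.Agent.H94.PG.Adj (PSp m F) a b := fun h =>
    nad 14 (by decide) 18 (by decide) (by norm_num) a b ha hb (hA h)
  -- the two primes in the two tori
  obtain ⟨i, j, r, s, hi, hj, hij, hr, hs, hrm, hsp, jr, js, dr, ds⟩ : ∃ i j r s : ℕ, (i = 14 ∨ i = 18) ∧
      (j = 14 ∨ j = 18) ∧ i ≠ j ∧ Prim (p ^ k) i r ∧ Prim (p ^ k) j s ∧ r ∣ Nat.card F ^ m - 1 ∧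
      s ∣ Nat.card F ^ m + 1 ∧ (∀ i, 1 ≤ i → i < m → ¬ r ∣ Nat.card F ^ (2 * i) - 1) ∧
      (∀ i, 1 ≤ i → i < m → ¬ s ∣ Nat.card F ^ (2 * i) - 1) ∧ r ∣ Nat.card S ∧ s ∣ Nat.card S := by
    rcases ia with ia | ia <;> rcases ib with ib | ib
    · exact absurd (H377.psp_adj_minus (by omega) ha.prime hb.prime a2 b2 hab ia ib) nab
    · exact ⟨14, 18, a, b, Or.inl rfl, Or.inr rfl, by norm_num, ha, hb, ia, ib, ja, jb, da, db⟩
    · exact ⟨18, 14, b, a, Or.inr rfl, Or.inl rfl, by norm_num, hb, ha, ib, ia, jb, ja, db, da⟩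
    · exact absurd (H377.psp_adj_plus (by omega) ha.prime hb.prime a2 b2 hab ia ib) nab
  clear ia ja ib jb nab hab a2 b2 na nb ha hb da db
  have r2 : r ≠ 2 := by
    have := hr.odd (by rcases hi with rfl | rfl <;> norm_num)
    omega
  have s2 : s ≠ 2 := by
    have := hs.odd (by rcases hj with rfl | rfl <;> norm_num)
    omega
  have nr : ¬ Cfsg.Agent.H94.PG.Adj (PSp m F) r 2 := by
    intro h
    obtain ⟨x, hx⟩ := hA h
    exact not_two R hi hr (x := x) (by rw [hx]; exact dvd_mul_right _ _) (by rw [hx]; exact dvd_mul_left _ _)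
  have ns : ¬ Cfsg.Agent.H94.PG.Adj (PSp m F) s 2 := by
    intro h
    obtain ⟨x, hx⟩ := hA h
    exact not_two R hj hs (x := x) (by rw [hx]; exact dvd_mul_right _ _) (by rw [hx]; exact dvd_mul_left _ _)
  -- `m` is odd
  have hmo : Odd m := by
    rcases Nat.even_or_odd m with ⟨t, ht⟩ | h
    · exfalso
      refine jr t (by omega) (by omega) ?_
      rwa [two_mul, ← ht]
    · exact h
  have hu1 : 1 < Nat.card F := Finite.one_lt_card
  obtain ⟨v, hvv⟩ : ∃ v, Nat.card F = v := ⟨_, rfl⟩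
  -- `u` is even
  have hue : v % 2 = 0 := by
    by_contra ho
    have h4 : v % 4 = 1 ∨ v % 4 = 3 := by omega
    obtain ⟨t, ht⟩ := hmo
    have hone : 1 ≤ v ^ m := Nat.one_le_pow _ _ (by omega)
    rcases h4 with h4 | h4
    · refine nr (H377.psp_adj_minus_two (by omega) hr.prime r2 hrm ?_)
      have h5 : v ^ m % 4 = 1 := by
        rw [Nat.pow_mod, h4, one_pow]
        norm_num
      rw [hvv]
      omega
    · refine ns (H377.psp_adj_plus_two (by omega) hs.prime s2 hsp ?_)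
      have h5 : v ^ m % 4 = 3 := by
        rw [ht, pow_add, pow_mul, pow_one, Nat.mul_mod, Nat.pow_mod, Nat.pow_mod v 2, h4]
        norm_num
      rw [hvv]
      omega
  -- a prime divisor of `u² - 1`
  have h4 : 4 ≤ v ^ 2 := by
    have : 2 * 2 ≤ v * v := Nat.mul_le_mul (by omega) (by omega)
    rw [sq]; omega
  obtain ⟨ℓ, hℓ, hℓd⟩ := Nat.exists_prime_and_dvd (n := v ^ 2 - 1) (by omega)
  have hℓ2 : ℓ ≠ 2 := by
    rintro rfl
    have h5 : v ^ 2 % 2 = 0 := by rw [Nat.pow_mod, hue]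
    omega
  have hℓv : ¬ ℓ ∣ v := by
    intro h
    have h5 : ℓ ∣ v ^ 2 := dvd_pow h (by norm_num)
    have h6 := Nat.dvd_sub h5 hℓd
    rw [show v ^ 2 - (v ^ 2 - 1) = 1 by omega] at h6
    exact hℓ.one_lt.ne' (Nat.dvd_one.1 h6)
  have hℓr : ℓ ≠ r := by
    rintro rfl
    refine jr 1 le_rfl (by omega) ?_
    rw [hvv, mul_one]; exact hℓd
  have hℓs : ℓ ≠ s := by
    rintro rfl
    refine js 1 le_rfl (by omega) ?_
    rw [hvv, mul_one]; exact hℓd
  have hsq : v ^ 2 - 1 = (v + 1) * (v - 1) := by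
    have := Nat.sq_sub_sq v 1
    rwa [one_pow] at this
  -- it divides a torus of class 14 or 18
  have key : ∃ i, (i = 14 ∨ i = 18) ∧ ℓ ∣ TT (p ^ k) i := by
    rw [hsq, hℓ.dvd_mul] at hℓd
    rcases hℓd with h5 | h5
    · refine ⟨j, hj, ?_⟩
      have h6 : ℓ ∣ Nat.card F ^ m + 1 := by rw [hvv]; exact h5.trans (H377.two_torus hmo)
      obtain ⟨x, hx⟩ := hA (H377.psp_adj_plus (F := F) (by omega) hℓ hs.prime hℓ2 s2 hℓs h6 hsp)
      have h7 := tor j (by rcases hj with rfl | rfl <;> decide) x s hs (by rw [hx]; exact dvd_mul_left _ _)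
      rw [hx] at h7
      exact (dvd_mul_right _ _).trans h7
    · refine ⟨i, hi, ?_⟩
      have h6 : ℓ ∣ Nat.card F ^ m - 1 := by
        rw [hvv]
        refine h5.trans ?_
        have := Nat.sub_dvd_pow_sub_pow v 1 m
        rwa [one_pow] at this
      obtain ⟨x, hx⟩ := hA (H377.psp_adj_minus (F := F) (by omega) hℓ hr.prime hℓ2 r2 hℓr h6 hrm)
      have h7 := tor i (by rcases hi with rfl | rfl <;> decide) x r hr (by rw [hx]; exact dvd_mul_left _ _)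
      rw [hx] at h7
      exact (dvd_mul_right _ _).trans h7
  obtain ⟨i', hi', hℓT⟩ := key
  -- a prime of class 7 or 9
  obtain ⟨c, hc, w, hw, dw⟩ : ∃ c, (c = 7 ∨ c = 9) ∧ ∃ w, Prim (p ^ k) c w ∧ w ∣ Nat.card S := by
    rcases one 7 (by decide) 9 (by decide) (by norm_num) with h5 | h5
    · obtain ⟨w, hw⟩ := prim7 R
      exact ⟨7, Or.inl rfl, w, hw, h5.dvd w hw⟩
    · obtain ⟨w, hw⟩ := prim9 R
      exact ⟨9, Or.inr rfl, w, hw, h5.dvd w hw⟩
  have hc8 : c ∈ C8 := by rcases hc with rfl | rfl <;> decide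
  have hc4 : c ∈ C4 := by rcases hc with rfl | rfl <;> decide
  have w2 : w ≠ 2 := by
    have := hw.odd (by rcases hc with rfl | rfl <;> norm_num)
    omega
  refine sep hq2 hℓ hℓ2 hi' hc hℓT ?_
  by_cases hℓw : ℓ = w
  · rw [hℓw]; exact hw.dvd dvd_rfl
  refine dvd_sub hq2 hc ?_
  -- `w` and `ℓ` are adjacent
  have hwr : w ≠ r := by
    rintro rfl
    have := hw.unique hr
    (clear * - hi hc this; omega)
  have hws : w ≠ s := by
    rintro rfl
    have := hw.unique hs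
    (clear * - hj hc this; omega)
  have w1 : ¬ w ∣ Nat.card F ^ m - 1 := fun h5 =>
    nad c hc8 i (by rcases hi with rfl | rfl <;> decide) (by (clear * - hi hc; omega)) w r hw hr
      (hA (H377.psp_adj_minus (F := F) (by omega) hw.prime hr.prime w2 r2 hwr h5 hrm))
  have w3 : ¬ w ∣ Nat.card F ^ m + 1 := fun h5 =>
    nad c hc8 j (by rcases hj with rfl | rfl <;> decide) (by (clear * - hj hc; omega)) w s hw hs
      (hA (H377.psp_adj_plus (F := F) (by omega) hw.prime hs.prime w2 s2 hws h5 hsp))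
  have hwv : ¬ w ∣ v := by
    intro h5
    obtain ⟨c', _⟩ := CharP.exists F
    have : Fact c'.Prime := ⟨CharP.char_is_prime F c'⟩
    obtain ⟨n, -, hn⟩ := FiniteField.card F c'
    rw [← Nat.card_eq_fintype_card, hvv] at hn
    have h6 : w = c' := by
      rw [hn] at h5
      exact (Nat.prime_dvd_prime_iff_eq hw.prime Fact.out).1 (hw.prime.dvd_of_dvd_pow h5)
    have h7 : 2 = c' := by
      have h8 : 2 ∣ c' ^ (n : ℕ) := by rw [← hn]; omega
      exact (Nat.prime_dvd_prime_iff_eq Nat.prime_two Fact.out).1 (Nat.prime_two.dvd_of_dvd_pow h8)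
    (clear * - w2 h6 h7; omega)
  -- the weights
  have e1 : wO (Nat.card F) ℓ = 1 := by
    have h5 : ¬ (ℓ = 2 ∨ ℓ ∣ Nat.card F) := by
      rw [hvv]; exact not_or.2 ⟨hℓ2, hℓv⟩
    rw [wO, if_neg h5]
    have h6 : ee (Nat.card F) ℓ ∣ 2 := H72.AdjOrth.ee_dvd (by omega) (by rw [hvv]; exact hℓd)
    have h7 := (Nat.dvd_prime Nat.prime_two).1 h6
    rcases h7 with h7 | h7 <;> rw [h7] <;> rfl
  have e2 : wO (Nat.card F) w ≤ m - 1 := by
    have h5 : ¬ (w = 2 ∨ w ∣ Nat.card F) := by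
      rw [hvv]; exact not_or.2 ⟨w2, hwv⟩
    rw [wO, if_neg h5]
    have h6 := H72.AdjCoc.sp_class (F := F) (m := m) hw.prime (by rw [hvv]; exact hwv) (hcard w dw)
    rcases Nat.lt_or_ge (eta (ee (Nat.card F) w)) m with h7 | h7
    · omega
    · exfalso
      have h8 : eta (ee (Nat.card F) w) = m := le_antisymm h6 h7
      rw [eta] at h8
      have h9 := H72.AdjOrth.dvd_pow_ee (q := Nat.card F) (r := w) (by omega)
      split_ifs at h8 with h10
      · have h11 : ee (Nat.card F) w = 2 * m := by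
          obtain ⟨t, ht⟩ := h10
          omega
        rw [h11] at h9
        have h12 : Nat.card F ^ (2 * m) - 1 = (Nat.card F ^ m + 1) * (Nat.card F ^ m - 1) := by
          rw [mul_comm 2 m, pow_mul]
          have := Nat.sq_sub_sq (Nat.card F ^ m) 1
          rwa [one_pow] at this
        rw [h12, hw.prime.dvd_mul] at h9
        exact h9.elim w3 w1
      · rw [h8] at h9
        exact w1 h9
  obtain ⟨x, hx⟩ := hadj ℓ w hℓ hw.prime hℓw (H72.AdjSp.sp_adj hm hℓ hw.prime hℓw (by omega))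
  have h7 := tor c hc4 x w hw (by rw [hx]; exact dvd_mul_left _ _)
  rw [hx] at h7
  exact (dvd_mul_right _ _).trans h7

/-- **row `PSp`** -/
theorem row_psp {p k m v : ℕ} {S : Type u} [Group S] [Finite S] (R : Row p k S) (hg : IsNamed (.psp m v) S)
    (hv : ¬ p ∣ v) : False := by
  obtain ⟨F, _, _, hF, ⟨e⟩⟩ := hg.real
  have hm : 2 ≤ m := hg.cond.1
  refine core R (F := F) hm (by rw [Nat.card_eq_fintype_card, hF]; exact hv)
    (fun r hr => by rwa [← Nat.card_congr e.toEquiv]) fun r s _ _ _ ⟨x, hx⟩ => ⟨e.symm x, ?_⟩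
  rw [MulEquiv.orderOf_eq, hx]

/-- **row `PΩ_{2m+1}`** -/
theorem row_oodd {p k m v : ℕ} {S : Type u} [Group S] [Finite S] (R : Row p k S) (hg : IsNamed (.oodd m v) S)
    (hv : ¬ p ∣ v) : False := by
  obtain ⟨F, _, _, hF, ⟨e⟩⟩ := hg.real
  obtain ⟨hm, ho, -⟩ := hg.cond
  have hc : Nat.card (POmega F (quadFormOdd m F)) = Nat.card (PSp m F) := by
    have h1 := oodd_eq (F := F) hm (by rw [hF]; exact ho)
    have h2 := psp_eq (F := F) (m := m) (by omega)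
    have h3 : fPSp.den m (Fintype.card F) = 2 := by
      change Nat.gcd 2 (Fintype.card F - 1) = 2
      rw [hF]
      obtain ⟨t, ht⟩ := ho
      exact Nat.gcd_eq_left (by omega)
    have h4 : fOOdd.den m (Fintype.card F) = 2 := rfl
    have h5 : fOOdd.num m (Fintype.card F) = fPSp.num m (Fintype.card F) := rfl
    rw [h3] at h2
    rw [h4, h5, ← h2] at h1
    omega
  refine core R (F := F) (m := m) (by omega) (by rw [Nat.card_eq_fintype_card, hF]; exact hv)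
    (fun r hr => by rwa [← hc, ← Nat.card_congr e.toEquiv]) fun r s hr hs hrs hx => ?_
  obtain ⟨x, hx⟩ := (Cfsg.Agent.S2474.result (F := F) (by rw [hF]; exact ho) m hm r s hr hs hrs).2 hx
  exact ⟨e.symm x, by rw [MulEquiv.orderOf_eq, hx]⟩

end Cfsg.Agent.H267.E7R
end

-- part: H334/E7/Tab
section
/-!
# Tori of `E₇` containing the eigenvalue of order `M` and `1` or `-1` (helper334, S3482 R9)

`L_M` : a product of simple reflections; `eig_M_i` : an eigenvector for the eigenvalues of order `i`.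
-/

set_option autoImplicit false

namespace Cfsg.Agent.H334.E7.Tab

open Cfsg.Agent.H129.WData Cfsg.Agent.H378.AdjTab Cfsg.Agent.H378.CycTab Cfsg.Agent.H493.PGTorus
open Cfsg.Agent.H378.AdjE7 (Am)

/-! ### the torus `12` -/

/-- the partial products -/
def L12 : List (Fin 7 × Mat 7) := [
    (0, ![![-1, 0, 0, 0, 0, 0, 0],
        ![0, 1, 0, 0, 0, 0, 0],
        ![1, 0, 1, 0, 0, 0, 0],
        ![0, 0, 0, 1, 0, 0, 0],
        ![0, 0, 0, 0, 1, 0, 0],
        ![0, 0, 0, 0, 0, 1, 0],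
        ![0, 0, 0, 0, 0, 0, 1]])]

theorem chain12 : ChainOK Am L12 :=
  H129.ChainF.ok H129.ChainF.i7 H129.ChainF.m7 (H129.ChainF.c7 <| H129.ChainF.nil) (by decide +kernel)

/-- the eigenvector, index 1 -/
def V12_1 : Fin (0 + 1) → Fin 7 → ℤ := ![![0, 0, 0, 0, 1, 0, 0]]

/-- the functional -/
def U12_1 : Fin 7 → ℤ := ![0, 0, 0, 0, 1, 0, 0]

theorem eig12_1 : EigOK (hd L12) c1 V12_1 U12_1 :=
  H493.EigF.ok (H493.EigF.hT H493.EigF.t7) H493.EigF.r1 (H493.EigF.mc H493.EigF.r7 <| H493.EigF.m0) H493.EigF.r7 (by decide +kernel)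

/-- the eigenvector, index 2 -/
def V12_2 : Fin (0 + 1) → Fin 7 → ℤ := ![![-1, 0, 0, 0, 0, 0, 0]]

/-- the functional -/
def U12_2 : Fin 7 → ℤ := ![-1, 0, 0, 0, 0, 0, 0]

theorem eig12_2 : EigOK (hd L12) c2 V12_2 U12_2 :=
  H493.EigF.ok (H493.EigF.hT H493.EigF.t7) H493.EigF.r1 (H493.EigF.mc H493.EigF.r7 <| H493.EigF.m0) H493.EigF.r7 (by decide +kernel)

/-! ### the torus `3` -/

/-- the partial products -/
def L3 : List (Fin 7 × Mat 7) := [
    (3, ![![1, 0, 1, 1, 0, 0, 0],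
        ![0, 1, 0, 1, 0, 0, 0],
        ![0, 0, -1, -1, 0, 0, 0],
        ![0, 0, 1, 0, 0, 0, 0],
        ![0, 0, 0, 1, 1, 1, 0],
        ![0, 0, 0, 0, 0, -1, 0],
        ![0, 0, 0, 0, 0, 1, 1]]),
    (2, ![![1, 0, 1, 0, 0, 0, 0],
        ![0, 1, 0, 0, 0, 0, 0],
        ![0, 0, -1, 0, 0, 0, 0],
        ![0, 0, 1, 1, 0, 0, 0],
        ![0, 0, 0, 0, 1, 1, 0],
        ![0, 0, 0, 0, 0, -1, 0],
        ![0, 0, 0, 0, 0, 1, 1]]),
    (5, ![![1, 0, 0, 0, 0, 0, 0],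
        ![0, 1, 0, 0, 0, 0, 0],
        ![0, 0, 1, 0, 0, 0, 0],
        ![0, 0, 0, 1, 0, 0, 0],
        ![0, 0, 0, 0, 1, 1, 0],
        ![0, 0, 0, 0, 0, -1, 0],
        ![0, 0, 0, 0, 0, 1, 1]])]

theorem chain3 : ChainOK Am L3 :=
  H129.ChainF.ok H129.ChainF.i7 H129.ChainF.m7 (H129.ChainF.c7 <| H129.ChainF.c7 <| H129.ChainF.c7 <| H129.ChainF.nil) (by decide +kernel)

/-- the eigenvector, index 1 -/
def V3_1 : Fin (0 + 1) → Fin 7 → ℤ := ![![0, -1, 0, 0, 1, 0, -1]]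

/-- the functional -/
def U3_1 : Fin 7 → ℤ := ![0, 0, 0, 0, 0, 0, -1]

theorem eig3_1 : EigOK (hd L3) c1 V3_1 U3_1 :=
  H493.EigF.ok (H493.EigF.hT H493.EigF.t7) H493.EigF.r1 (H493.EigF.mc H493.EigF.r7 <| H493.EigF.m0) H493.EigF.r7 (by decide +kernel)

/-- the eigenvector, index 2 -/
def V3_2 : Fin (0 + 1) → Fin 7 → ℤ := ![![0, 0, 0, 0, 0, 1, 0]]

/-- the functional -/
def U3_2 : Fin 7 → ℤ := ![0, 0, 0, 0, 0, 1, 0]

theorem eig3_2 : EigOK (hd L3) c2 V3_2 U3_2 :=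
  H493.EigF.ok (H493.EigF.hT H493.EigF.t7) H493.EigF.r1 (H493.EigF.mc H493.EigF.r7 <| H493.EigF.m0) H493.EigF.r7 (by decide +kernel)

/-- the eigenvector, index 3 -/
def V3_3 : Fin (1 + 1) → Fin 7 → ℤ := ![![0, 0, -1, -1, 0, 0, 0],
      ![0, 0, 0, -1, 0, 0, 0]]

/-- the functional -/
def U3_3 : Fin 7 → ℤ := ![0, 0, -1, 0, 0, 0, 0]

theorem eig3_3 : EigOK (hd L3) c3 V3_3 U3_3 :=
  H493.EigF.ok (H493.EigF.hT H493.EigF.t7) H493.EigF.r2 (H493.EigF.mc H493.EigF.r7 <| H493.EigF.mc H493.EigF.r7 <| H493.EigF.m0) H493.EigF.r7 (by decide +kernel)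

/-! ### the torus `4` -/

/-- the partial products -/
def L4 : List (Fin 7 × Mat 7) := [
    (0, ![![0, 0, 1, 0, 0, 0, 0],
        ![1, 1, 1, 1, 0, 0, 0],
        ![0, 0, 0, 1, 0, 0, 0],
        ![-1, 0, -1, -1, 0, 0, 0],
        ![1, 0, 1, 1, 1, 0, 0],
        ![0, 0, 0, 0, 0, 1, 0],
        ![0, 0, 0, 0, 0, 0, 1]]),
    (2, ![![1, 0, 1, 0, 0, 0, 0],
        ![0, 1, 1, 1, 0, 0, 0],
        ![0, 0, 0, 1, 0, 0, 0],
        ![0, 0, -1, -1, 0, 0, 0],
        ![0, 0, 1, 1, 1, 0, 0],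
        ![0, 0, 0, 0, 0, 1, 0],
        ![0, 0, 0, 0, 0, 0, 1]]),
    (3, ![![1, 0, 0, 0, 0, 0, 0],
        ![0, 1, 0, 1, 0, 0, 0],
        ![0, 0, 1, 1, 0, 0, 0],
        ![0, 0, 0, -1, 0, 0, 0],
        ![0, 0, 0, 1, 1, 0, 0],
        ![0, 0, 0, 0, 0, 1, 0],
        ![0, 0, 0, 0, 0, 0, 1]])]

theorem chain4 : ChainOK Am L4 :=
  H129.ChainF.ok H129.ChainF.i7 H129.ChainF.m7 (H129.ChainF.c7 <| H129.ChainF.c7 <| H129.ChainF.c7 <| H129.ChainF.nil) (by decide +kernel)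

/-- the eigenvector, index 1 -/
def V4_1 : Fin (0 + 1) → Fin 7 → ℤ := ![![0, 0, 0, 0, 0, -1, 0]]

/-- the functional -/
def U4_1 : Fin 7 → ℤ := ![0, 0, 0, 0, 0, -1, 0]

theorem eig4_1 : EigOK (hd L4) c1 V4_1 U4_1 :=
  H493.EigF.ok (H493.EigF.hT H493.EigF.t7) H493.EigF.r1 (H493.EigF.mc H493.EigF.r7 <| H493.EigF.m0) H493.EigF.r7 (by decide +kernel)

/-- the eigenvector, index 2 -/
def V4_2 : Fin (0 + 1) → Fin 7 → ℤ := ![![1, 0, 0, 1, 0, 0, 0]]

/-- the functional -/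
def U4_2 : Fin 7 → ℤ := ![0, 0, 0, 1, 0, 0, 0]

theorem eig4_2 : EigOK (hd L4) c2 V4_2 U4_2 :=
  H493.EigF.ok (H493.EigF.hT H493.EigF.t7) H493.EigF.r1 (H493.EigF.mc H493.EigF.r7 <| H493.EigF.m0) H493.EigF.r7 (by decide +kernel)

/-- the eigenvector, index 4 -/
def V4_4 : Fin (1 + 1) → Fin 7 → ℤ := ![![0, 0, -1, -1, 0, 0, 0],
      ![-1, 0, -1, 0, 0, 0, 0]]

/-- the functional -/
def U4_4 : Fin 7 → ℤ := ![0, 0, 0, -1, 0, 0, 0]

theorem eig4_4 : EigOK (hd L4) c4 V4_4 U4_4 :=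
  H493.EigF.ok (H493.EigF.hT H493.EigF.t7) H493.EigF.r2 (H493.EigF.mc H493.EigF.r7 <| H493.EigF.mc H493.EigF.r7 <| H493.EigF.m0) H493.EigF.r7 (by decide +kernel)

/-! ### the torus `5` -/

/-- the partial products -/
def L5 : List (Fin 7 × Mat 7) := [
    (0, ![![0, 0, 1, 0, 0, 0, 0],
        ![1, 1, 1, 1, 0, 0, 0],
        ![0, 0, 0, 1, 0, 0, 0],
        ![0, 0, 0, 0, 1, 0, 0],
        ![-1, 0, -1, -1, -1, 0, 0],
        ![1, 0, 1, 1, 1, 1, 1],
        ![0, 0, 0, 0, 0, 0, -1]]),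
    (2, ![![1, 0, 1, 0, 0, 0, 0],
        ![0, 1, 1, 1, 0, 0, 0],
        ![0, 0, 0, 1, 0, 0, 0],
        ![0, 0, 0, 0, 1, 0, 0],
        ![0, 0, -1, -1, -1, 0, 0],
        ![0, 0, 1, 1, 1, 1, 1],
        ![0, 0, 0, 0, 0, 0, -1]]),
    (3, ![![1, 0, 0, 0, 0, 0, 0],
        ![0, 1, 0, 1, 0, 0, 0],
        ![0, 0, 1, 1, 0, 0, 0],
        ![0, 0, 0, 0, 1, 0, 0],
        ![0, 0, 0, -1, -1, 0, 0],
        ![0, 0, 0, 1, 1, 1, 1],
        ![0, 0, 0, 0, 0, 0, -1]]),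
    (4, ![![1, 0, 0, 0, 0, 0, 0],
        ![0, 1, 0, 0, 0, 0, 0],
        ![0, 0, 1, 0, 0, 0, 0],
        ![0, 0, 0, 1, 1, 0, 0],
        ![0, 0, 0, 0, -1, 0, 0],
        ![0, 0, 0, 0, 1, 1, 1],
        ![0, 0, 0, 0, 0, 0, -1]]),
    (6, ![![1, 0, 0, 0, 0, 0, 0],
        ![0, 1, 0, 0, 0, 0, 0],
        ![0, 0, 1, 0, 0, 0, 0],
        ![0, 0, 0, 1, 0, 0, 0],
        ![0, 0, 0, 0, 1, 0, 0],
        ![0, 0, 0, 0, 0, 1, 1],
        ![0, 0, 0, 0, 0, 0, -1]])]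

theorem chain5 : ChainOK Am L5 :=
  H129.ChainF.ok H129.ChainF.i7 H129.ChainF.m7 (H129.ChainF.c7 <| H129.ChainF.c7 <| H129.ChainF.c7 <| H129.ChainF.c7 <| H129.ChainF.c7 <| H129.ChainF.nil) (by decide +kernel)

/-- the eigenvector, index 1 -/
def V5_1 : Fin (0 + 1) → Fin 7 → ℤ := ![![2, 5, 4, 6, 3, 0, 0]]

/-- the functional -/
def U5_1 : Fin 7 → ℤ := ![-2, 1, 0, 0, 0, 0, 0]

theorem eig5_1 : EigOK (hd L5) c1 V5_1 U5_1 :=
  H493.EigF.ok (H493.EigF.hT H493.EigF.t7) H493.EigF.r1 (H493.EigF.mc H493.EigF.r7 <| H493.EigF.m0) H493.EigF.r7 (by decide +kernel)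

/-- the eigenvector, index 2 -/
def V5_2 : Fin (0 + 1) → Fin 7 → ℤ := ![![0, 0, 0, 0, 0, 0, 1]]

/-- the functional -/
def U5_2 : Fin 7 → ℤ := ![0, 0, 0, 0, 0, 0, 1]

theorem eig5_2 : EigOK (hd L5) c2 V5_2 U5_2 :=
  H493.EigF.ok (H493.EigF.hT H493.EigF.t7) H493.EigF.r1 (H493.EigF.mc H493.EigF.r7 <| H493.EigF.m0) H493.EigF.r7 (by decide +kernel)

/-- the eigenvector, index 5 -/
def V5_5 : Fin (3 + 1) → Fin 7 → ℤ := ![![0, 0, 0, 1, 0, 0, 0],
      ![0, 0, 1, 1, 0, 0, 0],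
      ![1, 0, 1, 1, 0, 0, 0],
      ![0, 0, 0, 0, -1, 0, 0]]

/-- the functional -/
def U5_5 : Fin 7 → ℤ := ![0, 0, -1, 1, 0, 0, 0]

theorem eig5_5 : EigOK (hd L5) c5 V5_5 U5_5 :=
  H493.EigF.ok (H493.EigF.hT H493.EigF.t7) H493.EigF.r4 (H493.EigF.mc H493.EigF.r7 <| H493.EigF.mc H493.EigF.r7 <| H493.EigF.mc H493.EigF.r7 <| H493.EigF.mc H493.EigF.r7 <| H493.EigF.m0) H493.EigF.r7 (by decide +kernel)

/-! ### the torus `6` -/

/-- the partial products -/
def L6 : List (Fin 7 × Mat 7) := [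
    (1, ![![1, 0, 1, 0, 0, 0, 0],
        ![0, 0, 1, 1, 0, 0, 0],
        ![0, 1, 0, 1, 0, 0, 0],
        ![0, 0, 0, 0, 1, 0, 0],
        ![0, -1, -1, -1, -1, 0, 0],
        ![0, 1, 1, 1, 1, 1, 0],
        ![0, 0, 0, 0, 0, 0, 1]]),
    (2, ![![1, 0, 1, 0, 0, 0, 0],
        ![0, 1, 1, 1, 0, 0, 0],
        ![0, 0, 0, 1, 0, 0, 0],
        ![0, 0, 0, 0, 1, 0, 0],
        ![0, 0, -1, -1, -1, 0, 0],
        ![0, 0, 1, 1, 1, 1, 0],
        ![0, 0, 0, 0, 0, 0, 1]]),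
    (3, ![![1, 0, 0, 0, 0, 0, 0],
        ![0, 1, 0, 1, 0, 0, 0],
        ![0, 0, 1, 1, 0, 0, 0],
        ![0, 0, 0, 0, 1, 0, 0],
        ![0, 0, 0, -1, -1, 0, 0],
        ![0, 0, 0, 1, 1, 1, 0],
        ![0, 0, 0, 0, 0, 0, 1]]),
    (4, ![![1, 0, 0, 0, 0, 0, 0],
        ![0, 1, 0, 0, 0, 0, 0],
        ![0, 0, 1, 0, 0, 0, 0],
        ![0, 0, 0, 1, 1, 0, 0],
        ![0, 0, 0, 0, -1, 0, 0],
        ![0, 0, 0, 0, 1, 1, 0],
        ![0, 0, 0, 0, 0, 0, 1]])]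

theorem chain6 : ChainOK Am L6 :=
  H129.ChainF.ok H129.ChainF.i7 H129.ChainF.m7 (H129.ChainF.c7 <| H129.ChainF.c7 <| H129.ChainF.c7 <| H129.ChainF.c7 <| H129.ChainF.nil) (by decide +kernel)

/-- the eigenvector, index 1 -/
def V6_1 : Fin (0 + 1) → Fin 7 → ℤ := ![![-4, -1, -3, -2, 0, 2, 0]]

/-- the functional -/
def U6_1 : Fin 7 → ℤ := ![0, 1, 0, 0, 0, 1, 0]

theorem eig6_1 : EigOK (hd L6) c1 V6_1 U6_1 :=
  H493.EigF.ok (H493.EigF.hT H493.EigF.t7) H493.EigF.r1 (H493.EigF.mc H493.EigF.r7 <| H493.EigF.m0) H493.EigF.r7 (by decide +kernel)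

/-- the eigenvector, index 2 -/
def V6_2 : Fin (0 + 1) → Fin 7 → ℤ := ![![0, -1, 1, 0, 0, 0, 0]]

/-- the functional -/
def U6_2 : Fin 7 → ℤ := ![0, 0, 1, 0, 0, 0, 0]

theorem eig6_2 : EigOK (hd L6) c2 V6_2 U6_2 :=
  H493.EigF.ok (H493.EigF.hT H493.EigF.t7) H493.EigF.r1 (H493.EigF.mc H493.EigF.r7 <| H493.EigF.m0) H493.EigF.r7 (by decide +kernel)

/-- the eigenvector, index 6 -/
def V6_6 : Fin (1 + 1) → Fin 7 → ℤ := ![![0, 0, 0, -1, -1, 0, 0],
      ![0, -1, -1, -1, 0, 0, 0]]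

/-- the functional -/
def U6_6 : Fin 7 → ℤ := ![0, 0, 0, 0, -1, 0, 0]

theorem eig6_6 : EigOK (hd L6) c6 V6_6 U6_6 :=
  H493.EigF.ok (H493.EigF.hT H493.EigF.t7) H493.EigF.r2 (H493.EigF.mc H493.EigF.r7 <| H493.EigF.mc H493.EigF.r7 <| H493.EigF.m0) H493.EigF.r7 (by decide +kernel)

/-! ### the torus `8` -/

/-- the partial products -/
def L8 : List (Fin 7 × Mat 7) := [
    (2, ![![-1, 0, -1, 0, 0, 0, 0],
        ![0, -1, -1, -1, 0, 0, 0],
        ![1, 0, 1, 1, 0, 0, 0],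
        ![0, 1, 1, 1, 1, 0, 0],
        ![0, 0, -1, -1, -1, 0, 0],
        ![0, 0, 1, 1, 1, 1, 0],
        ![0, 0, 0, 0, 0, 0, 1]]),
    (3, ![![-1, 0, 0, 0, 0, 0, 0],
        ![0, -1, 0, -1, 0, 0, 0],
        ![1, 0, 1, 1, 0, 0, 0],
        ![0, 1, 0, 1, 1, 0, 0],
        ![0, 0, 0, -1, -1, 0, 0],
        ![0, 0, 0, 1, 1, 1, 0],
        ![0, 0, 0, 0, 0, 0, 1]]),
    (1, ![![-1, 0, 0, 0, 0, 0, 0],
        ![0, -1, 0, 0, 0, 0, 0],
        ![1, 0, 1, 0, 0, 0, 0],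
        ![0, 1, 0, 1, 1, 0, 0],
        ![0, 0, 0, 0, -1, 0, 0],
        ![0, 0, 0, 0, 1, 1, 0],
        ![0, 0, 0, 0, 0, 0, 1]]),
    (0, ![![-1, 0, 0, 0, 0, 0, 0],
        ![0, 1, 0, 0, 0, 0, 0],
        ![1, 0, 1, 0, 0, 0, 0],
        ![0, 0, 0, 1, 1, 0, 0],
        ![0, 0, 0, 0, -1, 0, 0],
        ![0, 0, 0, 0, 1, 1, 0],
        ![0, 0, 0, 0, 0, 0, 1]]),
    (4, ![![1, 0, 0, 0, 0, 0, 0],
        ![0, 1, 0, 0, 0, 0, 0],
        ![0, 0, 1, 0, 0, 0, 0],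
        ![0, 0, 0, 1, 1, 0, 0],
        ![0, 0, 0, 0, -1, 0, 0],
        ![0, 0, 0, 0, 1, 1, 0],
        ![0, 0, 0, 0, 0, 0, 1]])]

theorem chain8 : ChainOK Am L8 :=
  H129.ChainF.ok H129.ChainF.i7 H129.ChainF.m7 (H129.ChainF.c7 <| H129.ChainF.c7 <| H129.ChainF.c7 <| H129.ChainF.c7 <| H129.ChainF.c7 <| H129.ChainF.nil) (by decide +kernel)

/-- the eigenvector, index 1 -/
def V8_1 : Fin (0 + 1) → Fin 7 → ℤ := ![![2, 3, 4, 6, 5, 4, 0]]

/-- the functional -/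
def U8_1 : Fin 7 → ℤ := ![-1, 1, 0, 0, 0, 0, 0]

theorem eig8_1 : EigOK (hd L8) c1 V8_1 U8_1 :=
  H493.EigF.ok (H493.EigF.hT H493.EigF.t7) H493.EigF.r1 (H493.EigF.mc H493.EigF.r7 <| H493.EigF.m0) H493.EigF.r7 (by decide +kernel)

/-- the eigenvector, index 2 -/
def V8_2 : Fin (0 + 1) → Fin 7 → ℤ := ![![0, 1, 0, 0, -1, 0, 0]]

/-- the functional -/
def U8_2 : Fin 7 → ℤ := ![0, 0, 0, 0, -1, 0, 0]

theorem eig8_2 : EigOK (hd L8) c2 V8_2 U8_2 :=
  H493.EigF.ok (H493.EigF.hT H493.EigF.t7) H493.EigF.r1 (H493.EigF.mc H493.EigF.r7 <| H493.EigF.m0) H493.EigF.r7 (by decide +kernel)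

/-- the eigenvector, index 8 -/
def V8_8 : Fin (3 + 1) → Fin 7 → ℤ := ![![0, 1, 1, 1, 1, 0, 0],
      ![0, 0, 0, 1, 0, 0, 0],
      ![1, 0, 1, 0, 0, 0, 0],
      ![-1, 0, 0, 0, 0, 0, 0]]

/-- the functional -/
def U8_8 : Fin 7 → ℤ := ![0, 0, 0, 0, 1, 0, 0]

theorem eig8_8 : EigOK (hd L8) c8 V8_8 U8_8 :=
  H493.EigF.ok (H493.EigF.hT H493.EigF.t7) H493.EigF.r4 (H493.EigF.mc H493.EigF.r7 <| H493.EigF.mc H493.EigF.r7 <| H493.EigF.mc H493.EigF.r7 <| H493.EigF.mc H493.EigF.r7 <| H493.EigF.m0) H493.EigF.r7 (by decide +kernel)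

/-! ### the torus `10` -/

/-- the partial products -/
def L10 : List (Fin 7 × Mat 7) := [
    (6, ![![1, 0, 1, 0, 0, 0, 0],
        ![0, 0, 1, 1, 1, 0, 0],
        ![0, 1, 0, 1, 1, 0, 0],
        ![0, -1, -1, -1, -1, 0, 0],
        ![0, 1, 1, 1, 1, 1, 1],
        ![0, 0, 0, 0, -1, -1, -1],
        ![0, 0, 0, 0, 1, 1, 0]]),
    (2, ![![1, 0, 1, 0, 0, 0, 0],
        ![0, 0, 1, 1, 1, 0, 0],
        ![0, 1, 0, 1, 1, 0, 0],
        ![0, -1, -1, -1, -1, 0, 0],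
        ![0, 1, 1, 1, 1, 1, 0],
        ![0, 0, 0, 0, -1, -1, 0],
        ![0, 0, 0, 0, 1, 1, 1]]),
    (1, ![![1, 0, 0, 0, 0, 0, 0],
        ![0, 0, 0, 1, 1, 0, 0],
        ![0, 1, 1, 1, 1, 0, 0],
        ![0, -1, 0, -1, -1, 0, 0],
        ![0, 1, 0, 1, 1, 1, 0],
        ![0, 0, 0, 0, -1, -1, 0],
        ![0, 0, 0, 0, 1, 1, 1]]),
    (4, ![![1, 0, 0, 0, 0, 0, 0],
        ![0, 1, 0, 1, 1, 0, 0],
        ![0, 0, 1, 1, 1, 0, 0],
        ![0, 0, 0, -1, -1, 0, 0],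
        ![0, 0, 0, 1, 1, 1, 0],
        ![0, 0, 0, 0, -1, -1, 0],
        ![0, 0, 0, 0, 1, 1, 1]]),
    (3, ![![1, 0, 0, 0, 0, 0, 0],
        ![0, 1, 0, 1, 0, 0, 0],
        ![0, 0, 1, 1, 0, 0, 0],
        ![0, 0, 0, -1, 0, 0, 0],
        ![0, 0, 0, 1, 1, 1, 0],
        ![0, 0, 0, 0, 0, -1, 0],
        ![0, 0, 0, 0, 0, 1, 1]]),
    (5, ![![1, 0, 0, 0, 0, 0, 0],
        ![0, 1, 0, 0, 0, 0, 0],
        ![0, 0, 1, 0, 0, 0, 0],
        ![0, 0, 0, 1, 0, 0, 0],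
        ![0, 0, 0, 0, 1, 1, 0],
        ![0, 0, 0, 0, 0, -1, 0],
        ![0, 0, 0, 0, 0, 1, 1]])]

theorem chain10 : ChainOK Am L10 :=
  H129.ChainF.ok H129.ChainF.i7 H129.ChainF.m7 (H129.ChainF.c7 <| H129.ChainF.c7 <| H129.ChainF.c7 <| H129.ChainF.c7 <| H129.ChainF.c7 <| H129.ChainF.c7 <| H129.ChainF.nil) (by decide +kernel)

/-- the eigenvector, index 1 -/
def V10_1 : Fin (0 + 1) → Fin 7 → ℤ := ![![-2, -2, -3, -4, -3, -2, -1]]

/-- the functional -/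
def U10_1 : Fin 7 → ℤ := ![0, 0, 0, 0, 0, 0, -1]

theorem eig10_1 : EigOK (hd L10) c1 V10_1 U10_1 :=
  H493.EigF.ok (H493.EigF.hT H493.EigF.t7) H493.EigF.r1 (H493.EigF.mc H493.EigF.r7 <| H493.EigF.m0) H493.EigF.r7 (by decide +kernel)

/-- the eigenvector, index 2 -/
def V10_2 : Fin (0 + 1) → Fin 7 → ℤ := ![![0, -1, 1, 0, 0, 0, 0]]

/-- the functional -/
def U10_2 : Fin 7 → ℤ := ![0, 0, 1, 0, 0, 0, 0]

theorem eig10_2 : EigOK (hd L10) c2 V10_2 U10_2 :=
  H493.EigF.ok (H493.EigF.hT H493.EigF.t7) H493.EigF.r1 (H493.EigF.mc H493.EigF.r7 <| H493.EigF.m0) H493.EigF.r7 (by decide +kernel)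

/-- the eigenvector, index 10 -/
def V10_10 : Fin (3 + 1) → Fin 7 → ℤ := ![![0, 0, 0, 1, 1, 1, 1],
      ![0, 1, 1, 1, 0, -1, -1],
      ![0, 0, 0, 0, 1, 2, 1],
      ![0, 0, 0, 0, 0, -1, 0]]

/-- the functional -/
def U10_10 : Fin 7 → ℤ := ![0, -1, 0, 1, 0, 0, 0]

theorem eig10_10 : EigOK (hd L10) c10 V10_10 U10_10 :=
  H493.EigF.ok (H493.EigF.hT H493.EigF.t7) H493.EigF.r4 (H493.EigF.mc H493.EigF.r7 <| H493.EigF.mc H493.EigF.r7 <| H493.EigF.mc H493.EigF.r7 <| H493.EigF.mc H493.EigF.r7 <| H493.EigF.m0) H493.EigF.r7 (by decide +kernel)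

/-! ### the torus `m12` -/

/-- the partial products -/
def Lm12 : List (Fin 7 × Mat 7) := [
    (0, ![![0, 0, 1, 1, 0, 0, 0],
        ![0, -1, 0, -1, 0, 0, 0],
        ![-1, 0, -1, -1, 0, 0, 0],
        ![1, 1, 1, 2, 1, 0, 0],
        ![0, 0, 0, 0, 0, 1, 0],
        ![0, 0, 0, -1, -1, -1, 0],
        ![0, 0, 0, 1, 1, 1, 1]]),
    (3, ![![1, 0, 1, 1, 0, 0, 0],
        ![0, -1, 0, -1, 0, 0, 0],
        ![0, 0, -1, -1, 0, 0, 0],
        ![0, 1, 1, 2, 1, 0, 0],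
        ![0, 0, 0, 0, 0, 1, 0],
        ![0, 0, 0, -1, -1, -1, 0],
        ![0, 0, 0, 1, 1, 1, 1]]),
    (4, ![![1, 0, 1, 0, 0, 0, 0],
        ![0, -1, 0, 0, 0, 0, 0],
        ![0, 0, -1, 0, 0, 0, 0],
        ![0, 1, 1, 1, 1, 0, 0],
        ![0, 0, 0, 0, 0, 1, 0],
        ![0, 0, 0, 0, -1, -1, 0],
        ![0, 0, 0, 0, 1, 1, 1]]),
    (5, ![![1, 0, 1, 0, 0, 0, 0],
        ![0, -1, 0, 0, 0, 0, 0],
        ![0, 0, -1, 0, 0, 0, 0],
        ![0, 1, 1, 1, 0, 0, 0],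
        ![0, 0, 0, 0, 1, 1, 0],
        ![0, 0, 0, 0, 0, -1, 0],
        ![0, 0, 0, 0, 0, 1, 1]]),
    (1, ![![1, 0, 1, 0, 0, 0, 0],
        ![0, -1, 0, 0, 0, 0, 0],
        ![0, 0, -1, 0, 0, 0, 0],
        ![0, 1, 1, 1, 0, 0, 0],
        ![0, 0, 0, 0, 1, 0, 0],
        ![0, 0, 0, 0, 0, 1, 0],
        ![0, 0, 0, 0, 0, 0, 1]]),
    (2, ![![1, 0, 1, 0, 0, 0, 0],
        ![0, 1, 0, 0, 0, 0, 0],
        ![0, 0, -1, 0, 0, 0, 0],
        ![0, 0, 1, 1, 0, 0, 0],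
        ![0, 0, 0, 0, 1, 0, 0],
        ![0, 0, 0, 0, 0, 1, 0],
        ![0, 0, 0, 0, 0, 0, 1]])]

theorem chainm12 : ChainOK Am Lm12 :=
  H129.ChainF.ok H129.ChainF.i7 H129.ChainF.m7 (H129.ChainF.c7 <| H129.ChainF.c7 <| H129.ChainF.c7 <| H129.ChainF.c7 <| H129.ChainF.c7 <| H129.ChainF.c7 <| H129.ChainF.nil) (by decide +kernel)

/-- the eigenvector, index 1 -/
def Vm12_1 : Fin (0 + 1) → Fin 7 → ℤ := ![![-2, -3, -4, -6, -5, -4, -3]]

/-- the functional -/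
def Um12_1 : Fin 7 → ℤ := ![1, -1, 0, 0, 0, 0, 0]

theorem eigm12_1 : EigOK (hd Lm12) c1 Vm12_1 Um12_1 :=
  H493.EigF.ok (H493.EigF.hT H493.EigF.t7) H493.EigF.r1 (H493.EigF.mc H493.EigF.r7 <| H493.EigF.m0) H493.EigF.r7 (by decide +kernel)

/-- the eigenvector, index 12 -/
def Vm12_12 : Fin (3 + 1) → Fin 7 → ℤ := ![![0, 0, 1, 1, 1, 1, 0],
      ![1, 1, 1, 1, 1, 0, 0],
      ![0, 1, 0, 1, 0, 0, 0],
      ![0, -1, 0, 0, 0, 0, 0]]

/-- the functional -/
def Um12_12 : Fin 7 → ℤ := ![0, 0, 0, 0, 0, 1, 0]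

theorem eigm12_12 : EigOK (hd Lm12) c12 Vm12_12 Um12_12 :=
  H493.EigF.ok (H493.EigF.hT H493.EigF.t7) H493.EigF.r4 (H493.EigF.mc H493.EigF.r7 <| H493.EigF.mc H493.EigF.r7 <| H493.EigF.mc H493.EigF.r7 <| H493.EigF.mc H493.EigF.r7 <| H493.EigF.m0) H493.EigF.r7 (by decide +kernel)

/-! ### the torus `p12` -/

/-- the partial products -/
def Lp12 : List (Fin 7 × Mat 7) := [
    (6, ![![0, 1, 1, 1, 0, 0, 0],
        ![1, 1, 1, 1, 1, 0, 0],
        ![0, 0, 0, 1, 1, 0, 0],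
        ![0, 0, 0, 0, 0, 1, 1],
        ![0, -1, 0, -1, -1, -1, -1],
        ![-1, 0, -1, -1, 0, 0, 0],
        ![1, 1, 1, 2, 1, 1, 0]]),
    (0, ![![0, 1, 1, 1, 0, 0, 0],
        ![1, 1, 1, 1, 1, 0, 0],
        ![0, 0, 0, 1, 1, 0, 0],
        ![0, 0, 0, 0, 0, 1, 0],
        ![0, -1, 0, -1, -1, -1, 0],
        ![-1, 0, -1, -1, 0, 0, 0],
        ![1, 1, 1, 2, 1, 1, 1]]),
    (5, ![![1, 1, 1, 1, 0, 0, 0],
        ![0, 1, 1, 1, 1, 0, 0],
        ![0, 0, 0, 1, 1, 0, 0],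
        ![0, 0, 0, 0, 0, 1, 0],
        ![0, -1, 0, -1, -1, -1, 0],
        ![0, 0, -1, -1, 0, 0, 0],
        ![0, 1, 1, 2, 1, 1, 1]]),
    (3, ![![1, 1, 1, 1, 0, 0, 0],
        ![0, 1, 1, 1, 1, 1, 0],
        ![0, 0, 0, 1, 1, 1, 0],
        ![0, 0, 0, 0, 0, -1, 0],
        ![0, -1, 0, -1, -1, 0, 0],
        ![0, 0, -1, -1, 0, 0, 0],
        ![0, 1, 1, 2, 1, 1, 1]]),
    (5, ![![1, 1, 1, 1, 0, 0, 0],
        ![0, 1, 1, 2, 1, 1, 0],
        ![0, 0, 0, 0, 1, 1, 0],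
        ![0, 0, 0, 0, 0, -1, 0],
        ![0, -1, 0, -1, -1, 0, 0],
        ![0, 0, -1, 0, 0, 0, 0],
        ![0, 1, 1, 1, 1, 1, 1]]),
    (1, ![![1, 1, 1, 1, 0, 0, 0],
        ![0, 1, 1, 2, 1, 0, 0],
        ![0, 0, 0, 0, 1, 0, 0],
        ![0, 0, 0, 0, 0, 1, 0],
        ![0, -1, 0, -1, -1, -1, 0],
        ![0, 0, -1, 0, 0, 0, 0],
        ![0, 1, 1, 1, 1, 1, 1]]),
    (2, ![![1, 0, 1, 1, 0, 0, 0],
        ![0, 1, 1, 2, 1, 0, 0],
        ![0, 0, 0, 0, 1, 0, 0],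
        ![0, 0, 0, 0, 0, 1, 0],
        ![0, 0, 0, -1, -1, -1, 0],
        ![0, 0, -1, 0, 0, 0, 0],
        ![0, 0, 1, 1, 1, 1, 1]]),
    (3, ![![1, 0, 1, 1, 0, 0, 0],
        ![0, 1, 1, 2, 1, 0, 0],
        ![0, 0, 0, 0, 1, 0, 0],
        ![0, 0, 0, 0, 0, 1, 0],
        ![0, 0, -1, -1, -1, -1, 0],
        ![0, 0, 1, 0, 0, 0, 0],
        ![0, 0, 0, 1, 1, 1, 1]]),
    (4, ![![1, 0, 1, 0, 0, 0, 0],
        ![0, 1, 1, 1, 1, 0, 0],
        ![0, 0, 0, 1, 1, 0, 0],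
        ![0, 0, 0, 0, 0, 1, 0],
        ![0, 0, -1, -1, -1, -1, 0],
        ![0, 0, 1, 1, 0, 0, 0],
        ![0, 0, 0, 0, 1, 1, 1]]),
    (2, ![![1, 0, 1, 0, 0, 0, 0],
        ![0, 1, 1, 1, 0, 0, 0],
        ![0, 0, 0, 1, 0, 0, 0],
        ![0, 0, 0, 0, 1, 1, 0],
        ![0, 0, -1, -1, -1, -1, 0],
        ![0, 0, 1, 1, 1, 0, 0],
        ![0, 0, 0, 0, 0, 1, 1]]),
    (3, ![![1, 0, 0, 0, 0, 0, 0],
        ![0, 1, 0, 1, 0, 0, 0],
        ![0, 0, 1, 1, 0, 0, 0],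
        ![0, 0, 0, 0, 1, 1, 0],
        ![0, 0, 0, -1, -1, -1, 0],
        ![0, 0, 0, 1, 1, 0, 0],
        ![0, 0, 0, 0, 0, 1, 1]]),
    (5, ![![1, 0, 0, 0, 0, 0, 0],
        ![0, 1, 0, 0, 0, 0, 0],
        ![0, 0, 1, 0, 0, 0, 0],
        ![0, 0, 0, 1, 1, 1, 0],
        ![0, 0, 0, 0, -1, -1, 0],
        ![0, 0, 0, 0, 1, 0, 0],
        ![0, 0, 0, 0, 0, 1, 1]]),
    (4, ![![1, 0, 0, 0, 0, 0, 0],
        ![0, 1, 0, 0, 0, 0, 0],
        ![0, 0, 1, 0, 0, 0, 0],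
        ![0, 0, 0, 1, 1, 0, 0],
        ![0, 0, 0, 0, -1, 0, 0],
        ![0, 0, 0, 0, 1, 1, 0],
        ![0, 0, 0, 0, 0, 0, 1]])]

theorem chainp12 : ChainOK Am Lp12 :=
  H129.ChainF.ok H129.ChainF.i7 H129.ChainF.m7 (H129.ChainF.c7 <| H129.ChainF.c7 <| H129.ChainF.c7 <| H129.ChainF.c7 <| H129.ChainF.c7 <| H129.ChainF.c7 <| H129.ChainF.c7 <| H129.ChainF.c7 <| H129.ChainF.c7 <| H129.ChainF.c7 <| H129.ChainF.c7 <| H129.ChainF.c7 <| H129.ChainF.c7 <| H129.ChainF.nil) (by decide +kernel)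

/-- the eigenvector, index 2 -/
def Vp12_2 : Fin (0 + 1) → Fin 7 → ℤ := ![![0, 1, 0, 2, 1, 0, -1]]

/-- the functional -/
def Up12_2 : Fin 7 → ℤ := ![0, 0, 0, 0, 0, 0, -1]

theorem eigp12_2 : EigOK (hd Lp12) c2 Vp12_2 Up12_2 :=
  H493.EigF.ok (H493.EigF.hT H493.EigF.t7) H493.EigF.r1 (H493.EigF.mc H493.EigF.r7 <| H493.EigF.m0) H493.EigF.r7 (by decide +kernel)

/-- the eigenvector, index 12 -/
def Vp12_12 : Fin (3 + 1) → Fin 7 → ℤ := ![![1, 0, 0, 0, 0, 0, 0],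
      ![-1, 0, -1, -1, -1, -1, 0],
      ![-1, -1, -1, -2, -2, -1, -1],
      ![0, -1, -1, -1, 0, 0, 0]]

/-- the functional -/
def Up12_12 : Fin 7 → ℤ := ![1, 1, -1, 0, 0, 0, -1]

theorem eigp12_12 : EigOK (hd Lp12) c12 Vp12_12 Up12_12 :=
  H493.EigF.ok (H493.EigF.hT H493.EigF.t7) H493.EigF.r4 (H493.EigF.mc H493.EigF.r7 <| H493.EigF.mc H493.EigF.r7 <| H493.EigF.mc H493.EigF.r7 <| H493.EigF.mc H493.EigF.r7 <| H493.EigF.m0) H493.EigF.r7 (by decide +kernel)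

end Cfsg.Agent.H334.E7.Tab
end

-- part: H334/E7/Facts
section
/-!
# `E₇(u)`: element orders used in S3482, row R9 (helper334)

* `UFacts S u` : the facts;
* `ufacts` : `UFacts (chevE7.group F) |F|`.
-/

set_option autoImplicit false
set_option linter.unusedSectionVars false

namespace Cfsg.Agent.H334.E7.Facts

open CoxeterSystem Subgroup Cfsg Cfsg.Lie Cfsg.Lie.ChevalleyDatum
open Cfsg.Agent.ChevalleyStructure.CoxeterGeomTypes Cfsg.Agent.Nodes.RGDChev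
open Cfsg.Agent.BpExc.RowsUntw Cfsg.Agent.BpExc.FamInst
open Cfsg.Agent.H378 Cfsg.Agent.H378.SmallTor Cfsg.Agent.H378.AdjTab Cfsg.Agent.H378.CycTab Cfsg.Agent.H378.ExcAdj
open Cfsg.Agent.H129.WData Cfsg.Agent.H493.PGTorus
open Cfsg.Agent.H436 Cfsg.Agent.H962.E7
open Cfsg.Agent.H334.E7.Tab

universe u

/-- what is used of `S = E₇(u)` -/
structure UFacts (S : Type*) [Group S] (u : ℕ) : Prop where
  tor : Tor S u
  elt : ∀ i ∈ C4, ∃ x : S, orderOf x = TT u i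
  adj : ∀ r : ℕ, r.Prime → 8 < r → r ∣ Nat.card S → (∃ i ∈ C4, Prim u i r) ∨
    ((∃ x : S, r ∣ orderOf x ∧ (u - 1) / Nat.gcd 2 (u - 1) ∣ orderOf x) ∧
      ∃ x : S, r ∣ orderOf x ∧ (u + 1) / Nat.gcd 2 (u - 1) ∣ orderOf x)

/-! ### tori -/

theorem div_gcd {g a b : ℕ} (h : a ∣ b * g) (hg : g ∣ a) (hg0 : 0 < g) : a / g ∣ b := by
  obtain ⟨c, rfl⟩ := hg
  rw [Nat.mul_div_cancel_left _ hg0]
  rw [mul_comm b] at h
  exact Nat.dvd_of_mul_dvd_mul_left hg0 h

theorem prime_dvd {r n q : ℕ} (hr : r.Prime) (h2 : r ≠ 2) (h : r ∣ n * Nat.gcd 2 (q - 1)) : r ∣ n := by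
  rcases hr.dvd_mul.1 h with h1 | h1
  · exact h1
  · exact absurd ((Nat.prime_dvd_prime_iff_eq hr Nat.prime_two).1 (h1.trans (Nat.gcd_dvd_left _ _))) h2

section

variable (F : Type u) [Field F] [Fintype F]

/-- two commuting elements of a torus -/
theorem two_row {L : List (Fin 7 × Mat 7)} (hL : ChainOK AdjE7.Am L)
    {f : ℕ} {c : Fin (f + 1) → ℤ} {V : Fin (f + 1) → Fin 7 → ℤ} {U : Fin 7 → ℤ} (h : EigOK (hd L) c V U)
    {f' : ℕ} {c' : Fin (f' + 1) → ℤ} {V' : Fin (f' + 1) → Fin 7 → ℤ} {U' : Fin 7 → ℤ} (h' : EigOK (hd L) c' V' U')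
    {m m' : ℕ} (hm : 0 < m) (hm' : 0 < m') (hdv : (m : ℤ) ∣ pv c (Fintype.card F : ℕ))
    (hdv' : (m' : ℤ) ∣ pv c' (Fintype.card F : ℕ)) :
    ∃ z : ↥(chevE7.group F), m ∣ orderOf z * Nat.gcd 2 (Fintype.card F - 1) ∧
      m' ∣ orderOf z * Nat.gcd 2 (Fintype.card F - 1) := by
  let cs : CoxeterSystem CoxeterMatrix.E₇ CoxeterMatrix.E₇.Group := CoxeterMatrix.E₇.toCoxeterSystem
  have := finite_W e7T cs
  rw [← Nat.card_eq_fintype_card] at hdv hdv' ⊢
  obtain ⟨x, y, hxy, h1, h2⟩ := exists_comm_torus e7T cs inv_E7 two_ne_zero AdjE7.hA hL h h' hm hm' hdv hdv'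
  obtain ⟨z, -, hz⟩ := hxy.exists_orderOf_eq_lcm
  refine ⟨z, h1.trans (Nat.mul_dvd_mul_right ?_ _), h2.trans (Nat.mul_dvd_mul_right ?_ _)⟩
  · rw [hz]; exact Nat.dvd_lcm_left _ _
  · rw [hz]; exact Nat.dvd_lcm_right _ _

theorem card_two : 2 ≤ Fintype.card F := Fintype.one_lt_card

theorem gcd_dvd_add : Nat.gcd 2 (Fintype.card F - 1) ∣ Fintype.card F + 1 := by
  have h2 := card_two F
  have h1 : Fintype.card F + 1 = (Fintype.card F - 1) + 2 := by omega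
  rw [h1]
  exact dvd_add (Nat.gcd_dvd_right _ _) (Nat.gcd_dvd_left _ _)

theorem c1_dvd : (((Fintype.card F - 1 : ℕ) : ℕ) : ℤ) ∣ pv c1 (Fintype.card F : ℕ) := by
  have h2 := card_two F
  rw [pv1, Nat.cast_sub (by omega), Nat.cast_one]

theorem c2_dvd : (((Fintype.card F + 1 : ℕ) : ℕ) : ℤ) ∣ pv c2 (Fintype.card F : ℕ) := by
  rw [pv2, Nat.cast_add, Nat.cast_one]

theorem gcd_pos' : 0 < Nat.gcd 2 (Fintype.card F - 1) := Nat.gcd_pos_of_pos_left _ (by norm_num)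

theorem row_minus {L : List (Fin 7 × Mat 7)} (hL : ChainOK AdjE7.Am L)
    {f : ℕ} {c : Fin (f + 1) → ℤ} {V : Fin (f + 1) → Fin 7 → ℤ} {U : Fin 7 → ℤ} (h : EigOK (hd L) c V U)
    {V' : Fin (0 + 1) → Fin 7 → ℤ} {U' : Fin 7 → ℤ} (h' : EigOK (hd L) c1 V' U')
    {r : ℕ} (hr : r.Prime) (h2 : r ≠ 2) (hdv : (r : ℤ) ∣ pv c (Fintype.card F : ℕ)) :
    ∃ x : ↥(chevE7.group F), r ∣ orderOf x ∧ (Fintype.card F - 1) / Nat.gcd 2 (Fintype.card F - 1) ∣ orderOf x := by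
  have h3 := card_two F
  obtain ⟨z, h4, h5⟩ := two_row F hL h h' hr.pos (show 0 < Fintype.card F - 1 by omega) hdv (c1_dvd F)
  exact ⟨z, prime_dvd hr h2 h4, div_gcd h5 (Nat.gcd_dvd_right _ _) (gcd_pos' F)⟩

theorem row_plus {L : List (Fin 7 × Mat 7)} (hL : ChainOK AdjE7.Am L)
    {f : ℕ} {c : Fin (f + 1) → ℤ} {V : Fin (f + 1) → Fin 7 → ℤ} {U : Fin 7 → ℤ} (h : EigOK (hd L) c V U)
    {V' : Fin (0 + 1) → Fin 7 → ℤ} {U' : Fin 7 → ℤ} (h' : EigOK (hd L) c2 V' U')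
    {r : ℕ} (hr : r.Prime) (h2 : r ≠ 2) (hdv : (r : ℤ) ∣ pv c (Fintype.card F : ℕ)) :
    ∃ x : ↥(chevE7.group F), r ∣ orderOf x ∧ (Fintype.card F + 1) / Nat.gcd 2 (Fintype.card F - 1) ∣ orderOf x := by
  have h3 := card_two F
  obtain ⟨z, h4, h5⟩ := two_row F hL h h' hr.pos (show 0 < Fintype.card F + 1 by omega) hdv (c2_dvd F)
  exact ⟨z, prime_dvd hr h2 h4, div_gcd h5 (gcd_dvd_add F) (gcd_pos' F)⟩

/-- primes dividing `u ^ 2 - 1` -/
theorem row_small {r : ℕ} (hr : r.Prime) (h2 : r ≠ 2) (hd : r ∣ Fintype.card F - 1 ∨ r ∣ Fintype.card F + 1) :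
    (∃ x : ↥(chevE7.group F), r ∣ orderOf x ∧ (Fintype.card F - 1) / Nat.gcd 2 (Fintype.card F - 1) ∣ orderOf x) ∧
    ∃ x : ↥(chevE7.group F), r ∣ orderOf x ∧ (Fintype.card F + 1) / Nat.gcd 2 (Fintype.card F - 1) ∣ orderOf x := by
  have h3 := card_two F
  obtain ⟨z, h4, h5⟩ := two_row F chain12 eig12_1 eig12_2 (show 0 < Fintype.card F - 1 by omega)
    (show 0 < Fintype.card F + 1 by omega) (c1_dvd F) (c2_dvd F)
  have h6 : r ∣ orderOf z := by
    rcases hd with hd | hd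
    · exact prime_dvd hr h2 (hd.trans h4)
    · exact prime_dvd hr h2 (hd.trans h5)
  exact ⟨⟨z, h6, div_gcd h4 (Nat.gcd_dvd_right _ _) (gcd_pos' F)⟩, z, h6, div_gcd h5 (gcd_dvd_add F) (gcd_pos' F)⟩

end

/-! ### the characteristic -/

section

open Cfsg.Agent.H92.ExcSL2 Cfsg.Agent.ChevalleyStructure.SL2Hom

variable (F : Type) [Field F] [Fintype F]

theorem inListE7 : Cfsg.Agent.ChevalleyStructure.Elts.InList chevE7 := e7T.inList

theorem orth01 : Orth4 chevE7 0 33 = true := by decide +kernel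

theorem lt0 : 0 < chevE7.nroots := by decide +kernel

theorem lt1 : 33 < chevE7.nroots := by decide +kernel

theorem char_row {p : ℕ} [Fact p.Prime] [CharP F p] (h2 : p ≠ 2) {n : ℕ}
    (hn : ∃ g : Matrix.ProjectiveSpecialLinearGroup (Fin 2) F, orderOf g = n) :
    ∃ x : ↥(chevE7.group F), p ∣ orderOf x ∧ n ∣ orderOf x := by
  have hpp : p.Prime := Fact.out
  obtain ⟨g, hg⟩ := hn
  obtain ⟨a, ha⟩ := QuotientGroup.mk_surjective g
  set x := ph (F := F) inListE7 lt0 (up (1 : F)) with hx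
  set y := ph (F := F) inListE7 lt1 a with hy
  have hxo : orderOf x = p := by
    rw [hx, orderOf_ph inListE7 lt0 _ (by rw [orderOf_up p]; exact hpp.odd_of_ne_two h2), orderOf_up p]
  have hc : Commute x y := ph_commute inListE7 lt0 lt1 orth01 _ _
  have hyo : n ∣ orderOf y := by
    rw [← hg]
    apply orderOf_dvd_of_pow_eq_one
    have h3 : ph (F := F) inListE7 lt1 (a ^ orderOf y) = 1 := by
      rw [map_pow, ← hy, pow_orderOf_eq_one]
    rw [← ha]
    have h5 : (QuotientGroup.mk a : Matrix.ProjectiveSpecialLinearGroup (Fin 2) F) ^ orderOf y =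
      QuotientGroup.mk (a ^ orderOf y) := rfl
    rw [h5]
    rcases ph_eq_one inListE7 lt1 h3 with h6 | h6
    · rw [h6]; rfl
    · rw [h6]
      rw [QuotientGroup.eq_one_iff, Subgroup.mem_center_iff]
      intro b
      apply Subtype.ext
      simp
  obtain ⟨z, -, hz⟩ := hc.exists_orderOf_eq_lcm
  refine ⟨z, ?_, ?_⟩
  · rw [hz, ← hxo]; exact Nat.dvd_lcm_left _ _
  · rw [hz]; exact hyo.trans (Nat.dvd_lcm_right _ _)

theorem char_adj {p : ℕ} [Fact p.Prime] [CharP F p] (h8 : 8 < p) :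
    (∃ x : ↥(chevE7.group F), p ∣ orderOf x ∧ (Fintype.card F - 1) / Nat.gcd 2 (Fintype.card F - 1) ∣ orderOf x) ∧
    ∃ x : ↥(chevE7.group F), p ∣ orderOf x ∧ (Fintype.card F + 1) / Nat.gcd 2 (Fintype.card F - 1) ∣ orderOf x := by
  have h4 : 4 ≤ Fintype.card F := by
    obtain ⟨n, hp, hn⟩ := FiniteField.card F p
    rw [hn]
    calc 4 ≤ p := by omega
      _ = p ^ 1 := (pow_one p).symm
      _ ≤ p ^ (n : ℕ) := Nat.pow_le_pow_right (by omega) n.2
  have h := Cfsg.Agent.S2475.result (F := F) p h4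
  have key : ∀ n : ℕ, (n ∣ p ∨ n ∣ (Fintype.card F - 1) / Nat.gcd 2 (Fintype.card F - 1) ∨
      n ∣ (Fintype.card F + 1) / Nat.gcd 2 (Fintype.card F - 1)) →
      ∃ g : Matrix.ProjectiveSpecialLinearGroup (Fin 2) F, orderOf g = n := by
    intro n hn
    have h1 : n ∈ Set.range (orderOf : Matrix.ProjectiveSpecialLinearGroup (Fin 2) F → ℕ) := by
      rw [h]
      exact hn
    exact h1
  exact ⟨char_row F (by omega) (key _ (Or.inr (Or.inl dvd_rfl))),
    char_row F (by omega) (key _ (Or.inr (Or.inr dvd_rfl)))⟩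

end

/-! ### elements generating the tori -/

section

open Cfsg.Agent.H824.E7.Tor Cfsg.Agent.H824.E7.Facts Cfsg.Agent.H129

variable (F : Type u) [Field F] [Fintype F]

theorem order_of_torus {T : Subgroup ↥(chevE7.group F)} (hT : IsCyclic ↥T) {N : ℕ}
    (hc : Nat.gcd 2 (Fintype.card F - 1) * Nat.card ↥T = N) :
    ∃ x : ↥(chevE7.group F), orderOf x = N / Nat.gcd 2 (Fintype.card F - 1) := by
  obtain ⟨x, hx⟩ := exists_of_torus hT dvd_rfl
  refine ⟨x, ?_⟩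
  rw [hx, ← hc, Nat.mul_div_cancel_left _ (gcd_pos' F)]

theorem elt_T {i : ℕ} (hi : i ∈ C4) : ∃ x : ↥(chevE7.group F), orderOf x = H962.E7.TT (Fintype.card F) i := by
  obtain ⟨q, hq⟩ : ∃ q, Fintype.card F = q := ⟨_, rfl⟩
  have hq2 : 2 ≤ q := by rw [← hq]; exact Fintype.one_lt_card
  have hq1 : 1 ≤ q := by omega
  simp only [C4, Finset.mem_insert, Finset.mem_singleton] at hi
  rcases hi with rfl | rfl | rfl | rfl
  · have hN : ((q ^ 7 - 1 : ℕ) : ℤ) = -1 + (q : ℤ) ^ 7 := by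
      push_cast [Nat.cast_sub (Nat.one_le_pow 7 q hq1)]; ring
    obtain ⟨T, hT, hc, -⟩ := tor hq DataE7s.hA DataE7s.chainOK DataE7s.cycOK DataE7s.rootOK
      (N := q ^ 7 - 1) (by rw [DataE7s.fN_eq, hN]) (RealT.coprime_of_neg (a := (q : ℤ) ^ 6) (by rw [hN]; ring))
    have e : H962.E7.TT q 7 = (q ^ 7 - 1) / Nat.gcd 2 (q - 1) := by unfold H962.E7.TT; norm_num only [_root_.ite_false, _root_.ite_true]
    rw [hq, e]
    have h := order_of_torus F hT (N := q ^ 7 - 1) (by rw [hq]; exact hc)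
    rwa [hq] at h
  · have hN : (((q - 1) * (q ^ 6 + q ^ 3 + 1) : ℕ) : ℤ) =
        -1 + (q : ℤ) - (q : ℤ) ^ 3 + (q : ℤ) ^ 4 - (q : ℤ) ^ 6 + (q : ℤ) ^ 7 := by
      push_cast [Nat.cast_sub hq1]; ring
    obtain ⟨T, hT, hc, -⟩ := tor hq DataE7n.hA DataE7n.chainOK DataE7n.cycOK DataE7n.rootOK
      (N := (q - 1) * (q ^ 6 + q ^ 3 + 1)) (by rw [DataE7n.fN_eq, hN])
      (RealT.coprime_of_neg (a := 1 - (q : ℤ) ^ 2 + (q : ℤ) ^ 3 - (q : ℤ) ^ 5 + (q : ℤ) ^ 6) (by rw [hN]; ring))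
    have e : H962.E7.TT q 9 = (q - 1) * (q ^ 6 + q ^ 3 + 1) / Nat.gcd 2 (q - 1) := by
      unfold H962.E7.TT; norm_num only [_root_.ite_false, _root_.ite_true]
    rw [hq, e]
    have h := order_of_torus F hT (N := (q - 1) * (q ^ 6 + q ^ 3 + 1)) (by rw [hq]; exact hc)
    rwa [hq] at h
  · have hN : ((q ^ 7 + 1 : ℕ) : ℤ) = 1 + (q : ℤ) ^ 7 := by push_cast; ring
    obtain ⟨T, hT, hc, -⟩ := tor hq DataE7m.hA DataE7m.chainOK DataE7m.cycOK DataE7m.rootOK (N := q ^ 7 + 1)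
      (by rw [DataE7m.fN_eq, hN]) (UntwData.coprime_of_eq (a := (q : ℤ) ^ 6) (by rw [hN]; ring))
    have e : H962.E7.TT q 14 = (q ^ 7 + 1) / Nat.gcd 2 (q - 1) := by unfold H962.E7.TT; norm_num only [_root_.ite_false, _root_.ite_true]
    rw [hq, e]
    have h := order_of_torus F hT (N := q ^ 7 + 1) (by rw [hq]; exact hc)
    rwa [hq] at h
  · have hle : q ^ 3 ≤ q ^ 6 := Nat.pow_le_pow_right hq1 (by norm_num)
    have hN : (((q + 1) * (q ^ 6 - q ^ 3 + 1) : ℕ) : ℤ) =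
        1 + (q : ℤ) - (q : ℤ) ^ 3 - (q : ℤ) ^ 4 + (q : ℤ) ^ 6 + (q : ℤ) ^ 7 := by
      push_cast [Nat.cast_sub hle]; ring
    obtain ⟨T, hT, hc, -⟩ := tor hq DataE7h.hA DataE7h.chainOK DataE7h.cycOK DataE7h.rootOK
      (N := (q + 1) * (q ^ 6 - q ^ 3 + 1)) (by rw [DataE7h.fN_eq, hN])
      (UntwData.coprime_of_eq (a := 1 - (q : ℤ) ^ 2 - (q : ℤ) ^ 3 + (q : ℤ) ^ 5 + (q : ℤ) ^ 6) (by rw [hN]; ring))
    have e : H962.E7.TT q 18 = (q + 1) * (q ^ 6 - q ^ 3 + 1) / Nat.gcd 2 (q - 1) := by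
      unfold H962.E7.TT; norm_num only [_root_.ite_true, _root_.ite_false]
    rw [hq, e]
    have h := order_of_torus F hT (N := (q + 1) * (q ^ 6 - q ^ 3 + 1)) (by rw [hq]; exact hc)
    rwa [hq] at h

end

/-! ### the facts -/

section

variable (F : Type) [Field F] [Fintype F]

theorem prim_of_od {m r : ℕ} (hr : r.Prime) (hm : m ≠ 0) (h : od (Nat.card F) r = m) : Prim (Fintype.card F) m r := by
  have : Fact r.Prime := ⟨hr⟩
  rw [Nat.card_eq_fintype_card] at h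
  have hq : 1 ≤ Fintype.card F := Fintype.card_pos
  refine ⟨hr, fun n => ⟨fun hd => ?_, fun hd => ?_⟩, fun hd => ?_⟩
  · rw [← h]; exact od_dvd hq hd
  · rw [← h] at hd; exact dvd_of_od_dvd hq hd
  · apply hm
    rw [← h, od, (ZMod.natCast_eq_zero_iff _ _).2 hd]
    exact orderOf_eq_zero_iff'.2 fun n hn => by
      rw [zero_pow hn.ne']
      exact zero_ne_one

theorem ufacts : UFacts ↥(chevE7.group F) (Fintype.card F) where
  tor := Cfsg.Agent.H824.E7.Facts.tor_L F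
  elt := fun i hi => elt_T F hi
  adj := by
    intro r hr h8 hd
    have h2 : r ≠ 2 := by omega
    have hq1 : 1 ≤ Nat.card F := Nat.card_pos
    have hc : Nat.card F = Fintype.card F := Nat.card_eq_fintype_card
    have cas : ∀ {m : ℕ}, od (Nat.card F) r = m → orderOf ((Fintype.card F : ℕ) : ZMod r) = m := fun h => by
      rw [← h, od, hc]
    rcases od_E7 hr hd with h | h | h | h | h | h | h | h | h | h | h | h | h | h
    · right
      obtain ⟨p, hpc⟩ := CharP.exists F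
      have hp : Fact p.Prime := ⟨CharP.char_is_prime F p⟩
      have hrp : r = p := by
        obtain ⟨n, -, hn⟩ := FiniteField.card F p
        rw [hc, hn] at h
        exact (Nat.prime_dvd_prime_iff_eq hr hp.out).1 (hr.dvd_of_dvd_pow h)
      subst hrp
      exact char_adj F h8
    · right
      have h3 := dvd_of_od_one hq1 h
      rw [hc] at h3
      exact row_small F hr h2 (Or.inl h3)
    · right
      have h3 := dvd2 hr (cas h)
      rw [pv2] at h3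
      exact row_small F hr h2 (Or.inr (by exact_mod_cast h3))
    · right
      exact ⟨row_minus F chain3 eig3_3 eig3_1 hr h2 (dvd3 hr (cas h)), row_plus F chain3 eig3_3 eig3_2 hr h2 (dvd3 hr (cas h))⟩
    · right
      exact ⟨row_minus F chain4 eig4_4 eig4_1 hr h2 (dvd4 hr (cas h)), row_plus F chain4 eig4_4 eig4_2 hr h2 (dvd4 hr (cas h))⟩
    · right
      exact ⟨row_minus F chain5 eig5_5 eig5_1 hr h2 (dvd5 hr (cas h)), row_plus F chain5 eig5_5 eig5_2 hr h2 (dvd5 hr (cas h))⟩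
    · right
      exact ⟨row_minus F chain6 eig6_6 eig6_1 hr h2 (dvd6 hr (cas h)), row_plus F chain6 eig6_6 eig6_2 hr h2 (dvd6 hr (cas h))⟩
    · exact Or.inl ⟨7, by decide, prim_of_od F hr (by norm_num) h⟩
    · right
      exact ⟨row_minus F chain8 eig8_8 eig8_1 hr h2 (dvd8 hr (cas h)), row_plus F chain8 eig8_8 eig8_2 hr h2 (dvd8 hr (cas h))⟩
    · exact Or.inl ⟨9, by decide, prim_of_od F hr (by norm_num) h⟩
    · right
      exact ⟨row_minus F chain10 eig10_10 eig10_1 hr h2 (dvd10 hr (cas h)), row_plus F chain10 eig10_10 eig10_2 hr h2 (dvd10 hr (cas h))⟩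
    · right
      exact ⟨row_minus F chainm12 eigm12_12 eigm12_1 hr h2 (dvd12 hr (cas h)), row_plus F chainp12 eigp12_12 eigp12_2 hr h2 (dvd12 hr (cas h))⟩
    · exact Or.inl ⟨14, by decide, prim_of_od F hr (by norm_num) h⟩
    · exact Or.inl ⟨18, by decide, prim_of_od F hr (by norm_num) h⟩

end

end Cfsg.Agent.H334.E7.Facts
end

-- part: H334/E7/Row
section
/-!
# S3482: the row `E₇(u)` (helper334)
-/

set_option autoImplicit false

namespace Cfsg.Agent.H334.E7.Row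

open Cfsg Cfsg.Agent.H436 Cfsg.Agent.H962.E7 Cfsg.Agent.H267.E7R
open Cfsg.Agent.H334.E7.Facts Cfsg.Agent.H334.E7.NT Cfsg.Agent.H334.E7.Lay Cfsg.Agent.H334.E7.Size

universe u'

variable {p k u : ℕ} {S : Type u'} [Group S]

theorem c4_c8 {i : ℕ} (hi : i ∈ C4) : i ∈ C8 := by
  rcases mem_c4 hi with rfl | rfl | rfl | rfl <;> decide

/-- the class of a prime of the classes 7, 9, 14, 18 -/
theorem cls (R : Row p k S) (U : UFacts S u) (hu : 2 ≤ u) {i r : ℕ} (hi : i ∈ C4) (F : Fl S (p ^ k) i)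
    (hr : Prim (p ^ k) i r) :
    (∃ c ∈ C4, Prim u c r ∧ TT u c ∣ TT (p ^ k) i ∧ NN (p ^ k) i ∣ TT u c) ∨
      ((u - 1) / Nat.gcd 2 (u - 1) ∣ TT (p ^ k) i ∧ (u + 1) / Nat.gcd 2 (u - 1) ∣ TT (p ^ k) i) := by
  have hq := q_two R
  have h8 := Cfsg.Agent.H824.E7.Facts.gt_eight (by omega) hr (c4_c8 hi)
  rcases U.adj r hr.prime h8 (F.dvd r hr) with ⟨c, hc, h⟩ | ⟨⟨x, hx, hx'⟩, ⟨y, hy, hy'⟩⟩
  · refine Or.inl ⟨c, hc, h, ?_, ?_⟩
    · obtain ⟨x, hx⟩ := U.elt c hc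
      rw [← hx]
      exact R.tor i hi x r hr (by rw [hx]; exact prim_dvd_tt hu hc h)
    · obtain ⟨x, hx⟩ := F.elt hi
      rw [← hx]
      exact U.tor c hc x r h (by rw [hx]; exact prim_dvd_nn hq hi hr)
  · exact Or.inr ⟨hx'.trans (R.tor i hi x r hr hx), hy'.trans (R.tor i hi y r hr hy)⟩

/-- one class of `u` contains primes of one class of `q` only -/
theorem one_class (R : Row p k S) (U : UFacts S u) (hu : 2 ≤ u) {i j r s c : ℕ} (hi : i ∈ C4) (hj : j ∈ C4)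
    (hij : i ≠ j) (hr : Prim (p ^ k) i r) (hs : Prim (p ^ k) j s) (hc : c ∈ C4) (h1 : Prim u c r)
    (h2 : Prim u c s) : False := by
  obtain ⟨x, hx⟩ := U.elt c hc
  have hrs : r ≠ s := fun h => hij (hr.unique (h ▸ hs))
  have h3 : r * s ∣ orderOf x := by
    rw [hx]
    exact Nat.Coprime.mul_dvd_of_dvd_of_dvd ((Nat.coprime_primes hr.prime hs.prime).2 hrs)
      (prim_dvd_tt hu hc h1) (prim_dvd_tt hu hc h2)
  have h4 : orderOf x ≠ 0 := by
    rw [hx]
    exact (tt_pos hu hc).ne'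
  exact R.nad i (c4_c8 hi) j (c4_c8 hj) hij r s hr hs ⟨x ^ (orderOf x / (r * s)), orderOf_pow_orderOf_div h4 h3⟩

theorem div_aux {e a T : ℕ} (he : 0 < e) (h1 : e ∣ a) (h2 : a ∣ e * T) : a / e ∣ T := by
  obtain ⟨b, rfl⟩ := h1
  rw [Nat.mul_div_cancel_left _ he]
  exact Nat.dvd_of_mul_dvd_mul_left he h2

theorem d_sub (hu : 2 ≤ u) {c : ℕ} (hc : c = 7 ∨ c = 9) : (u - 1) / Nat.gcd 2 (u - 1) ∣ TT u c := by
  have hc4 : c ∈ C4 := by rcases hc with rfl | rfl <;> decide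
  refine div_aux gcd_pos (Nat.gcd_dvd_right _ _) ?_
  rw [tt_mul (by omega) hc4]
  exact sub_dvd_pn hc

theorem d_add (hu : 2 ≤ u) {c : ℕ} (hc : c = 14 ∨ c = 18) : (u + 1) / Nat.gcd 2 (u - 1) ∣ TT u c := by
  have hc4 : c ∈ C4 := by rcases hc with rfl | rfl <;> decide
  refine div_aux gcd_pos (gcd_dvd_add (by omega)) ?_
  rw [tt_mul (by omega) hc4]
  exact add_dvd_pn hc

theorem tt_odd (R : Row p k S) {i : ℕ} (hi : i = 14 ∨ i = 18) : ¬ 2 ∣ TT (p ^ k) i := by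
  rcases hi with rfl | rfl
  · have := TT14_odd R
    omega
  · have := TT18_odd R
    omega

/-- the clash -/
theorem clash (R : Row p k S) {i j D : ℕ} (hi : i = 14 ∨ i = 18) (hj : j = 7 ∨ j = 9)
    (h1 : D ∣ TT (p ^ k) i) (h2 : D ∣ TT (p ^ k) j) : D = 1 := by
  by_contra hD
  have hr := Nat.minFac_prime hD
  have hd := Nat.minFac_dvd D
  refine sep (q_two R) hr (fun h => ?_) hi hj (hd.trans h1) (dvd_sub (q_two R) hj (hd.trans h2))
  rw [h] at hd
  exact tt_odd R hi (hd.trans h1)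

/-- the parity argument -/
theorem parity {T : ℕ} (hu : 2 ≤ u) (ho : u % 2 = 1) (hT : ¬ 2 ∣ T) (h1 : (u - 1) / Nat.gcd 2 (u - 1) ∣ T)
    (h2 : (u + 1) / Nat.gcd 2 (u - 1) ∣ T) : False := by
  have he : Nat.gcd 2 (u - 1) = 2 := Nat.gcd_eq_left (by omega)
  rw [he] at h1 h2
  rcases (show u % 4 = 1 ∨ u % 4 = 3 by omega) with h | h
  · exact hT (Dvd.dvd.trans (by (clear * - h; omega)) h1)
  · exact hT (Dvd.dvd.trans (by (clear * - h; omega)) h2)

/-- `p = 2` -/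
theorem two (R : Row p k S) (U : UFacts S u) (hu : 2 ≤ u) (hv : ¬ p ∣ u) (h2 : p = 2) : False := by
  have hq := q_two R
  have hev := even_of R h2
  have ho : u % 2 = 1 := by rw [h2] at hv; omega
  have he : Nat.gcd 2 (u - 1) = 2 := Nat.gcd_eq_left (by omega)
  have odd : ∀ i ∈ C4, ¬ 2 ∣ TT (p ^ k) i := by
    intro i hi h
    have key : ∀ j, (j = 7 ∨ j = 9) → ¬ 2 ∣ TT (p ^ k) j := by
      intro j hj h
      have h3 := dvd_sub hq hj h
      have h4 : 2 ∣ (p ^ k) ^ j := Dvd.dvd.trans (by omega) (dvd_pow_self (p ^ k) (by omega))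
      have h5 : 1 ≤ (p ^ k) ^ j := Nat.one_le_pow _ _ (by omega)
      omega
    rcases mem_c4 hi with rfl | rfl | rfl | rfl
    · exact key 7 (Or.inl rfl) h
    · exact key 9 (Or.inr rfl) h
    · exact tt_odd R (Or.inl rfl) h
    · exact tt_odd R (Or.inr rfl) h
  have cl : ∀ i ∈ C4, ∀ r, Prim (p ^ k) i r → ∃ c ∈ C4, Prim u c r ∧ (if u % 4 = 1 then c = 14 ∨ c = 18 else c = 7 ∨ c = 9) := by
    intro i hi r hr
    rcases cls R U hu hi (R.even h2 i hi) hr with ⟨c, hc, h3, h4, -⟩ | ⟨h3, h4⟩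
    · refine ⟨c, hc, h3, ?_⟩
      split_ifs with h
      · by_contra hcon
        have h5 : c = 7 ∨ c = 9 := by have := mem_c4 hc; omega
        have h6 := d_sub hu h5
        rw [he] at h6
        exact odd i hi (Dvd.dvd.trans (by (clear * - h; omega)) (h6.trans h4))
      · by_contra hcon
        have h5 : c = 14 ∨ c = 18 := by have := mem_c4 hc; omega
        have h6 := d_add hu h5
        rw [he] at h6
        exact odd i hi (Dvd.dvd.trans (by (clear * - ho h; omega)) (h6.trans h4))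
    · exact (parity hu ho (odd i hi) h3 h4).elim
  obtain ⟨r1, hr1⟩ := prim7 R
  obtain ⟨r2, hr2⟩ := prim9 R
  obtain ⟨r3, hr3⟩ := prim14 R
  obtain ⟨c1, hc1, k1, m1⟩ := cl 7 (by decide) r1 hr1
  obtain ⟨c2, hc2, k2, m2⟩ := cl 9 (by decide) r2 hr2
  obtain ⟨c3, hc3, k3, m3⟩ := cl 14 (by decide) r3 hr3
  have n12 : c1 ≠ c2 := by
    rintro rfl
    exact one_class R U hu (by decide) (by decide) (by norm_num) hr1 hr2 hc1 k1 k2
  have n13 : c1 ≠ c3 := by
    rintro rfl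
    exact one_class R U hu (by decide) (by decide) (by norm_num) hr1 hr3 hc1 k1 k3
  have n23 : c2 ≠ c3 := by
    rintro rfl
    exact one_class R U hu (by decide) (by decide) (by norm_num) hr2 hr3 hc2 k2 k3
  split_ifs at m1 m2 m3 <;> (clear * - n12 n13 n23 m1 m2 m3; omega)

theorem tt7 {q : ℕ} (hq : 2 ≤ q) (he : Nat.gcd 2 (q - 1) = 2) : 2 * TT q 7 + 1 = q ^ 7 := by
  have h := tt_mul (u := q) (by omega) (show 7 ∈ C4 by decide)
  rw [he] at h
  have : 1 ≤ q ^ 7 := Nat.one_le_pow _ _ (by omega)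
  change 2 * TT q 7 = q ^ 7 - 1 at h
  omega

theorem tt14 {q : ℕ} (hq : 2 ≤ q) (he : Nat.gcd 2 (q - 1) = 2) : 2 * TT q 14 = q ^ 7 + 1 := by
  have h := tt_mul (u := q) (by omega) (show 14 ∈ C4 by decide)
  rw [he] at h
  exact h

theorem tt9 {q : ℕ} (hq : 2 ≤ q) (he : Nat.gcd 2 (q - 1) = 2) : (q ^ 2 + q + 1) * (2 * TT q 9) + 1 = q ^ 9 := by
  have h := tt_mul (u := q) (by omega) (show 9 ∈ C4 by decide)
  rw [he] at h
  rw [h]
  change (q ^ 2 + q + 1) * ((q - 1) * (q ^ 6 + q ^ 3 + 1)) + 1 = q ^ 9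
  obtain ⟨t, rfl⟩ : ∃ t, q = t + 1 := ⟨q - 1, by omega⟩
  rw [Nat.add_sub_cancel]
  ring

theorem tt18 {q : ℕ} (hq : 2 ≤ q) (he : Nat.gcd 2 (q - 1) = 2) : (q ^ 2 - q + 1) * (2 * TT q 18) = q ^ 9 + 1 := by
  have h := tt_mul (u := q) (by omega) (show 18 ∈ C4 by decide)
  rw [he] at h
  rw [h]
  change (q ^ 2 - q + 1) * ((q + 1) * (q ^ 6 - q ^ 3 + 1)) = q ^ 9 + 1
  have hle : q ^ 3 ≤ q ^ 6 := Nat.pow_le_pow_right (by omega) (by norm_num)
  have hle' : q ≤ q ^ 2 := Nat.le_self_pow (by norm_num) q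
  zify [hle, hle']
  ring

/-- the end of the argument -/
theorem fin_eq {q s c A B n : ℕ} (hu : 8 ≤ u) (hs : s ∈ C4) (hc : c ∈ C4) (hsc : s ≠ c)
    (hA : 0 < A) (hB : 0 < B) (hA4 : A < u ^ 4) (hB4 : B < u ^ 4)
    (h : A * TT u s = B * TT u c + 1) (hn : 2 * (A * TT u s) = q ^ n + 1) : q ^ n = u ^ 7 ∨ q ^ n = u ^ 9 := by
  have h1 := tt_mul (u := u) (by omega) hs
  have h2 := tt_mul (u := u) (by omega) hc
  obtain ⟨e, he⟩ : ∃ e, Nat.gcd 2 (u - 1) = e := ⟨_, rfl⟩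
  have he12 := gcd_cases u
  rw [he] at h1 h2 he12
  have h3 : A * PN u s = B * PN u c + e := by
    rw [← h1, ← h2]
    calc A * (e * TT u s) = e * (A * TT u s) := by ring
      _ = e * (B * TT u c + 1) := by rw [h]
      _ = _ := by ring
  have h4 : (A : ℤ) * PZ (u : ℤ) s = (B : ℤ) * PZ (u : ℤ) c + (e : ℤ) := by
    rw [← pn_cast (by omega) hs, ← pn_cast (by omega) hc]
    exact_mod_cast h3
  have h5 := NT.main (u := (u : ℤ)) (A := (A : ℤ)) (B := (B : ℤ)) (e := (e : ℤ)) (by exact_mod_cast hu)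
    (by rcases he12 with h | h <;> rw [h] <;> simp) (by exact_mod_cast hA) (by exact_mod_cast hB)
    (by exact_mod_cast hA4) (by exact_mod_cast hB4) (mem_c4 hs) (mem_c4 hc) hsc h4
  obtain ⟨he2, h6⟩ := h5
  have he2' : e = 2 := by exact_mod_cast he2
  rw [← pn_cast (by omega) hs] at h6
  have h7 : A * PN u s = q ^ n + 1 := by
    rw [← h1, he2', ← hn]; ring
  rcases h6 with h6 | h6
  · left
    have : A * PN u s = u ^ 7 + 1 := by exact_mod_cast h6
    (clear * - h7 this; omega)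
  · right
    have : A * PN u s = u ^ 9 + 1 := by exact_mod_cast h6
    (clear * - h7 this; omega)

theorem q_ge (R : Row p k S) (h2 : p ≠ 2) : 13 ≤ p ^ k := by
  have h1 : 13 ≤ p := by rcases R.cas with h | h | h <;> omega
  calc 13 ≤ p := h1
    _ = p ^ 1 := (pow_one p).symm
    _ ≤ p ^ k := Nat.pow_le_pow_right (by omega) R.hk

/-- `w₁₄` and `w₁₈` are isolated -/
theorem isol (R : Row p k S) (U : UFacts S u) (hu : 2 ≤ u) (h2 : p ≠ 2) {i r : ℕ} (hi : i = 14 ∨ i = 18)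
    (hr : Prim (p ^ k) i r) :
    ∃ c ∈ C4, Prim u c r ∧ TT u c ∣ TT (p ^ k) i ∧ NN (p ^ k) i ∣ TT u c := by
  have hi4 : i ∈ C4 := by rcases hi with rfl | rfl <;> decide
  have hFl : Fl S (p ^ k) i := R.top i (by rcases hi with rfl | rfl <;> decide)
  rcases cls R U hu hi4 hFl hr with h | ⟨h3, h4⟩
  · exact h
  exfalso
  rcases Nat.mod_two_eq_zero_or_one u with hev | ho
  swap
  · exact parity hu ho (tt_odd R hi) h3 h4
  have he : Nat.gcd 2 (u - 1) = 1 := gcd_two_even hev hu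
  have hq13 := q_ge R h2
  -- the other prime
  obtain ⟨j, s, hj, hFj, hs⟩ : ∃ j s, (j = 7 ∨ j = 9) ∧ Fl S (p ^ k) j ∧ Prim (p ^ k) j s := by
    rcases R.one 7 (by decide) 9 (by decide) (by norm_num) with h | h
    · obtain ⟨s, hs⟩ := prim7 R
      exact ⟨7, s, Or.inl rfl, h, hs⟩
    · obtain ⟨s, hs⟩ := prim9 R
      exact ⟨9, s, Or.inr rfl, h, hs⟩
  have hj4 : j ∈ C4 := by rcases hj with rfl | rfl <;> decide
  rcases cls R U hu hj4 hFj hs with ⟨c, hc, h5, h6, h7⟩ | ⟨-, h6⟩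
  · have hc' : c = 7 ∨ c = 9 := by
      by_contra hcon
      have hc' : c = 14 ∨ c = 18 := by have := mem_c4 hc; omega
      have := clash R hi hj h4 ((d_add hu hc').trans h6)
      rw [he, Nat.div_one] at this
      omega
    have h8 := clash R hi hj h3 ((d_sub hu hc').trans h6)
    rw [he, Nat.div_one] at h8
    have hu2 : u = 2 := by omega
    have h9 := small_tt u (by omega) c hc
    have h10 := Nat.le_of_dvd (tt_pos hu hc) h7
    obtain ⟨q, hq⟩ : ∃ q, p ^ k = q := ⟨_, rfl⟩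
    rw [hq] at h10 hq13
    have h11 := pn_le (q := q) (by omega) hj4
    obtain ⟨t, rfl⟩ : ∃ t, q = t + 1 := ⟨q - 1, by omega⟩
    have h12 : 13 ^ 6 ≤ (t + 1) ^ 6 := Nat.pow_le_pow_left hq13 6
    rcases hj with rfl | rfl
    · change (t + 1) ^ 7 - 1 ≤ NN (t + 1) 7 * (t * 7) at h11
      have h13 : NN (t + 1) 7 * (t * 7) ≤ 469228 * (t * 7) := Nat.mul_le_mul_right _ (h10.trans h9)
      have h14 : 4826809 * (t + 1) ≤ (t + 1) ^ 7 := by
        calc 4826809 * (t + 1) = 13 ^ 6 * (t + 1) := by norm_num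
          _ ≤ (t + 1) ^ 6 * (t + 1) := Nat.mul_le_mul_right _ h12
          _ = (t + 1) ^ 7 := by ring
      omega
    · change t * ((t + 1) ^ 6 + (t + 1) ^ 3 + 1) ≤ NN (t + 1) 9 * (t * 3) at h11
      have h13 : NN (t + 1) 9 * (t * 3) ≤ 469228 * (t * 3) := Nat.mul_le_mul_right _ (h10.trans h9)
      have h14 : t * 4826809 ≤ t * ((t + 1) ^ 6 + (t + 1) ^ 3 + 1) := by
        refine Nat.mul_le_mul_left _ ?_
        calc 4826809 = 13 ^ 6 := by norm_num
          _ ≤ (t + 1) ^ 6 := h12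
          _ ≤ _ := by omega
      omega
  · have := clash R hi hj h4 h6
    rw [he, Nat.div_one] at this
    omega

theorem core (R : Row p k S) (U : UFacts S u) (hu : 2 ≤ u) (hv : ¬ p ∣ u) : False := by
  by_cases h2 : p = 2
  · exact two R U hu hv h2
  have hq13 := q_ge R h2
  have hqm := gcd_two_eq (q_mod R h2)
  obtain ⟨r, hr⟩ := prim14 R
  obtain ⟨s, hs⟩ := prim18 R
  obtain ⟨a, ha, ka, ta, na⟩ := isol R U hu h2 (Or.inl rfl) hr
  obtain ⟨b, hb, kb, tb, nb⟩ := isol R U hu h2 (Or.inr rfl) hs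
  have hN14 : NN (p ^ k) 14 ≤ TT u a := Nat.le_of_dvd (tt_pos hu ha) na
  have hN18 : NN (p ^ k) 18 ≤ TT u b := Nat.le_of_dvd (tt_pos hu hb) nb
  have hu8 : 8 ≤ u := u_ge hq13 ha hN14
  -- nonisolated
  have noniso : ∀ j, (j = 7 ∨ j = 9) → (u - 1) / Nat.gcd 2 (u - 1) ∣ TT (p ^ k) j →
      (u + 1) / Nat.gcd 2 (u - 1) ∣ TT (p ^ k) j → False := by
    intro j hj h3 h4
    have hle : Nat.gcd 2 (u - 1) ≤ 2 := Nat.gcd_le_left _ (by norm_num)
    have hpos : 0 < Nat.gcd 2 (u - 1) := gcd_pos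
    obtain ⟨e, he⟩ : ∃ e, Nat.gcd 2 (u - 1) = e := ⟨_, rfl⟩
    have big : ∀ n, 7 ≤ n → n / Nat.gcd 2 (u - 1) ≠ 1 := by
      intro n hn
      rw [he] at hle hpos ⊢
      rcases (show e = 1 ∨ e = 2 by omega) with rfl | rfl <;> omega
    rcases mem_c4 ha with h | h | h | h
    · exact big (u - 1) (by omega) (clash R (Or.inl rfl) hj ((d_sub hu (Or.inl h)).trans ta) h3)
    · exact big (u - 1) (by omega) (clash R (Or.inl rfl) hj ((d_sub hu (Or.inr h)).trans ta) h3)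
    · exact big (u + 1) (by omega) (clash R (Or.inl rfl) hj ((d_add hu (Or.inl h)).trans ta) h4)
    · exact big (u + 1) (by omega) (clash R (Or.inl rfl) hj ((d_add hu (Or.inr h)).trans ta) h4)
  have hpv : ∀ n, 1 ≤ n → ((p ^ k) ^ n = u ^ 7 ∨ (p ^ k) ^ n = u ^ 9) → False := by
    intro n hn h
    have h1 : p ∣ (p ^ k) ^ n := dvd_pow (dvd_pow_self p (by have := R.hk; omega)) (by omega)
    rcases h with h | h
    · exact hv (R.hp.dvd_of_dvd_pow (h ▸ h1))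
    · exact hv (R.hp.dvd_of_dvd_pow (h ▸ h1))
  rcases R.one 7 (by decide) 9 (by decide) (by norm_num) with hF | hF
  · obtain ⟨t, ht⟩ := prim7 R
    rcases cls R U hu (by decide) hF ht with ⟨c, hc, kc, tc, nc⟩ | ⟨h3, h4⟩
    swap
    · exact noniso 7 (Or.inl rfl) h3 h4
    have hac : a ≠ c := by
      rintro rfl
      exact one_class R U hu (by decide) (by decide) (by norm_num) hr ht ha ka kc
    obtain ⟨X, hX⟩ := ta
    obtain ⟨Y, hY⟩ := tc
    rw [mul_comm] at hX hY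
    have e7 := tt7 (q_two R) hqm
    have e14 := tt14 (q_two R) hqm
    have hX2 := x_le (q_two R) hqm (by decide) hX.symm na
    have hY2 := x_le (q_two R) hqm (by decide) hY.symm nc
    have l14 : LL (p ^ k) 14 * ee 14 = (p ^ k + 1) * 7 := rfl
    have l7 : LL (p ^ k) 7 * ee 7 = (p ^ k - 1) * 7 := rfl
    rw [l14] at hX2
    rw [l7] at hY2
    obtain ⟨q, hq⟩ : ∃ q, p ^ k = q := ⟨_, rfl⟩
    rw [hq] at hX hY e7 e14 hX2 hY2 hN14 hq13
    have hX4 := bound7 (X := X) hq13 hu8 ha hN14 (by omega)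
    have hY4 := bound7 (X := Y) hq13 hu8 ha hN14 (by omega)
    have hq7 : 13 ≤ q ^ 7 := hq13.trans (Nat.le_self_pow (by norm_num) q)
    have hX0 : 0 < X := Nat.pos_of_ne_zero fun h => by rw [h, zero_mul] at hX; omega
    have hY0 : 0 < Y := Nat.pos_of_ne_zero fun h => by rw [h, zero_mul] at hY; omega
    refine hpv 7 (by norm_num) (by rw [hq]; exact fin_eq hu8 ha hc hac hX0 hY0 hX4 hY4 (by omega) (by (clear * - e14 hX; omega)))
  · obtain ⟨t, ht⟩ := prim9 R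
    rcases cls R U hu (by decide) hF ht with ⟨c, hc, kc, tc, nc⟩ | ⟨h3, h4⟩
    swap
    · exact noniso 9 (Or.inr rfl) h3 h4
    have hbc : b ≠ c := by
      rintro rfl
      exact one_class R U hu (by decide) (by decide) (by norm_num) hs ht hb kb kc
    obtain ⟨X, hX⟩ := tb
    obtain ⟨Y, hY⟩ := tc
    rw [mul_comm] at hX hY
    have e9 := tt9 (q_two R) hqm
    have e18 := tt18 (q_two R) hqm
    have hX2 := x_le (q_two R) hqm (by decide) hX.symm nb
    have hY2 := x_le (q_two R) hqm (by decide) hY.symm nc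
    have l18 : LL (p ^ k) 18 * ee 18 = (p ^ k + 1) * 3 := rfl
    have l9 : LL (p ^ k) 9 * ee 9 = (p ^ k - 1) * 3 := rfl
    rw [l18] at hX2
    rw [l9] at hY2
    obtain ⟨q, hq⟩ : ∃ q, p ^ k = q := ⟨_, rfl⟩
    rw [hq] at hX hY e9 e18 hX2 hY2 hN18 hq13
    have hle' : q ≤ q ^ 2 := Nat.le_self_pow (by norm_num) q
    have cub1 : (q ^ 2 - q + 1) * (q + 1) = q ^ 3 + 1 := by
      zify [hle']; ring
    have cub2 : (q ^ 2 + q + 1) * (q - 1) + 1 = q ^ 3 := by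
      obtain ⟨t, rfl⟩ : ∃ t, q = t + 1 := ⟨q - 1, by omega⟩
      rw [Nat.add_sub_cancel]; ring
    have hA2 : 2 * ((q ^ 2 - q + 1) * X) ≤ 3 * (q ^ 3 + 1) := by
      calc 2 * ((q ^ 2 - q + 1) * X) = (q ^ 2 - q + 1) * (2 * X) := by ring
        _ ≤ (q ^ 2 - q + 1) * ((q + 1) * 3) := Nat.mul_le_mul_left _ hX2
        _ = 3 * (q ^ 3 + 1) := by rw [← cub1]; ring
    have hB2 : 2 * ((q ^ 2 + q + 1) * Y) ≤ 3 * (q ^ 3 + 1) := by
      calc 2 * ((q ^ 2 + q + 1) * Y) = (q ^ 2 + q + 1) * (2 * Y) := by ring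
        _ ≤ (q ^ 2 + q + 1) * ((q - 1) * 3) := Nat.mul_le_mul_left _ hY2
        _ = 3 * ((q ^ 2 + q + 1) * (q - 1)) := by ring
        _ ≤ 3 * (q ^ 3 + 1) := by omega
    have hA4 := bound9 hq13 hu8 hb hN18 hA2
    have hB4 := bound9 hq13 hu8 hb hN18 hB2
    have hq9 : 13 ≤ q ^ 9 := hq13.trans (Nat.le_self_pow (by norm_num) q)
    have hX0 : 0 < X := Nat.pos_of_ne_zero fun h => by rw [h, zero_mul] at hX; rw [hX] at e18; simp at e18
    have hY0 : 0 < Y := Nat.pos_of_ne_zero fun h => by rw [h, zero_mul] at hY; rw [hY] at e9; simp at e9; omega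
    have e1 : (q ^ 2 - q + 1) * X * TT u b = (q ^ 2 + q + 1) * Y * TT u c + 1 := by
      have f1 : 2 * ((q ^ 2 - q + 1) * X * TT u b) = q ^ 9 + 1 := by
        rw [← e18, hX]; ring
      have f2 : 2 * ((q ^ 2 + q + 1) * Y * TT u c) + 1 = q ^ 9 := by
        rw [← e9, hY]; ring
      omega
    refine hpv 9 (by norm_num) (by
      rw [hq]
      exact fin_eq hu8 hb hc hbc (Nat.mul_pos (by omega) hX0) (Nat.mul_pos (by (clear * - hq13; positivity)) hY0) hA4 hB4 e1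
        (by rw [← e18, hX]; ring))

/-- **row `E₇(u)`** -/
theorem row_e7 {p k u : ℕ} {S : Type u'} [Group S] [Finite S] (R : Row p k S) (hg : IsNamed (.e7 u) S)
    (hv : ¬ p ∣ u) : False := by
  obtain ⟨F, _, _, hF, ⟨e⟩⟩ := hg.real
  have h := ufacts F
  rw [hF] at h
  have hu : 2 ≤ u := by rw [← hF]; exact Fintype.one_lt_card
  refine core R (u := u) ⟨?_, ?_, ?_⟩ hu hv
  · intro i hi x r hr hx
    rw [← MulEquiv.orderOf_eq e] at hx ⊢
    exact h.tor i hi (e x) r hr hx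
  · intro i hi
    obtain ⟨x, hx⟩ := h.elt i hi
    exact ⟨e.symm x, by rw [MulEquiv.orderOf_eq, hx]⟩
  · intro r hr h8 hd
    rw [Nat.card_congr e.toEquiv] at hd
    rcases h.adj r hr h8 hd with h1 | ⟨⟨x, hx, hx'⟩, ⟨y, hy, hy'⟩⟩
    · exact Or.inl h1
    · refine Or.inr ⟨⟨e.symm x, ?_, ?_⟩, ⟨e.symm y, ?_, ?_⟩⟩
      · rw [MulEquiv.orderOf_eq]; exact hx
      · rw [MulEquiv.orderOf_eq]; exact hx'
      · rw [MulEquiv.orderOf_eq]; exact hy
      · rw [MulEquiv.orderOf_eq]; exact hy'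

end Cfsg.Agent.H334.E7.Row
end
end

-- part: H706/ESeven/Plus_mg
section
prune_inst 0x502053403d8002000000001202002000680005900000800160a00b420b016022804220000a80000010261280100400000000005000000000000034000003012080a8940431400d0c66008f801005000000000000000000000000000000000000000000000
set_option linter.all false
open scoped Cfsg.Agent.FastGrp

-- part: H706/ESeven/Num
section
/-!
# S3482, rows `PΩ±`: arithmetic (helper706)
-/

set_option autoImplicit false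

namespace Cfsg.Agent.H706.ESeven

open Cfsg.Agent.H436 Cfsg.Agent.H962.E7

/-- `Φ₁₄(q)` and `Φ₁₈(q)` -/
def Pa (q : ℤ) : ℤ := q ^ 6 - q ^ 5 + q ^ 4 - q ^ 3 + q ^ 2 - q + 1
def Pb (q : ℤ) : ℤ := q ^ 6 - q ^ 3 + 1

theorem num_core {q X Y e : ℤ} (hq : 13 ≤ q) (hX : 1 ≤ X) (he : |e| ≤ 42) (h : X * Pa q - Y * Pb q = e) :
    q ^ 2 ≤ X := by
  obtain ⟨he1, he2⟩ := abs_le.1 he
  unfold Pa Pb at h
  set c := X - Y with hc
  set D := q ^ 5 - q ^ 4 - q ^ 2 + q with hD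
  have hq2 : 169 ≤ q ^ 2 := by nlinarith only [hq]
  have hq3 : 2197 ≤ q ^ 3 := by nlinarith only [hq, hq2]
  have hq4 : 28561 ≤ q ^ 4 := by nlinarith only [hq2]
  have hD1 : 1000 ≤ D := by
    have h1 : D = q * (q - 1) * (q ^ 3 - 1) := by rw [hD]; ring
    rw [h1]
    have h2 : 156 ≤ q * (q - 1) := by nlinarith only [hq]
    nlinarith only [hq, hq2, hq4]
  have hP : 0 < q ^ 6 - q ^ 3 + 1 := by
    have : q ^ 6 - q ^ 3 + 1 = q ^ 3 * (q ^ 3 - 1) + 1 := by ring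
    rw [this]
    have : 0 < q ^ 3 * (q ^ 3 - 1) := by
      apply mul_pos <;> linarith only [hq3]
    linarith
  have h1 : c * (q ^ 6 - q ^ 3 + 1) = X * D + e := by
    rw [hc, hD, ← h]; ring
  have hc1 : 1 ≤ c := by
    by_contra hcon
    have h2 : c ≤ 0 := by omega
    have h3 : c * (q ^ 6 - q ^ 3 + 1) ≤ 0 := mul_nonpos_of_nonpos_of_nonneg h2 hP.le
    have h4 : D ≤ X * D := by nlinarith only [hX, hD1]
    linarith
  have h2 : (X - c * (q + 1)) * D = c * (q ^ 4 - q + 1) - e := by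
    have : (X - c * (q + 1)) * D = X * D - c * ((q + 1) * D) := by ring
    rw [this, show X * D = c * (q ^ 6 - q ^ 3 + 1) - e by linarith only [h], hD]
    ring
  have hR : 0 < q ^ 4 - q + 1 := by nlinarith only [hq2, hP]
  have h3 : 1 ≤ X - c * (q + 1) := by
    by_contra hcon
    have h4 : X - c * (q + 1) ≤ 0 := by omega
    have h5 : (X - c * (q + 1)) * D ≤ 0 := mul_nonpos_of_nonpos_of_nonneg h4 (by linarith)
    have h6 : q ^ 4 - q + 1 ≤ c * (q ^ 4 - q + 1) := by nlinarith only [hq, hD1, hc1]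
    nlinarith only [hq, h, he2, hq2, h5, h6]
  have h4 : q - 1 ≤ c := by
    by_contra hcon
    have h5 : c ≤ q - 2 := by omega
    have h6 : c * (q ^ 4 - q + 1) ≤ (q - 2) * (q ^ 4 - q + 1) := mul_le_mul_of_nonneg_right h5 hR.le
    have h7 : D ≤ (X - c * (q + 1)) * D := by nlinarith only [hD1, h3]
    have h8 : D - (q - 2) * (q ^ 4 - q + 1) = q ^ 4 - 2 * q + 2 := by rw [hD]; ring
    nlinarith only [hq, h, he1, hq2, h6, h7]
  have h5 : (q - 1) * (q + 1) ≤ c * (q + 1) := mul_le_mul_of_nonneg_right h4 (by linarith)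
  linarith only [h3, h5]

theorem gg (q : ℕ) : Nat.gcd 7 (q + 1) * Nat.gcd 3 (q + 1) ≤ 21 := by
  have h1 : Nat.gcd 7 (q + 1) ≤ 7 := Nat.gcd_le_left _ (by norm_num)
  have h2 : Nat.gcd 3 (q + 1) ≤ 3 := Nat.gcd_le_left _ (by norm_num)
  calc _ ≤ 7 * 3 := Nat.mul_le_mul h1 h2
    _ = 21 := rfl

theorem q_cases {p k : ℕ} (hp : p = 13 ∨ p = 17) (hk : 1 ≤ k) : p ^ k = 13 ∨ p ^ k = 17 ∨ 169 ≤ p ^ k := by
  rcases Nat.lt_or_ge k 2 with h | h
  · obtain rfl : k = 1 := by omega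
    rcases hp with rfl | rfl
    · left; norm_num
    · right; left; norm_num
  · right; right
    rcases hp with rfl | rfl
    · exact le_trans (by norm_num : 169 ≤ 13 ^ 2) (Nat.pow_le_pow_right (by norm_num) h)
    · exact le_trans (by norm_num : 169 ≤ 17 ^ 2) (Nat.pow_le_pow_right (by norm_num) h)

theorem gbound {q : ℕ} (h : q = 13 ∨ q = 17 ∨ 169 ≤ q) :
    3 * (Nat.gcd 7 (q + 1) * Nat.gcd 3 (q + 1)) * (q + 1) < 2 * q ^ 2 := by
  rcases h with rfl | rfl | h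
  · decide
  · decide
  · have h1 := gg q
    nlinarith

theorem q_mod {p k : ℕ} (hp : p = 13 ∨ p = 17) : p ^ k % 4 = 1 := by
  rcases hp with rfl | rfl <;> simp [Nat.pow_mod]

theorem q_ge {q : ℕ} (h : q = 13 ∨ q = 17 ∨ 169 ≤ q) : 13 ≤ q := by omega

/-- the natural number `Φ₁₄(q)` -/
def na (q : ℕ) : ℕ := (q ^ 7 + 1) / (q + 1)

theorem na_mul (q : ℕ) : (q + 1) * na q = q ^ 7 + 1 := by
  unfold na
  refine Nat.mul_div_cancel' ?_
  have h := Odd.nat_add_dvd_pow_add_pow q 1 (show Odd 7 by decide)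
  rwa [one_pow] at h

theorem na_cast (q : ℕ) : (na q : ℤ) = Pa q := by
  have h := na_mul q
  have h1 : ((q : ℤ) + 1) * (na q : ℤ) = (q : ℤ) ^ 7 + 1 := by exact_mod_cast h
  have h2 : ((q : ℤ) + 1) * Pa q = (q : ℤ) ^ 7 + 1 := by unfold Pa; ring
  have h3 : ((q : ℤ) + 1) ≠ 0 := by positivity
  exact mul_left_cancel₀ h3 (h1.trans h2.symm)

/-- the natural number `Φ₁₈(q)` -/
def nb (q : ℕ) : ℕ := q ^ 6 - q ^ 3 + 1

theorem nb_cast {q : ℕ} (hq : 1 ≤ q) : (nb q : ℤ) = Pb q := by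
  unfold nb Pb
  have : q ^ 3 ≤ q ^ 6 := Nat.pow_le_pow_right hq (by norm_num)
  push_cast [Nat.cast_sub this]
  ring

theorem g7_dvd (q : ℕ) : Nat.gcd 7 (q + 1) ∣ na q := by
  have h1 : (Nat.gcd 7 (q + 1) : ℤ) ∣ Pa q := by
    have h2 : Pa q = ((q : ℤ) + 1) * ((q : ℤ) ^ 5 - 2 * q ^ 4 + 3 * q ^ 3 - 4 * q ^ 2 + 5 * q - 6) + 7 := by
      unfold Pa; ring
    rw [h2]
    refine dvd_add (Dvd.dvd.mul_right ?_ _) ?_
    · exact_mod_cast Nat.gcd_dvd_right 7 (q + 1)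
    · exact_mod_cast Nat.gcd_dvd_left 7 (q + 1)
  rw [← na_cast] at h1
  exact_mod_cast h1

theorem g3_dvd {q : ℕ} (hq : 1 ≤ q) : Nat.gcd 3 (q + 1) ∣ nb q := by
  have h1 : (Nat.gcd 3 (q + 1) : ℤ) ∣ Pb q := by
    have h2 : Pb q = ((q : ℤ) + 1) * ((q : ℤ) ^ 5 - q ^ 4 + q ^ 3 - 2 * q ^ 2 + 2 * q - 2) + 3 := by
      unfold Pb; ring
    rw [h2]
    refine dvd_add (Dvd.dvd.mul_right ?_ _) ?_
    · exact_mod_cast Nat.gcd_dvd_right 3 (q + 1)
    · exact_mod_cast Nat.gcd_dvd_left 3 (q + 1)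
  rw [← nb_cast hq] at h1
  exact_mod_cast h1

theorem NN14 (q : ℕ) : Nat.gcd 7 (q + 1) * NN q 14 = na q := by
  have h1 : NN q 14 = (q ^ 7 + 1) / ((q + 1) * Nat.gcd 7 (q + 1)) := rfl
  rw [h1, ← Nat.div_div_eq_div_mul]
  exact Nat.mul_div_cancel' (g7_dvd q)

theorem NN18 {q : ℕ} (hq : 1 ≤ q) : Nat.gcd 3 (q + 1) * NN q 18 = nb q := by
  have h1 : NN q 18 = (q ^ 6 - q ^ 3 + 1) / Nat.gcd 3 (q + 1) := rfl
  rw [h1]
  exact Nat.mul_div_cancel' (g3_dvd hq)

theorem TT14 {q : ℕ} (h4 : q % 4 = 1) : 2 * TT q 14 = (q + 1) * na q := by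
  have h1 : TT q 14 = (q ^ 7 + 1) / Nat.gcd 2 (q - 1) := rfl
  have h2 : Nat.gcd 2 (q - 1) = 2 := Nat.gcd_eq_left (by omega)
  rw [h1, h2, na_mul]
  refine Nat.mul_div_cancel' ?_
  have h3 := Odd.nat_add_dvd_pow_add_pow q 1 (show Odd 7 by decide)
  rw [one_pow] at h3
  exact (show 2 ∣ q + 1 by omega).trans h3

theorem TT18 {q : ℕ} (h4 : q % 4 = 1) : 2 * TT q 18 = (q + 1) * nb q := by
  have h1 : TT q 18 = (q + 1) * (q ^ 6 - q ^ 3 + 1) / Nat.gcd 2 (q - 1) := rfl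
  have h2 : Nat.gcd 2 (q - 1) = 2 := Nat.gcd_eq_left (by omega)
  rw [h1, h2]
  exact Nat.mul_div_cancel' ((show 2 ∣ q + 1 by omega).mul_right _)

/-- **The size argument.** -/
theorem num_final {q : ℕ} (hq : q = 13 ∨ q = 17 ∨ 169 ≤ q) (h4 : q % 4 = 1) {X Y w α β : ℕ}
    (h1 : NN q 14 ∣ X) (h2 : X * w ∣ TT q 14) (h3 : NN q 18 ∣ Y) (hX : 0 < X)
    (hα : 1 ≤ α) (hαw : α ≤ 3 * w) (h : |(α : ℤ) * X - β * Y| ≤ 2) : False := by
  have hq13 := q_ge hq
  obtain ⟨x, rfl⟩ := h1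
  obtain ⟨y, rfl⟩ := h3
  set g7 := Nat.gcd 7 (q + 1) with hg7
  set g3 := Nat.gcd 3 (q + 1) with hg3
  have hG : g7 * g3 ≤ 21 := gg q
  have hg7p : 0 < g7 := Nat.gcd_pos_of_pos_left _ (by norm_num)
  have hg3p : 0 < g3 := Nat.gcd_pos_of_pos_left _ (by norm_num)
  have e14 := NN14 q
  have e18 := NN18 (q := q) (by omega)
  have hNpos : 0 < NN q 14 := Nat.pos_of_mul_pos_right hX
  have hxpos : 0 < x := Nat.pos_of_mul_pos_left hX
  -- `2 x w ≤ (q + 1) g7`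
  have hT : 2 * (x * w) ≤ (q + 1) * g7 := by
    have h5 : NN q 14 * (2 * (x * w)) ∣ NN q 14 * ((q + 1) * g7) := by
      have h6 : 2 * (NN q 14 * x * w) ∣ 2 * TT q 14 := Nat.mul_dvd_mul_left 2 h2
      rw [TT14 h4, ← e14] at h6
      have e1 : NN q 14 * (2 * (x * w)) = 2 * (NN q 14 * x * w) := by ring
      have e2 : NN q 14 * ((q + 1) * g7) = (q + 1) * (g7 * NN q 14) := by ring
      rw [e1, e2]
      exact h6
    exact Nat.le_of_dvd (by positivity) (Nat.dvd_of_mul_dvd_mul_left hNpos h5)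
  have hmain : ((α * g3 * x : ℕ) : ℤ) * Pa q - ((β * g7 * y : ℕ) : ℤ) * Pb q =
      (g7 * g3 : ℕ) * ((α : ℤ) * (NN q 14 * x : ℕ) - β * (NN q 18 * y : ℕ)) := by
    rw [← na_cast, ← nb_cast (q := q) (by omega), ← e14, ← e18]
    push_cast
    ring
  have hle := num_core (q := q) (X := ((α * g3 * x : ℕ) : ℤ)) (Y := ((β * g7 * y : ℕ) : ℤ)) (by exact_mod_cast hq13)
    (by
      have : 0 < α * g3 * x := by positivity
      exact_mod_cast this) (e := (g7 * g3 : ℕ) * ((α : ℤ) * (NN q 14 * x : ℕ) - β * (NN q 18 * y : ℕ))) (by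
      rw [abs_mul]
      have h5 : |((g7 * g3 : ℕ) : ℤ)| ≤ 21 := by
        rw [abs_of_nonneg (by positivity)]
        exact_mod_cast hG
      calc _ ≤ (21 : ℤ) * 2 := mul_le_mul h5 h (abs_nonneg _) (by norm_num)
        _ = 42 := by norm_num) hmain
  have hle' : q ^ 2 ≤ α * g3 * x := by exact_mod_cast hle
  have hb := gbound hq
  rw [← hg7, ← hg3] at hb
  have h7 : 2 * (α * g3 * x) ≤ 3 * (g7 * g3) * (q + 1) := by
    calc 2 * (α * g3 * x) ≤ 2 * (3 * w * g3 * x) := by gcongr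
      _ = 3 * g3 * (2 * (x * w)) := by ring
      _ ≤ 3 * g3 * ((q + 1) * g7) := by gcongr
      _ = 3 * (g7 * g3) * (q + 1) := by ring
  omega

end Cfsg.Agent.H706.ESeven
end

-- part: H706/ESeven/RowF
section
/-!
# S3482: consequences of `Row` (helper706)

* `no_two` : the primes of the classes 14, 18 are not adjacent to 2; `no_two'` : `p = 2`, all four classes;
* `clash` : no odd prime is adjacent to a prime of class 14 or 18 and to a prime of class 7 or 9;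
* `ex_b` : a prime of class 7 or 9 divides `|S|`; `ex_a` : primes of the classes 14, 18.
-/

set_option autoImplicit false

namespace Cfsg.Agent.H706.ESeven

open Cfsg.Agent.H436 Cfsg.Agent.H962.E7

universe u

theorem two_le_q {p k : ℕ} {S : Type u} [Group S] (R : Row p k S) : 2 ≤ p ^ k :=
  le_trans R.hp.two_le (Nat.le_self_pow (by have := R.hk; omega) p)

/-- `q ^ i ≡ -1`, `q ^ j ≡ 1` with odd exponents -/
theorem odd_clash {q i j s : ℕ} (hq : 1 ≤ q) (hi : Odd i) (hj : Odd j) (h1 : s ∣ q ^ i + 1) (h2 : s ∣ q ^ j - 1) :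
    s ∣ 2 := by
  have h3 : s ∣ q ^ (i * j) + 1 := by
    rw [pow_mul]
    have := hj.nat_add_dvd_pow_add_pow (q ^ i) 1
    rw [one_pow] at this
    exact h1.trans this
  have h4 : s ∣ q ^ (i * j) - 1 := by
    rw [mul_comm i j, pow_mul]
    have := Nat.sub_dvd_pow_sub_pow (q ^ j) 1 i
    rw [one_pow] at this
    exact h2.trans this
  have h5 := Nat.dvd_sub h3 h4
  have h6 : 1 ≤ q ^ (i * j) := Nat.one_le_pow _ _ hq
  rwa [show q ^ (i * j) + 1 - (q ^ (i * j) - 1) = 2 by omega] at h5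

theorem nb_mul {q : ℕ} (hq : 1 ≤ q) : (q ^ 3 + 1) * (q ^ 6 - q ^ 3 + 1) = q ^ 9 + 1 := by
  have h : q ^ 3 ≤ q ^ 6 := Nat.pow_le_pow_right hq (by norm_num)
  zify [h]
  ring

theorem nc_mul {q : ℕ} (hq : 1 ≤ q) : (q ^ 3 - 1) * (q ^ 6 + q ^ 3 + 1) = q ^ 9 - 1 := by
  have h : 1 ≤ q ^ 3 := Nat.one_le_pow _ _ hq
  have h' : 1 ≤ q ^ 9 := Nat.one_le_pow _ _ hq
  zify [h, h']
  ring

theorem TT_top {q a : ℕ} (hq : 2 ≤ q) (ha : a = 14 ∨ a = 18) : ∃ i, Odd i ∧ TT q a ∣ q ^ i + 1 := by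
  have h2 : q % 2 = 0 ∨ q % 2 = 1 := Nat.mod_two_eq_zero_or_one q
  have hg : Nat.gcd 2 (q - 1) ∣ q + 1 := by
    rcases h2 with h | h
    · rw [Nat.Coprime.gcd_eq_one (Nat.coprime_two_left.2 (by rw [Nat.odd_iff]; omega))]
      exact one_dvd _
    · exact (Nat.gcd_dvd_left _ _).trans (by omega)
  rcases ha with rfl | rfl
  · refine ⟨7, by decide, ?_⟩
    have h3 : TT q 14 = (q ^ 7 + 1) / Nat.gcd 2 (q - 1) := rfl
    rw [h3]
    refine Nat.div_dvd_of_dvd (hg.trans ?_)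
    have h4 := Odd.nat_add_dvd_pow_add_pow q 1 (show Odd 7 by decide)
    rwa [one_pow] at h4
  · refine ⟨9, by decide, ?_⟩
    have h3 : TT q 18 = (q + 1) * (q ^ 6 - q ^ 3 + 1) / Nat.gcd 2 (q - 1) := rfl
    rw [h3]
    refine (Nat.div_dvd_of_dvd (hg.mul_right _)).trans ?_
    rw [← nb_mul (by omega)]
    refine Nat.mul_dvd_mul_right ?_ _
    have h4 := Odd.nat_add_dvd_pow_add_pow q 1 (show Odd 3 by decide)
    rwa [one_pow] at h4

theorem TT_bot {q b : ℕ} (hq : 2 ≤ q) (hb : b = 7 ∨ b = 9) : ∃ j, Odd j ∧ TT q b ∣ q ^ j - 1 := by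
  rcases hb with rfl | rfl
  · refine ⟨7, by decide, ?_⟩
    have h3 : TT q 7 = (q ^ 7 - 1) / Nat.gcd 2 (q - 1) := rfl
    rw [h3]
    refine Nat.div_dvd_of_dvd ((Nat.gcd_dvd_right _ _).trans ?_)
    have := Nat.sub_dvd_pow_sub_pow q 1 7
    rwa [one_pow] at this
  · refine ⟨9, by decide, ?_⟩
    have h3 : TT q 9 = (q - 1) * (q ^ 6 + q ^ 3 + 1) / Nat.gcd 2 (q - 1) := rfl
    rw [h3]
    refine (Nat.div_dvd_of_dvd ((Nat.gcd_dvd_right _ _).mul_right _)).trans ?_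
    rw [← nc_mul (by omega)]
    refine Nat.mul_dvd_mul_right ?_ _
    have := Nat.sub_dvd_pow_sub_pow q 1 3
    rwa [one_pow] at this

/-- `q ≡ 1 (mod 4)` -/
theorem TT_odd {q a : ℕ} (h4 : q % 4 = 1) (ha : a = 14 ∨ a = 18) : TT q a % 2 = 1 := by
  have hp : ∀ n, q ^ n % 4 = 1 := fun n => by simp [Nat.pow_mod, h4]
  rcases ha with rfl | rfl
  · have h1 := TT14 h4
    rw [na_mul] at h1
    have h2 := hp 7
    omega
  · have h1 := TT18 h4
    have h2 := hp 6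
    have h3 := hp 3
    have h5 : q ^ 3 ≤ q ^ 6 := Nat.pow_le_pow_right (by omega) (by norm_num)
    have h6 : nb q % 4 = 1 := by
      unfold nb
      omega
    have h7 : ((q + 1) * nb q) % 4 = 2 := by
      rw [Nat.mul_mod, h6, show (q + 1) % 4 = 2 by omega]
    omega

/-- `q` even -/
theorem TT_odd' {q a : ℕ} (hq : 2 ≤ q) (h2 : q % 2 = 0) (ha : a ∈ C4) : TT q a % 2 = 1 := by
  have hg : Nat.gcd 2 (q - 1) = 1 := Nat.coprime_two_left.2 (by rw [Nat.odd_iff]; omega)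
  have hp : ∀ n, n ≠ 0 → q ^ n % 2 = 0 := fun n hn => by
    rw [Nat.pow_mod, h2, Nat.zero_pow (Nat.pos_of_ne_zero hn)]
  have h7 := hp 7 (by norm_num)
  have h6 := hp 6 (by norm_num)
  have h3 := hp 3 (by norm_num)
  have hle : q ^ 3 ≤ q ^ 6 := Nat.pow_le_pow_right (by omega) (by norm_num)
  have h1le : 1 ≤ q ^ 7 := Nat.one_le_pow _ _ (by omega)
  have hC : a = 7 ∨ a = 9 ∨ a = 14 ∨ a = 18 := by simpa [C4] using ha
  rcases hC with rfl | rfl | rfl | rfl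
  · change (q ^ 7 - 1) / Nat.gcd 2 (q - 1) % 2 = 1
    rw [hg, Nat.div_one]
    omega
  · change (q - 1) * (q ^ 6 + q ^ 3 + 1) / Nat.gcd 2 (q - 1) % 2 = 1
    rw [hg, Nat.div_one, ← Nat.odd_iff]
    refine Odd.mul ?_ ?_ <;> (rw [Nat.odd_iff]; omega)
  · change (q ^ 7 + 1) / Nat.gcd 2 (q - 1) % 2 = 1
    rw [hg, Nat.div_one]
    omega
  · change (q + 1) * (q ^ 6 - q ^ 3 + 1) / Nat.gcd 2 (q - 1) % 2 = 1
    rw [hg, Nat.div_one, ← Nat.odd_iff]
    refine Odd.mul ?_ ?_ <;> (rw [Nat.odd_iff]; omega)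

section row

variable {p k : ℕ} {S : Type u} [Group S]

theorem mem_C4 {a : ℕ} (ha : a = 14 ∨ a = 18) : a ∈ C4 := by
  rcases ha with rfl | rfl <;> decide

theorem mem_C4' {b : ℕ} (hb : b = 7 ∨ b = 9) : b ∈ C4 := by
  rcases hb with rfl | rfl <;> decide

theorem C4_sub {a : ℕ} (ha : a ∈ C4) : a ∈ C8 := by
  have hC : a = 7 ∨ a = 9 ∨ a = 14 ∨ a = 18 := by simpa [C4] using ha
  rcases hC with rfl | rfl | rfl | rfl <;> decide

/-- all four classes, `p = 2` -/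
theorem no_two' (R : Row p k S) (hp : p = 2) {a : ℕ} (ha : a ∈ C4) {r : ℕ} (h : Prim (p ^ k) a r) :
    ¬ ∃ g : S, orderOf g = 2 * r := by
  rintro ⟨g, hg⟩
  have h1 := R.tor a ha g r h (hg ▸ Dvd.intro_left 2 rfl)
  rw [hg] at h1
  have h2 : (p ^ k) % 2 = 0 := by
    rw [hp, Nat.pow_mod]
    simp [show k ≠ 0 by have := R.hk; omega]
  have h3 := TT_odd' (two_le_q R) h2 ha
  have h4 : 2 ∣ TT (p ^ k) a := (Dvd.intro _ rfl).trans h1
  omega

/-- the classes 14, 18 -/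
theorem no_two (R : Row p k S) {a : ℕ} (ha : a = 14 ∨ a = 18) {r : ℕ} (h : Prim (p ^ k) a r) :
    ¬ ∃ g : S, orderOf g = 2 * r := by
  rcases R.cas with hp | hp
  · exact no_two' R hp (mem_C4 ha) h
  · rintro ⟨g, hg⟩
    have h1 := R.tor a (mem_C4 ha) g r h (hg ▸ Dvd.intro_left 2 rfl)
    rw [hg] at h1
    have h3 := TT_odd (q_mod (k := k) hp) ha
    have h4 : 2 ∣ TT (p ^ k) a := (Dvd.intro _ rfl).trans h1
    omega

theorem clash (R : Row p k S) {a b r w s : ℕ} (ha : a = 14 ∨ a = 18) (hb : b = 7 ∨ b = 9) (hr : Prim (p ^ k) a r)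
    (hw : Prim (p ^ k) b w) (hs : s.Prime) (hs2 : s ≠ 2) (h1 : ∃ x : S, orderOf x = r * s)
    (h2 : ∃ x : S, orderOf x = w * s) : False := by
  obtain ⟨x, hx⟩ := h1
  obtain ⟨y, hy⟩ := h2
  have h3 := R.tor a (mem_C4 ha) x r hr (hx ▸ Dvd.intro s rfl)
  have h4 := R.tor b (mem_C4' hb) y w hw (hy ▸ Dvd.intro s rfl)
  obtain ⟨i, hi, h5⟩ := TT_top (two_le_q R) ha
  obtain ⟨j, hj, h6⟩ := TT_bot (two_le_q R) hb
  have h7 : s ∣ 2 := odd_clash (by have := two_le_q R; omega) hi hj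
    (((Dvd.intro_left r rfl).trans (hx ▸ h3)).trans h5) (((Dvd.intro_left w rfl).trans (hy ▸ h4)).trans h6)
  exact hs2 ((Nat.prime_dvd_prime_iff_eq hs Nat.prime_two).1 h7)

theorem ex_of_fl (R : Row p k S) {a : ℕ} (ha : a ∈ C4) (h : Fl S (p ^ k) a) :
    ∃ r, Prim (p ^ k) a r ∧ r ∣ Nat.card S := by
  have hC : a = 7 ∨ a = 9 ∨ a = 14 ∨ a = 18 := by simpa [C4] using ha
  obtain ⟨r, hr⟩ := exists_prim (e := a) (two_le_q R) (by omega) (by omega)
  exact ⟨r, hr, h.dvd r hr⟩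

theorem ex_a (R : Row p k S) {a : ℕ} (ha : a = 14 ∨ a = 18) : ∃ r, Prim (p ^ k) a r ∧ r ∣ Nat.card S :=
  ex_of_fl R (mem_C4 ha) (R.top a (by rcases ha with rfl | rfl <;> decide))

theorem ex_b (R : Row p k S) : ∃ b, (b = 7 ∨ b = 9) ∧ ∃ w, Prim (p ^ k) b w ∧ w ∣ Nat.card S := by
  rcases R.one 7 (by decide) 9 (by decide) (by decide) with h | h
  · exact ⟨7, Or.inl rfl, ex_of_fl R (by decide) h⟩
  · exact ⟨9, Or.inr rfl, ex_of_fl R (by decide) h⟩

end row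

end Cfsg.Agent.H706.ESeven
end

-- part: H706/ESeven/NNP
section
/-!
# S3482: the primes of `NN q 14`, `NN q 18` (helper706)
-/

set_option autoImplicit false

namespace Cfsg.Agent.H706.ESeven

open Cfsg.Agent.H436 Cfsg.Agent.H962.E7 Cfsg.Agent.H72.AdjOrth

theorem prim_of_ee {q a r : ℕ} (hq : 1 ≤ q) (hr : r.Prime) (hrq : ¬ r ∣ q) (h : ee q r = a) : Prim q a r := by
  refine ⟨hr, fun m => ⟨fun hd => h ▸ ee_dvd hq hd, fun hd => ?_⟩, hrq⟩
  obtain ⟨c, rfl⟩ := hd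
  have h1 := dvd_pow_ee (q := q) (r := r) hq
  rw [h] at h1
  have h2 := Nat.sub_dvd_pow_sub_pow (q ^ a) 1 c
  rw [one_pow, ← pow_mul] at h2
  exact h1.trans h2

theorem not_dvd_of_add {q j r : ℕ} (hr : r.Prime) (hj : j ≠ 0) (h : r ∣ q ^ j + 1) : ¬ r ∣ q := by
  intro h1
  have h2 := (Nat.dvd_add_right (dvd_pow h1 hj)).1 h
  exact hr.one_lt.ne' (Nat.dvd_one.1 h2)

theorem sub_mul_add {q j : ℕ} : q ^ (2 * j) - 1 = (q ^ j + 1) * (q ^ j - 1) := by
  rw [two_mul, pow_add]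
  have := Nat.mul_self_sub_mul_self_eq (q ^ j) 1
  rw [one_mul] at this
  exact this

theorem ee_dvd_two {q j r : ℕ} (hq : 1 ≤ q) (h : r ∣ q ^ j + 1) : ee q r ∣ 2 * j :=
  ee_dvd hq (by rw [sub_mul_add]; exact h.mul_right _)

theorem not_ee_dvd {q j r : ℕ} (hq : 1 ≤ q) (hr : r.Prime) (hr2 : r ≠ 2) (h : r ∣ q ^ j + 1) : ¬ ee q r ∣ j := by
  rintro ⟨c, hc⟩
  have h1 := dvd_pow_ee (q := q) (r := r) hq
  have h2 := Nat.sub_dvd_pow_sub_pow (q ^ ee q r) 1 c
  rw [one_pow, ← pow_mul, ← hc] at h2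
  have h3 := Nat.dvd_sub h (h1.trans h2)
  have h4 : 1 ≤ q ^ j := Nat.one_le_pow _ _ hq
  rw [show q ^ j + 1 - (q ^ j - 1) = 2 by omega] at h3
  exact hr2 ((Nat.prime_dvd_prime_iff_eq hr Nat.prime_two).1 h3)

theorem nb_odd {q : ℕ} (hq : 1 ≤ q) : nb q % 2 = 1 := by
  unfold nb
  have h : q ^ 3 ≤ q ^ 6 := Nat.pow_le_pow_right hq (by norm_num)
  have h1 : q ^ 6 % 2 = q ^ 3 % 2 := by
    rcases Nat.mod_two_eq_zero_or_one q with h | h <;> simp only [Nat.pow_mod, h, _root_.Nat.pow_mod, _root_.ne_eq, _root_.OfNat.ofNat_ne_zero, _root_.not_false_eq_true, _root_.zero_pow, _root_.Nat.zero_mod, _root_.one_pow, _root_.Nat.mod_succ]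
  omega

theorem na_odd (q : ℕ) : na q % 2 = 1 := by
  have h := na_cast q
  have h1 : (na q : ℤ) % 2 = 1 := by
    rw [h, Pa]
    rcases Int.emod_two_eq_zero_or_one (q : ℤ) with h2 | h2 <;>
      simp only [Int.sub_emod, Int.add_emod, pow_succ, Int.mul_emod, h2, _root_.pow_succ, _root_.pow_zero, _root_.one_mul, _root_.Int.add_emod, _root_.Int.sub_emod, _root_.Int.mul_emod, _root_.MulZeroClass.mul_zero, _root_.EuclideanDomain.zero_mod, _root_.sub_self, _root_.add_zero, _root_.Int.one_emod_two, _root_.zero_add, _root_.mul_one]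
  omega

theorem nn_prim14 {q r : ℕ} (hq : 2 ≤ q) (hr : r.Prime) (h : r ∣ NN q 14) : Prim q 14 r := by
  have h1 := NN14 q
  have h2 : r ∣ na q := h1 ▸ h.mul_left _
  have h3 : r ∣ q ^ 7 + 1 := by
    rw [← na_mul]
    exact h2.mul_left _
  have hr2 : r ≠ 2 := by
    rintro rfl
    have := na_odd q
    omega
  have hrq := not_dvd_of_add hr (by norm_num) h3
  have h4 := ee_dvd_two (by omega) h3
  have h5 := not_ee_dvd (by omega) hr hr2 h3
  refine prim_of_ee (by omega) hr hrq ?_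
  have h6 : ¬ ee q r ∣ 2 := by
    intro h6
    have h7 : r ∣ q ^ (2 * 1) - 1 := (prim_of_ee (a := ee q r) (by omega) hr hrq rfl).dvd (by simpa using h6)
    rw [sub_mul_add] at h7
    have h8 : r ∣ q + 1 := by
      rcases hr.dvd_mul.1 h7 with h8 | h8
      · rwa [pow_one] at h8
      · exact absurd ((ee_dvd (by omega) h8).trans (one_dvd 7)) h5
    have h9 : (r : ℤ) ∣ 7 := by
      have e1 : (r : ℤ) ∣ Pa q := by
        rw [← na_cast]
        exact_mod_cast h2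
      have e2 : (r : ℤ) ∣ (q : ℤ) + 1 := by exact_mod_cast h8
      have e3 : (7 : ℤ) = Pa q - ((q : ℤ) + 1) * ((q : ℤ) ^ 5 - 2 * q ^ 4 + 3 * q ^ 3 - 4 * q ^ 2 + 5 * q - 6) := by
        unfold Pa; ring
      rw [e3]
      exact dvd_sub e1 (e2.mul_right _)
    have h10 : r = 7 := by
      have : r ∣ 7 := by exact_mod_cast h9
      exact (Nat.prime_dvd_prime_iff_eq hr (by norm_num)).1 this
    rw [h10] at h8 h
    have h11 : Nat.gcd 7 (q + 1) = 7 := Nat.gcd_eq_left h8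
    rw [h11] at h1
    have h12 : 49 ∣ na q := by
      rw [← h1]
      exact Nat.mul_dvd_mul_left 7 h
    have h13 : (49 : ℤ) ∣ Pa q := by
      rw [← na_cast]
      exact_mod_cast h12
    obtain ⟨t, ht⟩ := h8
    have h14 : (q : ℤ) = 7 * t - 1 := by
      have : ((q : ℤ) + 1) = 7 * t := by exact_mod_cast ht
      linarith only [ht]
    have h15 : Pa q = 7 + 49 * (-3 * t + 35 * t ^ 2 - 245 * t ^ 3 + 1029 * t ^ 4 - 2401 * t ^ 5 + 2401 * t ^ 6) := by
      rw [h14]; unfold Pa; ring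
    rw [h15] at h13
    have h16 : (49 : ℤ) ∣ 7 := (dvd_add_left (Dvd.intro _ rfl)).1 h13
    (clear * - h13; solve | lia | omega)
  have h7 : ee q r ≤ 14 := Nat.le_of_dvd (by norm_num) h4
  have h8 : 1 ≤ ee q r := ee_pos hr hrq
  interval_cases ee q r <;> revert h4 h5 h6 <;> decide

theorem nn_prim18 {q r : ℕ} (hq : 2 ≤ q) (hr : r.Prime) (h : r ∣ NN q 18) : Prim q 18 r := by
  have h1 := NN18 (q := q) (by omega)
  have h2 : r ∣ nb q := h1 ▸ h.mul_left _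
  have h3 : r ∣ q ^ 9 + 1 := by
    rw [← nb_mul (by omega)]
    exact h2.mul_left _
  have hr2 : r ≠ 2 := by
    rintro rfl
    have := nb_odd (q := q) (by omega)
    omega
  have hrq := not_dvd_of_add hr (by norm_num) h3
  have h4 := ee_dvd_two (by omega) h3
  have h5 := not_ee_dvd (by omega) hr hr2 h3
  refine prim_of_ee (by omega) hr hrq ?_
  have h6 : ¬ ee q r ∣ 6 := by
    intro h6
    have h7 : r ∣ q ^ (2 * 3) - 1 := (prim_of_ee (a := ee q r) (by omega) hr hrq rfl).dvd (by simpa using h6)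
    rw [sub_mul_add] at h7
    have h8 : r ∣ q ^ 3 + 1 := by
      rcases hr.dvd_mul.1 h7 with h8 | h8
      · exact h8
      · exact absurd ((ee_dvd (by omega) h8).trans (show 3 ∣ 9 by norm_num)) h5
    have h9 : (r : ℤ) ∣ 3 := by
      have e1 : (r : ℤ) ∣ Pb q := by
        rw [← nb_cast (by omega)]
        exact_mod_cast h2
      have e2 : (r : ℤ) ∣ (q : ℤ) ^ 3 + 1 := by exact_mod_cast h8
      have e3 : (3 : ℤ) = Pb q - ((q : ℤ) ^ 3 + 1) * ((q : ℤ) ^ 3 - 2) := by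
        unfold Pb; ring
      rw [e3]
      exact dvd_sub e1 (e2.mul_right _)
    have h10 : r = 3 := by
      have : r ∣ 3 := by exact_mod_cast h9
      exact (Nat.prime_dvd_prime_iff_eq hr (by norm_num)).1 this
    rw [h10] at h8 h
    have h8' : q % 3 = 2 := by
      have h9 : (q ^ 3 + 1) % 3 = 0 := Nat.mod_eq_zero_of_dvd h8
      have h11 : q % 3 = 0 ∨ q % 3 = 1 ∨ q % 3 = 2 := by omega
      rcases h11 with h | h | h
      · have : q ^ 3 % 3 = 0 := by simp [Nat.pow_mod, h]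
        omega
      · have : q ^ 3 % 3 = 1 := by simp [Nat.pow_mod, h]
        omega
      · exact h
    have h11 : Nat.gcd 3 (q + 1) = 3 := Nat.gcd_eq_left (by omega)
    rw [h11] at h1
    have h12 : 9 ∣ nb q := by
      rw [← h1]
      exact Nat.mul_dvd_mul_left 3 h
    have h13 : q ^ 3 % 9 = 8 ∧ q ^ 6 % 9 = 1 := by
      have h14 : q % 9 = 2 ∨ q % 9 = 5 ∨ q % 9 = 8 := by (clear * - h8'; omega)
      rcases h14 with h | h | h <;> simp [Nat.pow_mod, h]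
    have h14 : q ^ 3 ≤ q ^ 6 := Nat.pow_le_pow_right (by omega) (by norm_num)
    unfold nb at h12
    (clear * - h12 h13; omega)
  have h7 : ee q r ≤ 18 := Nat.le_of_dvd (by norm_num) h4
  have h8 : 1 ≤ ee q r := ee_pos hr hrq
  interval_cases ee q r <;> revert h4 h5 h6 <;> decide

end Cfsg.Agent.H706.ESeven
end

-- part: H706/ESeven/Comm
section
/-!
# S3482, rows `PΩ±`: the common part (helper706)
-/

set_option autoImplicit false

namespace Cfsg.Agent.H706.ESeven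

open Cfsg Cfsg.Agent.H436 Cfsg.Agent.H962.E7 Cfsg.Agent.H72.AdjOrth Cfsg.Agent.H377

universe u

theorem exists_odd_prime {v : ℕ} (hv : 2 ≤ v) (h3 : v ≠ 3) : ∃ s, s.Prime ∧ s ≠ 2 ∧ (s ∣ v + 1 ∨ s ∣ v - 1) := by
  have key : ∀ N : ℕ, N % 2 = 1 → N ≠ 1 → ∃ s, s.Prime ∧ s ≠ 2 ∧ s ∣ N := by
    intro N hN h1
    refine ⟨N.minFac, Nat.minFac_prime h1, ?_, Nat.minFac_dvd N⟩
    intro h
    have := Nat.minFac_dvd N
    rw [h] at this
    omega
  rcases Nat.mod_two_eq_zero_or_one v with h | h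
  · obtain ⟨s, h1, h2, h4⟩ := key (v + 1) (by omega) (by omega)
    exact ⟨s, h1, h2, Or.inl h4⟩
  · obtain ⟨j, hj⟩ : ∃ j, v = 2 * j + 1 := ⟨v / 2, by omega⟩
    rcases Nat.mod_two_eq_zero_or_one j with h' | h'
    · obtain ⟨s, h1, h2, h4⟩ := key (j + 1) (by omega) (by omega)
      refine ⟨s, h1, h2, Or.inl (h4.trans ⟨2, by omega⟩)⟩
    · obtain ⟨s, h1, h2, h4⟩ := key j (by omega) (by omega)
      refine ⟨s, h1, h2, Or.inr (h4.trans ⟨2, by (clear * - hj; omega)⟩)⟩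

section row

variable {p k : ℕ} {S : Type u} [Group S] {F : Type} [Field F] [Finite F] {m : ℕ} {δ : ℤ}

/-- the classes of nonadjacent primes -/
theorem ee_ne (R : Row p k S) (C : Ctx S F m δ) {a b x y : ℕ} (ha : a ∈ C4) (hb : b ∈ C4) (hab : a ≠ b)
    (hx : Prim (p ^ k) a x) (hy : Prim (p ^ k) b y) (hd : x ∣ Nat.card S) (hxv : ¬ x ∣ Nat.card F)
    (hyv : ¬ y ∣ Nat.card F) : ee (Nat.card F) x ≠ ee (Nat.card F) y := by
  intro h
  have h2 : ∀ c ∈ C4, 2 ≤ c := by decide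
  have hx2 := hx.odd (h2 a ha)
  have hy2 := hy.odd (h2 b hb)
  refine R.nad a (C4_sub ha) b (C4_sub hb) hab x y hx hy
    (C.clq hx.prime hy.prime (by omega) (by omega) ?_ hxv hyv hd h)
  rintro rfl
  exact hab (hx.unique hy)

theorem c4_odd {a x : ℕ} (ha : a ∈ C4) (hx : Prim (p ^ k) a x) : Odd x ∧ x ≠ 2 := by
  have h2 : ∀ c ∈ C4, 2 ≤ c := by decide
  have hx2 := hx.odd (h2 a ha)
  exact ⟨Nat.odd_iff.2 hx2, by omega⟩

theorem not_adj (R : Row p k S) {a b x y : ℕ} (ha : a ∈ C4) (hb : b ∈ C4) (hab : a ≠ b)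
    (hx : Prim (p ^ k) a x) (hy : Prim (p ^ k) b y) : ¬ ∃ g : S, orderOf g = x * y :=
  R.nad a (C4_sub ha) b (C4_sub hb) hab x y hx hy

/-- the top classes of the primes of the classes 14, 18 -/
theorem top_a (R : Row p k S) (C : Ctx S F m δ) {a x : ℕ} (ha : a = 14 ∨ a = 18) (hx : Prim (p ^ k) a x)
    (hd : x ∣ Nat.card S) : ¬ x ∣ Nat.card F ∧ Top m δ (ee (Nat.card F) x) :=
  C.top hx.prime (c4_odd (mem_C4 ha) hx).2 hd (no_two R ha hx)

private theorem four_three {a b c e1 e2 e3 e4 : ℕ} (h1 : e1 = a ∨ e1 = b ∨ e1 = c) (h2 : e2 = a ∨ e2 = b ∨ e2 = c)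
    (h3 : e3 = a ∨ e3 = b ∨ e3 = c) (h4 : e4 = a ∨ e4 = b ∨ e4 = c) (h12 : e1 ≠ e2) (h13 : e1 ≠ e3) (h14 : e1 ≠ e4)
    (h23 : e2 ≠ e3) (h24 : e2 ≠ e4) (h34 : e3 ≠ e4) : False := by
  rcases h2 with rfl | rfl | rfl <;> rcases h3 with h3 | h3 | h3 <;> rcases h4 with h4 | h4 | h4 <;>
    first
    | exact h23 h3.symm
    | exact h24 h4.symm
    | exact h34 (h3.trans h4.symm)
    | (rcases h1 with h1 | h1 | h1 <;>
        first | exact h12 h1 | exact h13 (h1.trans h3.symm) | exact h14 (h1.trans h4.symm))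

/-- `p = 2` -/
theorem two_false (R : Row p k S) (hp : p = 2) (C : Ctx S F m δ) : False := by
  have key : ∀ a ∈ C4, ∃ r, Prim (p ^ k) a r ∧ r ∣ Nat.card S ∧ ¬ r ∣ Nat.card F ∧
      Top m δ (ee (Nat.card F) r) := by
    intro a ha
    obtain ⟨r, h1, h2⟩ := ex_of_fl R ha (R.even hp a ha)
    exact ⟨r, h1, h2, C.top h1.prime (c4_odd ha h1).2 h2 (no_two' R hp ha h1)⟩
  obtain ⟨r1, a1, b1, c1, d1⟩ := key 7 (by decide)
  obtain ⟨r2, a2, b2, c2, d2⟩ := key 9 (by decide)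
  obtain ⟨r3, a3, b3, c3, d3⟩ := key 14 (by decide)
  obtain ⟨r4, a4, b4, c4, d4⟩ := key 18 (by decide)
  have h12 := ee_ne R C (by decide) (by decide) (by decide) a1 a2 b1 c1 c2
  have h13 := ee_ne R C (by decide) (by decide) (by decide) a1 a3 b1 c1 c3
  have h14 := ee_ne R C (by decide) (by decide) (by decide) a1 a4 b1 c1 c4
  have h23 := ee_ne R C (by decide) (by decide) (by decide) a2 a3 b2 c2 c3
  have h24 := ee_ne R C (by decide) (by decide) (by decide) a2 a4 b2 c2 c4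
  have h34 := ee_ne R C (by decide) (by decide) (by decide) a3 a4 b3 c3 c4
  unfold Top at d1 d2 d3 d4
  generalize ee (Nat.card F) r1 = e1 at *
  generalize ee (Nat.card F) r2 = e2 at *
  generalize ee (Nat.card F) r3 = e3 at *
  generalize ee (Nat.card F) r4 = e4 at *
  rcases C.hδ with hδ | hδ
  · have f : ∀ {e : ℕ}, (e = 2 * (m - 1) ∨ (Odd (m - 1) ∧ e = m - 1) ∨ (δ = 1 ∧ Odd m ∧ e = m) ∨ (δ = -1 ∧ e = 2 * m)) →
        e = 2 * (m - 1) ∨ e = m - 1 ∨ e = m := by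
      intro e h
      rcases h with h | ⟨-, h⟩ | ⟨-, -, h⟩ | ⟨h, -⟩
      · exact Or.inl h
      · exact Or.inr (Or.inl h)
      · exact Or.inr (Or.inr h)
      · omega
    exact four_three (f d1) (f d2) (f d3) (f d4) h12 h13 h14 h23 h24 h34
  · have f : ∀ {e : ℕ}, (e = 2 * (m - 1) ∨ (Odd (m - 1) ∧ e = m - 1) ∨ (δ = 1 ∧ Odd m ∧ e = m) ∨ (δ = -1 ∧ e = 2 * m)) →
        e = 2 * (m - 1) ∨ e = m - 1 ∨ e = 2 * m := by
      intro e h
      rcases h with h | ⟨-, h⟩ | ⟨h, -⟩ | ⟨-, h⟩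
      · exact Or.inl h
      · exact Or.inr (Or.inl h)
      · omega
      · exact Or.inr (Or.inr h)
    exact four_three (f d1) (f d2) (f d3) (f d4) h12 h13 h14 h23 h24 h34

/-- **The clash**: `s` odd prime dividing `v² - 1`, adjacent to a prime of class 14 or 18 and not to 2 … -/
theorem clash_s (R : Row p k S) (C : Ctx S F m δ) {a b x w s : ℕ} (ha : a = 14 ∨ a = 18) (hb : b = 7 ∨ b = 9)
    (hx : Prim (p ^ k) a x) (hw : Prim (p ^ k) b w) (hwt : wO (Nat.card F) w + 2 ≤ m)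
    (hs : s.Prime) (hs2 : s ≠ 2) (hsv : s ∣ Nat.card F + 1 ∨ s ∣ Nat.card F - 1) (h1 : ∃ g : S, orderOf g = x * s) :
    False := by
  have hsv2 : s ∣ Nat.card F ^ 2 - 1 := by
    have e1 : Nat.card F ^ (2 * 1) - 1 = (Nat.card F ^ 1 + 1) * (Nat.card F ^ 1 - 1) := sub_mul_add
    rw [mul_one, pow_one] at e1
    rw [e1]
    rcases hsv with h | h
    · exact h.mul_right _
    · exact h.mul_left _
  obtain ⟨-, h2, -⟩ := one_of_dvd (F := F) hs hs2 hsv2
  have hab : a ≠ b := by rcases ha with rfl | rfl <;> rcases hb with rfl | rfl <;> decide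
  have hne : w ≠ s := by
    rintro rfl
    exact not_adj R (mem_C4 ha) (mem_C4' hb) hab hx hw h1
  exact clash R ha hb hx hw hs hs2 h1 (C.adj hw.prime hs hne (by rw [h2]; omega))

end row

end Cfsg.Agent.H706.ESeven
end

-- part: H706/ESeven/Plus
section
/-!
# S3482, row `PΩ⁺` (helper706)
-/

set_option autoImplicit false

namespace Cfsg.Agent.H706.ESeven

open Cfsg Cfsg.Agent.H436 Cfsg.Agent.H962.E7 Cfsg.Agent.H72.AdjOrth Cfsg.Agent.H377

universe u

variable {p k : ℕ} {S : Type u} [Group S] {F : Type} [Field F] [Finite F] {m : ℕ}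

theorem plus_core (R : Row p k S) (C : Ctx S F m 1) {a a' b x y w : ℕ} (ha : a = 14 ∨ a = 18)
    (ha' : a' = 14 ∨ a' = 18) (hb : b = 7 ∨ b = 9) (hx : Prim (p ^ k) a x) (hy : Prim (p ^ k) a' y)
    (hw : Prim (p ^ k) b w) (hxv : ¬ x ∣ Nat.card F) (hyv : ¬ y ∣ Nat.card F)
    (hxc : ee (Nat.card F) x = 2 * (m - 1))
    (hyc : ee (Nat.card F) y = m - 1 ∨ ee (Nat.card F) y = m)
    (hwt : wO (Nat.card F) w + 2 ≤ m) : False := by
  have hm := C.hm
  obtain ⟨hxo, hx2⟩ := c4_odd (mem_C4 ha) hx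
  obtain ⟨hyo, hy2⟩ := c4_odd (mem_C4 ha') hy
  have hX := dvd_of_even hx.prime hxv hxc
  by_cases hv3 : Nat.card F = 3
  · refine no_two R ha hx (C.two_blk (ε := -1) (ε' := -1) (by norm_num) hxo (elt_tor_minus (by (clear * - hm; omega)) hX)
      (elt_ell ?_))
    rw [hv3]
  · obtain ⟨s, hs, hs2, hsv⟩ := exists_odd_prime (v := Nat.card F) (Finite.one_lt_card) hv3
    have hso := hs.odd_of_ne_two hs2
    have hsv2 : s ∣ Nat.card F ^ 2 - 1 := by
      have e1 : Nat.card F ^ (2 * 1) - 1 = (Nat.card F ^ 1 + 1) * (Nat.card F ^ 1 - 1) := sub_mul_add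
      rw [mul_one, pow_one] at e1
      rw [e1]
      rcases hsv with h | h
      · exact h.mul_right _
      · exact h.mul_left _
    obtain ⟨-, -, hes⟩ := one_of_dvd (F := F) hs hs2 hsv2
    rcases hsv with h | h
    · have hne : x ≠ s := by
        rintro rfl
        (clear * - hxc hm hes; omega)
      exact clash_s R C ha hb hx hw hwt hs hs2 (Or.inl h)
        (C.blk (ε := -1) (ε' := -1) (by norm_num) hxo hso ((Nat.coprime_primes hx.prime hs).2 hne)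
          (elt_tor_minus (by (clear * - hm; omega)) hX) (elt_ell h))
    · have hne : y ≠ s := by
        rintro rfl
        (clear * - hyc hm hes; omega)
      have hco := (Nat.coprime_primes hy.prime hs).2 hne
      refine clash_s R C ha' hb hy hw hwt hs hs2 (Or.inr h) ?_
      rcases hyc with hyc | hyc
      · exact C.blk (ε := 1) (ε' := 1) (by norm_num) hyo hso hco
          (elt_tor_plus (by (clear * - hm; omega)) (dvd_of_odd hyc)) (elt_hyp h)
      · refine C.of_odd (hyo.mul hso) (elt_tor_plus (by omega) (hco.mul_dvd_of_dvd_of_dvd (dvd_of_odd hyc) ?_))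
        have h2 := Nat.sub_dvd_pow_sub_pow (Nat.card F) 1 m
        rw [one_pow] at h2
        exact h.trans h2

theorem plus_false (R : Row p k S) (C : Ctx S F m 1) : False := by
  have hm := C.hm
  rcases R.cas with hp | hp
  · exact two_false R hp C
  obtain ⟨r, hr, hrd⟩ := ex_a R (a := 14) (Or.inl rfl)
  obtain ⟨t, ht, htd⟩ := ex_a R (a := 18) (Or.inr rfl)
  obtain ⟨b, hb, w, hw, hwd⟩ := ex_b R
  obtain ⟨hrv, hrt⟩ := top_a R C (Or.inl rfl) hr hrd
  obtain ⟨htv, htt⟩ := top_a R C (Or.inr rfl) ht htd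
  have h1 := ee_ne R C (by decide) (by decide) (by decide) hr ht hrd hrv htv
  have f : ∀ {e : ℕ}, Top m 1 e → e = 2 * (m - 1) ∨ ((m - 1) % 2 = 1 ∧ e = m - 1) ∨ (m % 2 = 1 ∧ e = m) := by
    intro e h
    rcases h with h | ⟨h2, h⟩ | ⟨-, h2, h⟩ | ⟨h, -⟩
    · exact Or.inl h
    · exact Or.inr (Or.inl ⟨Nat.odd_iff.1 h2, h⟩)
    · exact Or.inr (Or.inr ⟨Nat.odd_iff.1 h2, h⟩)
    · norm_num at h
  have hwt : wO (Nat.card F) w + 2 ≤ m := by
    rcases C.wt hw.prime (c4_odd (mem_C4' hb) hw).2 hwd with h | ⟨hwv, hwt⟩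
    · exact h
    · exfalso
      have h2 := ee_ne R C (by decide) (mem_C4' hb) (by omega) hr hw hrd hrv hwv
      have h3 := ee_ne R C (by decide) (mem_C4' hb) (by omega) ht hw htd htv hwv
      have h4 := f hrt
      have h5 := f htt
      have h6 := f hwt
      (clear * - h1 h2 h3 h4 h5 h6; solve | lia | omega)
  have h4 := f hrt
  have h5 := f htt
  rcases h4 with h4 | h4
  · exact plus_core R C (Or.inl rfl) (Or.inr rfl) hb hr ht hw hrv htv h4 (by (clear * - h1 h5 h4; solve | lia | omega)) hwt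
  · rcases h5 with h5 | h5
    · exact plus_core R C (Or.inr rfl) (Or.inl rfl) hb ht hr hw htv hrv h5 (by omega) hwt
    · omega

/-- **Row `PΩ⁺`** -/
theorem row_oplus {p k m u : ℕ} {S : Type u} [Group S] [Finite S] (R : Row p k S) (hg : IsNamed (.oplus m u) S) :
    False := by
  obtain ⟨F, _, _, hF, ⟨e⟩⟩ := hg.real
  exact plus_false R (ctx_plus (F := F) hg.cond.1 e)

end Cfsg.Agent.H706.ESeven
end

-- part: H706/ESeven/Minus
section
/-!
# S3482, row `PΩ⁻` (helper706)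
-/

set_option autoImplicit false
set_option linter.unusedVariables false
set_option linter.unusedSectionVars false

namespace Cfsg.Agent.H706.ESeven

open Cfsg Cfsg.Agent.H436 Cfsg.Agent.H962.E7 Cfsg.Agent.H72.AdjOrth Cfsg.Agent.H377

universe u

/-! ### the parts of the order -/

section ord

variable {v m N c : ℕ}

/-- all the primes of `N` have class `c` -/
def AllC (v N c : ℕ) : Prop := ∀ r : ℕ, r.Prime → r ∣ N → r ≠ 2 ∧ ¬ r ∣ v ∧ ee v r = c

theorem AllC.cop (h : AllC v N c) {M : ℕ} (hM : ∀ r : ℕ, r.Prime → r ≠ 2 → ¬ r ∣ v → ee v r = c → ¬ r ∣ M) :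
    Nat.Coprime N M :=
  Nat.Coprime.symm (Nat.coprime_of_dvd' fun r hr h1 h2 => by
    exfalso
    obtain ⟨a, b, d⟩ := h r hr h2
    exact hM r hr a b d h1)

theorem AllC.cop_sub (hv : 1 ≤ v) (h : AllC v N c) {i : ℕ} (hi : ¬ c ∣ i) : Nat.Coprime N (v ^ i - 1) :=
  h.cop fun r hr _ _ he hd => hi (he ▸ ee_dvd hv hd)

theorem AllC.cop_add (hv : 1 ≤ v) (h : AllC v N c) {i : ℕ} (hi : ¬ c ∣ 2 * i) : Nat.Coprime N (v ^ i + 1) :=
  h.cop fun r hr _ _ he hd => hi (he ▸ ee_dvd_two hv hd)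

theorem AllC.cop_pow (h : AllC v N c) (i : ℕ) : Nat.Coprime N (v ^ i) :=
  h.cop fun r hr _ hrv _ hd => hrv (hr.dvd_of_dvd_pow hd)

theorem AllC.cop_prod (hv : 1 ≤ v) (h : AllC v N c) {n : ℕ} (hi : ∀ i < n, ¬ c ∣ 2 * (i + 1)) :
    Nat.Coprime N (∏ i ∈ Finset.range n, (v ^ (2 * (i + 1)) - 1)) :=
  Nat.Coprime.prod_right fun i hi' => h.cop_sub hv (hi i (Finset.mem_range.1 hi'))

/-- class `2 m` -/
theorem AllC.dvd_top (hv : 1 ≤ v) (hm : 4 ≤ m) (h : AllC v N (2 * m))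
    (hN : N ∣ v ^ (m * (m - 1)) * (v ^ m + 1) * ∏ i ∈ Finset.range (m - 1), (v ^ (2 * (i + 1)) - 1)) :
    N ∣ v ^ m + 1 := by
  refine (h.cop_pow (m * (m - 1))).dvd_of_dvd_mul_left ((Nat.Coprime.dvd_of_dvd_mul_right ?_) hN)
  refine h.cop_prod hv fun i hi hd => ?_
  have := Nat.le_of_dvd (by omega) hd
  omega

/-- the classes `2 (m - 1)`, `m - 1` -/
theorem AllC.dvd_mid (hv : 1 ≤ v) (hm : 4 ≤ m) (hc : c = 2 * (m - 1) ∨ (c = m - 1 ∧ (m - 1) % 2 = 1)) (h : AllC v N c)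
    (hN : N ∣ v ^ (m * (m - 1)) * (v ^ m + 1) * ∏ i ∈ Finset.range (m - 1), (v ^ (2 * (i + 1)) - 1)) :
    N ∣ (v ^ (m - 1) + 1) * (v ^ (m - 1) - 1) := by
  have h0 : ∀ i, c ∣ 2 * i → m - 1 ∣ i := by
    intro i hi
    rcases hc with rfl | ⟨rfl, h2⟩
    · exact (Nat.mul_dvd_mul_iff_left two_pos).1 hi
    · exact Nat.Coprime.dvd_of_dvd_mul_left (Nat.coprime_two_right.2 (Nat.odd_iff.2 h2)) hi
  have h1 : Nat.Coprime N (v ^ (m * (m - 1)) * (v ^ m + 1)) := by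
    refine Nat.Coprime.mul_right (h.cop_pow _) (h.cop_add hv fun hd => ?_)
    have h2 := h0 m hd
    have h3 := Nat.dvd_sub h2 (dvd_refl (m - 1))
    rw [show m - (m - 1) = 1 by omega] at h3
    have := Nat.le_of_dvd one_pos h3
    omega
  have h2 := h1.dvd_of_dvd_mul_left hN
  rw [show m - 1 = (m - 2) + 1 by omega, Finset.prod_range_succ] at h2
  have h3 : Nat.Coprime N (∏ i ∈ Finset.range (m - 2), (v ^ (2 * (i + 1)) - 1)) :=
    h.cop_prod hv fun i hi hd => by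
      have := Nat.le_of_dvd (by omega) (h0 _ hd)
      omega
  have h4 := h3.dvd_of_dvd_mul_left h2
  rw [sub_mul_add, show m - 2 + 1 = m - 1 by omega] at h4
  exact h4

theorem AllC.dvd_plus (hv : 1 ≤ v) (hm : 4 ≤ m) (h : AllC v N (2 * (m - 1)))
    (hN : N ∣ v ^ (m * (m - 1)) * (v ^ m + 1) * ∏ i ∈ Finset.range (m - 1), (v ^ (2 * (i + 1)) - 1)) :
    N ∣ v ^ (m - 1) + 1 :=
  (h.cop_sub hv (i := m - 1) fun hd => by
    have := Nat.le_of_dvd (by omega) hd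
    omega).dvd_of_dvd_mul_right (h.dvd_mid hv hm (Or.inl rfl) hN)

theorem AllC.dvd_minus (hv : 1 ≤ v) (hm : 4 ≤ m) (ho : (m - 1) % 2 = 1) (h : AllC v N (m - 1))
    (hN : N ∣ v ^ (m * (m - 1)) * (v ^ m + 1) * ∏ i ∈ Finset.range (m - 1), (v ^ (2 * (i + 1)) - 1)) :
    N ∣ v ^ (m - 1) - 1 := by
  refine Nat.Coprime.dvd_of_dvd_mul_left ?_ (h.dvd_mid hv hm (Or.inr ⟨rfl, ho⟩) hN)
  refine h.cop fun r hr hr2 _ he hd => ?_
  have h1 := dvd_pow_ee (q := v) (r := r) hv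
  rw [he] at h1
  have h2 := Nat.dvd_sub hd h1
  have h3 : 1 ≤ v ^ (m - 1) := Nat.one_le_pow _ _ hv
  rw [show v ^ (m - 1) + 1 - (v ^ (m - 1) - 1) = 2 by omega] at h2
  exact hr2 ((Nat.prime_dvd_prime_iff_eq hr Nat.prime_two).1 h2)

/-- class at least 3: coprime to `v + 1`, `v - 1` -/
theorem AllC.cop_small (hv : 1 ≤ v) (hc : 3 ≤ c) (h : AllC v N c) : Nat.Coprime N (v + 1) ∧ Nat.Coprime N (v - 1) := by
  constructor
  · have h1 := h.cop_add hv (i := 1) fun hd => by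
      have := Nat.le_of_dvd (by omega) hd
      omega
    rwa [pow_one] at h1
  · have h1 := h.cop_sub hv (i := 1) fun hd => by
      have := Nat.le_of_dvd (by omega) hd
      omega
    rwa [pow_one] at h1

end ord

variable {p k : ℕ} {S : Type u} [Group S] {F : Type} [Field F] [Finite F] {m : ℕ}

/-- `v` odd, `m` even: the classes `2 (m - 1)`, `m - 1` are adjacent to 2 -/
theorem minus_no (R : Row p k S) (C : Ctx S F m (-1)) (hmo : (m - 1) % 2 = 1) (hvo : Nat.card F % 2 = 1)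
    {a x : ℕ} (ha : a = 14 ∨ a = 18) (hx : Prim (p ^ k) a x) (hxv : ¬ x ∣ Nat.card F)
    (hxc : ee (Nat.card F) x = 2 * (m - 1) ∨ ee (Nat.card F) x = m - 1) : False := by
  have hm := C.hm
  obtain ⟨hxo, hx2⟩ := c4_odd (mem_C4 ha) hx
  refine no_two R ha hx ?_
  have hco : Nat.Coprime 4 x := by
    have : Nat.Coprime (2 ^ 2) x := Nat.Coprime.pow_left 2 (Nat.coprime_two_left.2 hxo)
    simpa using this
  have hA : Nat.card F + 1 ∣ Nat.card F ^ (m - 1) + 1 := by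
    have := Odd.nat_add_dvd_pow_add_pow (Nat.card F) 1 (Nat.odd_iff.2 hmo)
    rwa [one_pow] at this
  have hB : Nat.card F - 1 ∣ Nat.card F ^ (m - 1) - 1 := by
    have := Nat.sub_dvd_pow_sub_pow (Nat.card F) 1 (m - 1)
    rwa [one_pow] at this
  have h4 : 4 ∣ Nat.card F + 1 ∨ 4 ∣ Nat.card F - 1 := by omega
  rcases hxc with hxc | hxc
  · have hX := dvd_of_even hx.prime hxv hxc
    rcases h4 with h4 | h4
    · exact C.two_tor (Or.inr rfl) (elt_tor_minus (by omega) (hco.mul_dvd_of_dvd_of_dvd (h4.trans hA) hX))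
    · exact C.two_blk (ε := -1) (ε' := 1) (by norm_num) hxo (elt_tor_minus (by omega) hX) (elt_hyp h4)
  · have hX := dvd_of_odd (F := F) hxc
    rcases h4 with h4 | h4
    · exact C.two_blk (ε := 1) (ε' := -1) (by norm_num) hxo (elt_tor_plus (by omega) hX) (elt_ell h4)
    · exact C.two_tor (Or.inl rfl) (elt_tor_plus (by omega) (hco.mul_dvd_of_dvd_of_dvd (h4.trans hB) hX))

theorem sv2 {s : ℕ} (hsv : s ∣ Nat.card F + 1 ∨ s ∣ Nat.card F - 1) : s ∣ Nat.card F ^ 2 - 1 := by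
  have e1 : Nat.card F ^ (2 * 1) - 1 = (Nat.card F ^ 1 + 1) * (Nat.card F ^ 1 - 1) := sub_mul_add
  rw [mul_one, pow_one] at e1
  rw [e1]
  rcases hsv with h | h
  · exact h.mul_right _
  · exact h.mul_left _

/-- `m` odd, `v ≠ 3` -/
theorem minus_core1 (R : Row p k S) (C : Ctx S F m (-1)) (hmo : m % 2 = 1) (hv3 : Nat.card F ≠ 3)
    {a a' b x y w : ℕ} (ha : a = 14 ∨ a = 18)
    (ha' : a' = 14 ∨ a' = 18) (hb : b = 7 ∨ b = 9) (hx : Prim (p ^ k) a x) (hy : Prim (p ^ k) a' y)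
    (hw : Prim (p ^ k) b w) (hxv : ¬ x ∣ Nat.card F) (hyv : ¬ y ∣ Nat.card F)
    (hxc : ee (Nat.card F) x = 2 * m) (hyc : ee (Nat.card F) y = 2 * (m - 1))
    (hwt : wO (Nat.card F) w + 2 ≤ m) : False := by
  have hm := C.hm
  obtain ⟨hxo, hx2⟩ := c4_odd (mem_C4 ha) hx
  obtain ⟨hyo, hy2⟩ := c4_odd (mem_C4 ha') hy
  have hX := dvd_of_even hx.prime hxv hxc
  have hY := dvd_of_even hy.prime hyv hyc
  obtain ⟨s, hs, hs2, hsv⟩ := exists_odd_prime (v := Nat.card F) (Finite.one_lt_card) hv3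
  have hso := hs.odd_of_ne_two hs2
  obtain ⟨-, -, hes⟩ := one_of_dvd (F := F) hs hs2 (sv2 hsv)
  rcases hsv with h | h
  · have hne : x ≠ s := by
      rintro rfl
      omega
    have hco := (Nat.coprime_primes hx.prime hs).2 hne
    refine clash_s R C ha hb hx hw hwt hs hs2 (Or.inl h) (C.of_odd (hxo.mul hso) (elt_tor_minus (by omega)
      (hco.mul_dvd_of_dvd_of_dvd hX ?_)))
    have h2 := Odd.nat_add_dvd_pow_add_pow (Nat.card F) 1 (Nat.odd_iff.2 hmo)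
    rw [one_pow] at h2
    exact h.trans h2
  · have hne : y ≠ s := by
      rintro rfl
      (clear * - hyc hm hes; omega)
    have hco := (Nat.coprime_primes hy.prime hs).2 hne
    exact clash_s R C ha' hb hy hw hwt hs hs2 (Or.inr h)
      (C.blk (ε := -1) (ε' := 1) (by norm_num) hyo hso hco (elt_tor_minus (by (clear * - hm; omega)) hY) (elt_hyp h))

/-- `m` even: an odd prime dividing `v² - 1` is adjacent to the primes of the classes `2 (m - 1)`, `m - 1` -/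
theorem minus_adj_s (C : Ctx S F m (-1)) (hmo : (m - 1) % 2 = 1) {x s : ℕ} (hx : x.Prime) (hx2 : x ≠ 2)
    (hxv : ¬ x ∣ Nat.card F) (hxc : ee (Nat.card F) x = 2 * (m - 1) ∨ ee (Nat.card F) x = m - 1)
    (hs : s.Prime) (hs2 : s ≠ 2) (hsv : s ∣ Nat.card F + 1 ∨ s ∣ Nat.card F - 1) : ∃ g : S, orderOf g = x * s := by
  have hm := C.hm
  have hxo := hx.odd_of_ne_two hx2
  have hso := hs.odd_of_ne_two hs2
  obtain ⟨-, -, hes⟩ := one_of_dvd (F := F) hs hs2 (sv2 hsv)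
  have hne : x ≠ s := by
    rintro rfl
    (clear * - hxc hm hes; omega)
  have hco := (Nat.coprime_primes hx hs).2 hne
  have hA : Nat.card F + 1 ∣ Nat.card F ^ (m - 1) + 1 := by
    have := Odd.nat_add_dvd_pow_add_pow (Nat.card F) 1 (Nat.odd_iff.2 hmo)
    rwa [one_pow] at this
  have hB : Nat.card F - 1 ∣ Nat.card F ^ (m - 1) - 1 := by
    have := Nat.sub_dvd_pow_sub_pow (Nat.card F) 1 (m - 1)
    rwa [one_pow] at this
  rcases hxc with hxc | hxc
  · have hX := dvd_of_even hx hxv hxc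
    rcases hsv with h | h
    · exact C.of_odd' (Or.inr rfl) (hxo.mul hso) (elt_tor_minus (by omega)
        (hco.mul_dvd_of_dvd_of_dvd hX (h.trans hA)))
    · exact C.blk (ε := -1) (ε' := 1) (by norm_num) hxo hso hco (elt_tor_minus (by omega) hX) (elt_hyp h)
  · have hX := dvd_of_odd (F := F) hxc
    rcases hsv with h | h
    · exact C.blk (ε := 1) (ε' := -1) (by norm_num) hxo hso hco (elt_tor_plus (by omega) hX) (elt_ell h)
    · exact C.of_odd' (Or.inl rfl) (hxo.mul hso) (elt_tor_plus (by omega)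
        (hco.mul_dvd_of_dvd_of_dvd hX (h.trans hB)))

/-- the divisor of the order -/
def ordM (v m : ℕ) : ℕ := v ^ (m * (m - 1)) * (v ^ m + 1) * ∏ i ∈ Finset.range (m - 1), (v ^ (2 * (i + 1)) - 1)

theorem NN_dvd (R : Row p k S) {a : ℕ} (ha : a = 14 ∨ a = 18) (hord : Nat.card S ∣ ordM (Nat.card F) m) :
    NN (p ^ k) a ∣ ordM (Nat.card F) m := by
  obtain ⟨g, hg⟩ := (R.top a (by rcases ha with rfl | rfl <;> decide)).elt (mem_C4 ha)
  rw [← hg]
  exact (orderOf_dvd_natCard g).trans hord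

/-- all the primes of `NN q a` in the class `c` -/
theorem allC (R : Row p k S) (C : Ctx S F m (-1)) {a c : ℕ} (ha : a = 14 ∨ a = 18)
    (h : ∀ x, Prim (p ^ k) a x → x ∣ Nat.card S → ¬ x ∣ Nat.card F → Top m (-1) (ee (Nat.card F) x) →
      ee (Nat.card F) x = c) : AllC (Nat.card F) (NN (p ^ k) a) c := by
  intro r hr hrd
  have h1 : Prim (p ^ k) a r := by
    rcases ha with rfl | rfl
    · exact nn_prim14 (two_le_q R) hr hrd
    · exact nn_prim18 (two_le_q R) hr hrd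
  have h2 := (R.top a (by rcases ha with rfl | rfl <;> decide)).dvd r h1
  obtain ⟨h3, h4⟩ := top_a R C ha h1 h2
  exact ⟨(c4_odd (mem_C4 ha) h1).2, h3, h r h1 h2 h3 h4⟩

/-- **The size argument**: an element of order `X w`, `NN q 14 ∣ X`, `NN q 18 ∣ Y` -/
theorem size_false (R : Row p k S) (hp : p = 13 ∨ p = 17) {X Y w α β : ℕ} (h1 : NN (p ^ k) 14 ∣ X)
    (h2 : ∃ g : S, orderOf g = X * w) (h3 : NN (p ^ k) 18 ∣ Y) (hX : 0 < X)
    (hα : 1 ≤ α) (hαw : α ≤ 3 * w) (h : |(α : ℤ) * X - β * Y| ≤ 2) : False := by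
  obtain ⟨g, hg⟩ := h2
  have hne : NN (p ^ k) 14 ≠ 1 := by
    intro h4
    have e := NN14 (p ^ k)
    rw [h4, mul_one] at e
    have h5 := na_mul (p ^ k)
    rw [← e] at h5
    have h6 : Nat.gcd 7 (p ^ k + 1) ≤ 7 := Nat.gcd_le_left _ (by norm_num)
    have h7 : 13 ≤ p ^ k := q_ge (q_cases hp R.hk)
    have h8 : (p ^ k + 1) * Nat.gcd 7 (p ^ k + 1) ≤ (p ^ k + 1) * 7 := Nat.mul_le_mul_left _ h6
    have h9 : 13 ^ 6 * p ^ k ≤ (p ^ k) ^ 7 := by
      rw [pow_succ]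
      exact Nat.mul_le_mul_right _ (Nat.pow_le_pow_left h7 6)
    omega
  obtain ⟨r, hr, hrd⟩ := Nat.exists_prime_and_dvd hne
  have hrp := nn_prim14 (two_le_q R) hr hrd
  have h4 := R.tor 14 (by decide) g r hrp (by rw [hg]; exact (hrd.trans h1).mul_right _)
  rw [hg] at h4
  exact num_final (q_cases hp R.hk) (q_mod hp) h1 h4 h3 hX hα hαw h

/-- `m` odd, `v = 3` -/
theorem minus_three (R : Row p k S) (hp : p = 13 ∨ p = 17) (C : Ctx S F m (-1)) (hmo : m % 2 = 1)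
    (hv3 : Nat.card F = 3) (hord : Nat.card S ∣ ordM (Nat.card F) m)
    (h : (AllC (Nat.card F) (NN (p ^ k) 14) (2 * m) ∧ AllC (Nat.card F) (NN (p ^ k) 18) (2 * (m - 1))) ∨
      (AllC (Nat.card F) (NN (p ^ k) 18) (2 * m) ∧ AllC (Nat.card F) (NN (p ^ k) 14) (2 * (m - 1)))) : False := by
  have hm := C.hm
  obtain ⟨j, hj⟩ : ∃ j, m - 1 = 2 * j := ⟨(m - 1) / 2, by omega⟩
  have h8 : 3 ^ (m - 1) % 8 = 1 := by
    rw [hj, pow_mul]
    simp [Nat.pow_mod]
  have hmm : 3 ^ m = 3 * 3 ^ (m - 1) := by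
    rw [← pow_succ']
    congr 1
    omega
  obtain ⟨X, hX⟩ : ∃ X, 3 ^ m + 1 = 4 * X := ⟨(3 ^ m + 1) / 4, by omega⟩
  obtain ⟨Y, hY⟩ : ∃ Y, 3 ^ (m - 1) + 1 = 2 * Y := ⟨(3 ^ (m - 1) + 1) / 2, by omega⟩
  have hXo : X % 2 = 1 := by omega
  have hYo : Y % 2 = 1 := by omega
  have eX : ∃ g : S, orderOf g = X :=
    C.of_odd (Nat.odd_iff.2 hXo) (elt_tor_minus (by omega) (by rw [hv3, hX]; exact Dvd.intro_left _ rfl))
  have eY : ∃ g : S, orderOf g = Y :=
    C.of_odd' (Or.inr rfl) (Nat.odd_iff.2 hYo) (elt_tor_minus (by omega) (by rw [hv3, hY]; exact Dvd.intro_left _ rfl))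
  have key : ∀ {N : ℕ}, AllC (Nat.card F) N (2 * m) → N ∣ ordM (Nat.card F) m → N ∣ X := by
    intro N hN hd
    have h1 := hN.dvd_top card_ge_one hm hd
    rw [hv3, hX] at h1
    refine Nat.Coprime.dvd_of_dvd_mul_left ?_ h1
    exact hN.cop fun r hr hr2 _ _ h4 => hr2 ((Nat.prime_dvd_prime_iff_eq hr Nat.prime_two).1
      (hr.dvd_of_dvd_pow (show r ∣ 2 ^ 2 by simpa using h4)))
  have key' : ∀ {N : ℕ}, AllC (Nat.card F) N (2 * (m - 1)) → N ∣ ordM (Nat.card F) m → N ∣ Y := by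
    intro N hN hd
    have h1 := hN.dvd_plus card_ge_one hm hd
    rw [hv3, hY] at h1
    refine Nat.Coprime.dvd_of_dvd_mul_left ?_ h1
    exact hN.cop fun r hr hr2 _ _ h4 => hr2 ((Nat.prime_dvd_prime_iff_eq hr Nat.prime_two).1 h4)
  have hXp : 0 < X := by omega
  have hYp : 0 < Y := by omega
  have hrel : (3 : ℤ) * Y - 2 * X = 1 := by omega
  rcases h with ⟨h1, h2⟩ | ⟨h1, h2⟩
  · refine size_false R hp (X := X) (Y := Y) (w := 1) (α := 2) (β := 3) (key h1 (NN_dvd R (Or.inl rfl) hord))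
      (by simpa only [_root_.mul_one] using eX) (key' h2 (NN_dvd R (Or.inr rfl) hord)) hXp (by norm_num) (by norm_num) ?_
    push_cast
    rw [show (2 : ℤ) * X - 3 * Y = -1 by linarith only [hmm, hX, hY]]
    norm_num
  · refine size_false R hp (X := Y) (Y := X) (w := 1) (α := 3) (β := 2) (key' h2 (NN_dvd R (Or.inl rfl) hord))
      (by simpa using eY) (key h1 (NN_dvd R (Or.inr rfl) hord)) hYp (by norm_num) (by norm_num) ?_
    push_cast
    rw [show (3 : ℤ) * Y - 2 * X = 1 by linarith only [hmm, hX, hY]]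
    norm_num

/-- `m` even, `v` even -/
theorem minus_even (R : Row p k S) (hp : p = 13 ∨ p = 17) (C : Ctx S F m (-1)) (hmo : (m - 1) % 2 = 1)
    (hve : Nat.card F % 2 = 0) (hord : Nat.card S ∣ ordM (Nat.card F) m)
    (h : (AllC (Nat.card F) (NN (p ^ k) 14) (2 * (m - 1)) ∧ AllC (Nat.card F) (NN (p ^ k) 18) (m - 1)) ∨
      (AllC (Nat.card F) (NN (p ^ k) 18) (2 * (m - 1)) ∧ AllC (Nat.card F) (NN (p ^ k) 14) (m - 1))) : False := by
  have hm := C.hm
  have hv2 : 2 ≤ Nat.card F := Finite.one_lt_card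
  obtain ⟨A, hA⟩ : Nat.card F + 1 ∣ Nat.card F ^ (m - 1) + 1 := by
    have := Odd.nat_add_dvd_pow_add_pow (Nat.card F) 1 (Nat.odd_iff.2 hmo)
    rwa [one_pow] at this
  obtain ⟨B, hB⟩ : Nat.card F - 1 ∣ Nat.card F ^ (m - 1) - 1 := by
    have := Nat.sub_dvd_pow_sub_pow (Nat.card F) 1 (m - 1)
    rwa [one_pow] at this
  have hvm : Nat.card F ^ (m - 1) % 2 = 0 := by
    rw [Nat.pow_mod, hve, Nat.zero_pow (by omega)]
  have hvm2 : 2 ≤ Nat.card F ^ (m - 1) := le_trans hv2 (Nat.le_self_pow (by omega) _)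
  -- the two elements
  have coA : Nat.Coprime (Nat.card F ^ (m - 1) + 1) (Nat.card F - 1) := by
    rw [Nat.coprime_iff_gcd_eq_one]
    have h1 : Nat.gcd (Nat.card F ^ (m - 1) + 1) (Nat.card F - 1) ∣ 2 := by
      have h2 := Nat.gcd_dvd_left (Nat.card F ^ (m - 1) + 1) (Nat.card F - 1)
      have h3 : Nat.gcd (Nat.card F ^ (m - 1) + 1) (Nat.card F - 1) ∣ Nat.card F ^ (m - 1) - 1 :=
        (Nat.gcd_dvd_right _ _).trans (hB ▸ Dvd.intro _ rfl)
      have h4 := Nat.dvd_sub h2 h3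
      rwa [show Nat.card F ^ (m - 1) + 1 - (Nat.card F ^ (m - 1) - 1) = 2 by (clear * - hvm2; omega)] at h4
    rcases (Nat.dvd_prime Nat.prime_two).1 h1 with h2 | h2
    · exact h2
    · exfalso
      have h3 := Nat.gcd_dvd_right (Nat.card F ^ (m - 1) + 1) (Nat.card F - 1)
      rw [h2] at h3
      omega
  have coB : Nat.Coprime (Nat.card F ^ (m - 1) - 1) (Nat.card F + 1) := by
    rw [Nat.coprime_iff_gcd_eq_one]
    have h1 : Nat.gcd (Nat.card F ^ (m - 1) - 1) (Nat.card F + 1) ∣ 2 := by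
      have h2 := Nat.gcd_dvd_left (Nat.card F ^ (m - 1) - 1) (Nat.card F + 1)
      have h3 : Nat.gcd (Nat.card F ^ (m - 1) - 1) (Nat.card F + 1) ∣ Nat.card F ^ (m - 1) + 1 :=
        (Nat.gcd_dvd_right _ _).trans (hA ▸ Dvd.intro _ rfl)
      have h4 := Nat.dvd_sub h3 h2
      rwa [show Nat.card F ^ (m - 1) + 1 - (Nat.card F ^ (m - 1) - 1) = 2 by (clear * - hvm2; omega)] at h4
    rcases (Nat.dvd_prime Nat.prime_two).1 h1 with h2 | h2
    · exact h2
    · exfalso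
      have h3 := Nat.gcd_dvd_right (Nat.card F ^ (m - 1) - 1) (Nat.card F + 1)
      rw [h2] at h3
      omega
  have eA : ∃ g : S, orderOf g = (Nat.card F ^ (m - 1) + 1) * (Nat.card F - 1) :=
    C.blk (ε := -1) (ε' := 1) (by norm_num) (Nat.odd_iff.2 (by omega)) (Nat.odd_iff.2 (by omega)) coA
      (elt_tor_minus (by omega) dvd_rfl) (elt_hyp dvd_rfl)
  have eB : ∃ g : S, orderOf g = (Nat.card F ^ (m - 1) - 1) * (Nat.card F + 1) :=
    C.blk (ε := 1) (ε' := -1) (by norm_num) (Nat.odd_iff.2 (by omega)) (Nat.odd_iff.2 (by omega)) coB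
      (elt_tor_plus (by omega) dvd_rfl) (elt_ell dvd_rfl)
  have keyA : ∀ {N : ℕ}, AllC (Nat.card F) N (2 * (m - 1)) → N ∣ ordM (Nat.card F) m → N ∣ A := by
    intro N hN hd
    have h1 := hN.dvd_plus card_ge_one hm hd
    rw [hA] at h1
    exact (hN.cop_small card_ge_one (by (clear * - hm; omega))).1.dvd_of_dvd_mul_left h1
  have keyB : ∀ {N : ℕ}, AllC (Nat.card F) N (m - 1) → N ∣ ordM (Nat.card F) m → N ∣ B := by
    intro N hN hd
    have h1 := hN.dvd_minus card_ge_one hm hmo hd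
    rw [hB] at h1
    exact (hN.cop_small card_ge_one (by omega)).2.dvd_of_dvd_mul_left h1
  have hAp : 0 < A := by
    rcases Nat.eq_zero_or_pos A with h0 | h0
    · rw [h0, mul_zero] at hA
      omega
    · exact h0
  have hBp : 0 < B := by
    rcases Nat.eq_zero_or_pos B with h0 | h0
    · rw [h0, mul_zero] at hB
      omega
    · exact h0
  have hrel : ((Nat.card F + 1 : ℕ) : ℤ) * A - ((Nat.card F - 1 : ℕ) : ℤ) * B = 2 := by
    have e1 : ((Nat.card F + 1 : ℕ) : ℤ) * A = ((Nat.card F ^ (m - 1) + 1 : ℕ) : ℤ) := by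
      rw [hA]
      push_cast
      ring
    have e2 : ((Nat.card F - 1 : ℕ) : ℤ) * B = ((Nat.card F ^ (m - 1) - 1 : ℕ) : ℤ) := by
      rw [hB, Nat.cast_mul]
    rw [e1, e2]
    (clear * - hvm2; omega)
  have hw : 1 ≤ Nat.card F - 1 := by omega
  have hwn : Nat.card F + 1 ≤ (Nat.card F + 1) * (Nat.card F - 1) := Nat.le_mul_of_pos_right _ hw
  rcases h with ⟨h1, h2⟩ | ⟨h1, h2⟩
  · refine size_false R hp (X := A) (Y := B) (w := (Nat.card F + 1) * (Nat.card F - 1)) (α := Nat.card F + 1)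
      (β := Nat.card F - 1) (keyA h1 (NN_dvd R (Or.inl rfl) hord)) ?_ (keyB h2 (NN_dvd R (Or.inr rfl) hord))
      hAp (by omega) (by omega) ?_
    · rw [hA] at eA
      rw [show A * ((Nat.card F + 1) * (Nat.card F - 1)) = (Nat.card F + 1) * A * (Nat.card F - 1) by ring]
      exact eA
    · rw [hrel]
      norm_num
  · refine size_false R hp (X := B) (Y := A) (w := (Nat.card F + 1) * (Nat.card F - 1)) (α := Nat.card F - 1)
      (β := Nat.card F + 1) (keyB h2 (NN_dvd R (Or.inl rfl) hord)) ?_ (keyA h1 (NN_dvd R (Or.inr rfl) hord))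
      hBp (by omega) (by omega) ?_
    · rw [hB] at eB
      rw [show B * ((Nat.card F + 1) * (Nat.card F - 1)) = (Nat.card F - 1) * B * (Nat.card F + 1) by ring]
      exact eB
    · rw [show ((Nat.card F - 1 : ℕ) : ℤ) * B - ((Nat.card F + 1 : ℕ) : ℤ) * A = -2 by linarith only [hrel]]
      norm_num

theorem minus_false (R : Row p k S) (C : Ctx S F m (-1)) (hord : Nat.card S ∣ ordM (Nat.card F) m) : False := by
  have hm := C.hm
  rcases R.cas with hp | hp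
  · exact two_false R hp C
  obtain ⟨r, hr, hrd⟩ := ex_a R (a := 14) (Or.inl rfl)
  obtain ⟨t, ht, htd⟩ := ex_a R (a := 18) (Or.inr rfl)
  obtain ⟨b, hb, w, hw, hwd⟩ := ex_b R
  obtain ⟨hrv, hrt⟩ := top_a R C (Or.inl rfl) hr hrd
  obtain ⟨htv, htt⟩ := top_a R C (Or.inr rfl) ht htd
  have h1 := ee_ne R C (by decide) (by decide) (by decide) hr ht hrd hrv htv
  have f : ∀ {e : ℕ}, Top m (-1) e → e = 2 * (m - 1) ∨ ((m - 1) % 2 = 1 ∧ e = m - 1) ∨ e = 2 * m := by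
    intro e h
    rcases h with h | ⟨h2, h⟩ | ⟨h, -, -⟩ | ⟨-, h⟩
    · exact Or.inl h
    · exact Or.inr (Or.inl ⟨Nat.odd_iff.1 h2, h⟩)
    · norm_num at h
    · exact Or.inr (Or.inr h)
  have h4 := f hrt
  have h5 := f htt
  -- the classes of all the primes of class 14, 18
  have g14 : ∀ x, Prim (p ^ k) 14 x → x ∣ Nat.card S → ¬ x ∣ Nat.card F →
      ee (Nat.card F) x ≠ ee (Nat.card F) t := fun x hx hxd hxv =>
    ee_ne R C (by decide) (by decide) (by decide) hx ht hxd hxv htv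
  have g18 : ∀ x, Prim (p ^ k) 18 x → x ∣ Nat.card S → ¬ x ∣ Nat.card F →
      ee (Nat.card F) x ≠ ee (Nat.card F) r := fun x hx hxd hxv =>
    ee_ne R C (by decide) (by decide) (by decide) hx hr hxd hxv hrv
  rcases Nat.mod_two_eq_zero_or_one m with hm2 | hm2
  · have hmo : (m - 1) % 2 = 1 := by omega
    rcases Nat.mod_two_eq_zero_or_one (Nat.card F) with hv2 | hv2
    · -- `m` even, `v` even
      obtain ⟨s, hs, hs2, hsv⟩ := exists_odd_prime (v := Nat.card F) (Finite.one_lt_card) (by omega)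
      have q1 : ee (Nat.card F) r = 2 * m → ee (Nat.card F) t = 2 * (m - 1) ∨ ee (Nat.card F) t = m - 1 := by (clear * - h1 h5; (solve | lia | omega))
      have q2 : ¬ ee (Nat.card F) r = 2 * m → ee (Nat.card F) r = 2 * (m - 1) ∨ ee (Nat.card F) r = m - 1 := by (clear * - h4; (solve | lia | omega))
      have hwc : ¬ w ∣ Nat.card F ∧ ee (Nat.card F) w = 2 * m := by
        by_contra hcon
        -- `s` is adjacent to `w`
        have hsw : (∃ g : S, orderOf g = w * s) ∨ wO (Nat.card F) w + 2 ≤ m := by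
          rcases C.wt hw.prime (c4_odd (mem_C4' hb) hw).2 hwd with h | ⟨hwv, hwt⟩
          · exact Or.inr h
          · left
            have h6 := f hwt
            exact minus_adj_s C hmo hw.prime (c4_odd (mem_C4' hb) hw).2 hwv (by
              rcases h6 with h6 | h6 | h6
              · exact Or.inl h6
              · exact Or.inr h6.2
              · exact absurd ⟨hwv, h6⟩ hcon) hs hs2 hsv
        have fin : ∀ {a x : ℕ}, (a = 14 ∨ a = 18) → Prim (p ^ k) a x → ¬ x ∣ Nat.card F →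
            (ee (Nat.card F) x = 2 * (m - 1) ∨ ee (Nat.card F) x = m - 1) → False := by
          intro a x ha hx hxv hxc
          have h7 := minus_adj_s C hmo hx.prime (c4_odd (mem_C4 ha) hx).2 hxv hxc hs hs2 hsv
          rcases hsw with h8 | h8
          · exact clash R ha hb hx hw hs hs2 h7 h8
          · exact clash_s R C ha hb hx hw h8 hs hs2 hsv h7
        by_cases h6 : ee (Nat.card F) r = 2 * m
        · exact fin (Or.inr rfl) ht htv (q1 h6)
        · exact fin (Or.inl rfl) hr hrv (q2 h6)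
      obtain ⟨hwv, hwc⟩ := hwc
      have k14 : ∀ x, Prim (p ^ k) 14 x → x ∣ Nat.card S → ¬ x ∣ Nat.card F → ee (Nat.card F) x ≠ 2 * m :=
        fun x hx hxd hxv => by
          rw [← hwc]
          exact ee_ne R C (by decide) (mem_C4' hb) (by (clear * - hb; omega)) hx hw hxd hxv hwv
      have k18 : ∀ x, Prim (p ^ k) 18 x → x ∣ Nat.card S → ¬ x ∣ Nat.card F → ee (Nat.card F) x ≠ 2 * m :=
        fun x hx hxd hxv => by
          rw [← hwc]
          exact ee_ne R C (by decide) (mem_C4' hb) (by (clear * - hb; omega)) hx hw hxd hxv hwv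
      have hr' := k14 r hr hrd hrv
      have ht' := k18 t ht htd htv
      refine minus_even R hp C hmo hv2 hord ?_
      rcases h4 with h4 | h4
      · left
        exact ⟨allC R C (Or.inl rfl) fun x hx hxd hxv hxt => by
            have a1 := g14 x hx hxd hxv
            have a2 := k14 x hx hxd hxv
            have a3 := f hxt
            clear * - a1 a2 a3 h1 h4 h5 hr' ht'
            (solve | lia | omega),
          allC R C (Or.inr rfl) fun x hx hxd hxv hxt => by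
            have a1 := g18 x hx hxd hxv
            have a2 := k18 x hx hxd hxv
            have a3 := f hxt
            clear * - a1 a2 a3 h1 h4 h5 hr' ht'
            omega⟩
      · right
        exact ⟨allC R C (Or.inr rfl) fun x hx hxd hxv hxt => by
            have a1 := g18 x hx hxd hxv
            have a2 := k18 x hx hxd hxv
            have a3 := f hxt
            clear * - a1 a2 a3 h1 h4 h5 hr' ht'
            (clear * - hr' h4 a1 a2 a3; solve | lia | omega),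
          allC R C (Or.inl rfl) fun x hx hxd hxv hxt => by
            have a1 := g14 x hx hxd hxv
            have a2 := k14 x hx hxd hxv
            have a3 := f hxt
            clear * - a1 a2 a3 h1 h4 h5 hr' ht'
            (solve | lia | omega)⟩
    · -- `m` even, `v` odd
      by_cases h6 : ee (Nat.card F) r = 2 * m
      · exact minus_no R C hmo hv2 (Or.inr rfl) ht htv (by (clear * - h1 h5 h6; omega))
      · exact minus_no R C hmo hv2 (Or.inl rfl) hr hrv (by (clear * - h4 h6; (solve | lia | omega)))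
  · -- `m` odd
    by_cases hv3 : Nat.card F = 3
    · refine minus_three R hp C hm2 hv3 hord ?_
      by_cases h6 : ee (Nat.card F) r = 2 * m
      · left
        exact ⟨allC R C (Or.inl rfl) fun x hx hxd hxv hxt => by
            have a1 := g14 x hx hxd hxv
            have a3 := f hxt
            clear * - a1 a3 h1 h4 h5 h6 hm hm2
            (solve | lia | omega),
          allC R C (Or.inr rfl) fun x hx hxd hxv hxt => by
            have a1 := g18 x hx hxd hxv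
            have a3 := f hxt
            clear * - a1 a3 h1 h4 h5 h6 hm hm2
            (clear * - hm2 h6 a1 a3; omega)⟩
      · right
        exact ⟨allC R C (Or.inr rfl) fun x hx hxd hxv hxt => by
            have a1 := g18 x hx hxd hxv
            have a3 := f hxt
            clear * - a1 a3 h1 h4 h5 h6 hm hm2
            (clear * - h4 hm2 h6 a1 a3; solve | lia | omega),
          allC R C (Or.inl rfl) fun x hx hxd hxv hxt => by
            have a1 := g14 x hx hxd hxv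
            have a3 := f hxt
            clear * - a1 a3 h1 h4 h5 h6 hm hm2
            (clear * - h1 h4 h5 hm2 h6 a1 a3; omega)⟩
    · have hwt : wO (Nat.card F) w + 2 ≤ m := by
        rcases C.wt hw.prime (c4_odd (mem_C4' hb) hw).2 hwd with h | ⟨hwv, hwt⟩
        · exact h
        · exfalso
          have h2 := ee_ne R C (by decide) (mem_C4' hb) (by (clear * - hb; omega)) hr hw hrd hrv hwv
          have h3 := ee_ne R C (by decide) (mem_C4' hb) (by (clear * - hb; omega)) ht hw htd htv hwv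
          have h6 := f hwt
          (clear * - h1 h4 h5 hm2 h2 h3 h6; omega)
      by_cases h6 : ee (Nat.card F) r = 2 * m
      · exact minus_core1 R C hm2 hv3 (Or.inl rfl) (Or.inr rfl) hb hr ht hw hrv htv h6 (by (clear * - hm h1 h5 hm2 h6; omega)) hwt
      · exact minus_core1 R C hm2 hv3 (Or.inr rfl) (Or.inl rfl) hb ht hr hw htv hrv (by (clear * - h1 h4 h5 hm2 h6; (solve | lia | omega))) (by (clear * - h4 hm2 h6; (solve | lia | omega))) hwt

/-- **Row `PΩ⁻`** -/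
theorem row_ominus {p k m u : ℕ} {S : Type u} [Group S] [Finite S] (R : Row p k S) (hg : IsNamed (.ominus m u) S) :
    False := by
  obtain ⟨F, _, _, a, b, hF, hab, ⟨e⟩⟩ := hg.real
  have hm := hg.cond.1
  refine minus_false R (ctx_minus (F := F) hm hab e) ?_
  rw [Nat.card_congr e.toEquiv, ordM, Nat.card_eq_fintype_card (α := F), ← Cfsg.Agent.S0294.result (F := F) rfl m hm a b hab]
  exact Dvd.intro_left _ rfl

end Cfsg.Agent.H706.ESeven
end

private theorem dce_8c19b2b24e23 : _root_.True := by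
  try have : _root_.True := by simp only [_root_.Cfsg.Agent.H706.ESeven.Pa.eq_1]
  try have : _root_.True := by simp only [_root_.Cfsg.Agent.H706.ESeven.ordM.eq_1]
  try have : _root_.True := by simp only [_root_.Cfsg.Agent.H962.E7.C4.eq_1]
  exact _root_.True.intro
end

-- part: H196/E7/Rows
section
set_option linter.all false
open scoped Cfsg.Agent.FastGrp

/-!
# S3482, rows R0 and R8 (helper196)

* `row_alt` : alternating groups; `row_spor`, `row_sporList` : sporadic groups and the Tits group;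
* `row_g2`, `row_f4`, `row_e6`, `row_te6`, `row_td4`, `row_sz`, `row_ree`, `row_tf4` : exceptional groups of small rank.
-/

set_option autoImplicit false

namespace Cfsg.Agent.H196.E7

open Cfsg Cfsg.Agent.H436 Cfsg.Agent.H962.E7 Cfsg.Agent.H420.QR Cfsg.Agent.OrdDiv

universe u

variable {p k : ℕ} {S : Type u} [Group S]

/-! ### Alternating groups -/

theorem not_sq_dvd_factorial {m r : ℕ} (hr : r.Prime) (h : m < 2 * r) : ¬ r ^ 2 ∣ m.factorial := by
  intro hd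
  have h2 := hr.two_le
  have hb : Nat.log r m < 2 := Nat.log_lt_of_lt_pow' (by norm_num) (by nlinarith)
  rw [hr.pow_dvd_factorial_iff hb] at hd
  simp only [Finset.sum_Ico_succ_top (by norm_num : 1 ≤ 1), Finset.Ico_self, Finset.sum_empty, zero_add, pow_one] at hd
  have h3 : m / r < 2 := (Nat.div_lt_iff_lt_mul hr.pos).2 h
  omega

/-- an element of `A_m` whose order has only primes `> m - 4` has prime order -/
theorem prime_of_order {m N : ℕ} (hm : 7 ≤ m) (hN : 1 < N) (h2 : ∀ r, r.Prime → r ∣ N → r ≠ 2 ∧ m < r + 4)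
    {x : alternatingGroup (Fin m)} (hx : orderOf x = N) : m < N + 4 ∧ N ≤ m := by
  have hdvd : N ∣ Nat.card (alternatingGroup (Fin m)) := hx ▸ orderOf_dvd_natCard x
  obtain ⟨r, hr, hrN⟩ := Nat.exists_prime_and_dvd (n := N) (by omega)
  have hrm : r ≤ m := H376.Coc.alt_dvd_le hr (hrN.trans hdvd)
  obtain ⟨hr2, hr4⟩ := h2 r hr hrN
  obtain ⟨l, rfl⟩ := hrN
  by_cases hl : l = 1
  · subst hl
    rw [mul_one]
    exact ⟨hr4, hrm⟩
  exfalso
  obtain ⟨s, hs, hsl⟩ := Nat.exists_prime_and_dvd hl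
  have hsN : s ∣ r * l := hsl.mul_left _
  have hsm : s ≤ m := H376.Coc.alt_dvd_le hs (hsN.trans hdvd)
  obtain ⟨hs2, hs4⟩ := h2 s hs hsN
  have hrs : r * s ∣ r * l := mul_dvd_mul_left _ hsl
  by_cases hne : r = s
  · subst hne
    refine not_sq_dvd_factorial hr (m := m) (by omega) ?_
    have h3 : Nat.card (alternatingGroup (Fin m)) ∣ m.factorial := by
      have h4 := Subgroup.card_subgroup_dvd_card (alternatingGroup (Fin m))
      rwa [Nat.card_eq_fintype_card (α := Equiv.Perm (Fin m)), Fintype.card_perm, Fintype.card_fin] at h4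
    rw [pow_two]
    exact (hrs.trans hdvd).trans h3
  · obtain ⟨t, ht⟩ := hrs
    have ht0 : t ≠ 0 := by
      rintro rfl
      omega
    have h3 : orderOf (x ^ t) = r * s := by
      rw [orderOf_pow_of_dvd ht0 (by rw [hx, ht]; exact dvd_mul_left _ _), hx, ht,
        Nat.mul_div_cancel _ (Nat.pos_of_ne_zero ht0)]
    have h4 := (S2466.result m r s hr hs hr2 hs2 hne hrm hsm).1 ⟨x ^ t, h3⟩
    omega

/-- **Alternating groups.** -/
theorem row_alt {m : ℕ} (R : Row p k S) (hg : IsNamed (.alt m) S) : False := by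
  obtain ⟨e⟩ : Nonempty (S ≃* ↥(alternatingGroup (Fin m))) := hg.real
  have hq := two_le R.hp R.hk
  have key : ∀ i ∈ ({14, 18} : Finset ℕ), 1 < NN (p ^ k) i →
      (∀ r, r.Prime → r ∣ NN (p ^ k) i → Prim (p ^ k) i r) → m < NN (p ^ k) i + 4 ∧ NN (p ^ k) i ≤ m := by
    intro i hi h1 hprim
    have h4 : i ∈ C4 := by
      simp only [Finset.mem_insert, Finset.mem_singleton] at hi
      rcases hi with rfl | rfl <;> decide
    have h14 : 14 ≤ i := by
      simp only [Finset.mem_insert, Finset.mem_singleton] at hi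
      omega
    obtain ⟨x, hx⟩ := (R.top i hi).elt h4
    have hx' : orderOf (e x) = NN (p ^ k) i := by rw [MulEquiv.orderOf_eq, hx]
    have hm : 7 ≤ m := by
      obtain ⟨r, hr, hrN⟩ := Nat.exists_prime_and_dvd (n := NN (p ^ k) i) (by omega)
      have h2 := lt_of_prim (hprim r hr hrN)
      have h3 : r ≤ m := H376.Coc.alt_dvd_le hr (hrN.trans (hx' ▸ orderOf_dvd_natCard (e x)))
      omega
    refine prime_of_order hm h1 (fun r hr hrN => ?_) hx'
    have h2 := lt_of_prim (hprim r hr hrN)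
    refine ⟨by omega, ?_⟩
    by_contra hlt
    obtain ⟨g, hg⟩ := H376.Coc.alt_adj_two (m := m) hr (by omega) (by omega)
    exact nadj_two R hi (hprim r hr hrN) ⟨e.symm g, by rw [MulEquiv.orderOf_eq, hg]⟩
  obtain ⟨a1, a2⟩ := key 14 (by decide) (one_lt_NN14 hq) fun r hr hd => prim_NN14 (by omega) hr hd
  obtain ⟨b1, b2⟩ := key 18 (by decide) (one_lt_NN18 hq) fun r hr hd => prim_NN18 (by omega) hr hd
  rcases NN_far hq with h | h <;> omega

/-! ### Sporadic groups -/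

theorem spor_smooth' : ∀ n ∈ H437.sporList, n ∣ Nat.factorial 71 := by decide +kernel

theorem spor_nineteen : ∀ n ∈ H437.sporList, ¬ 361 ∣ n ∧ ¬ 703 ∣ n ∧ ¬ 1369 ∣ n := by decide +kernel

theorem prim_127 : Prim 2 7 127 := by
  have : Fact (Nat.Prime 7) := ⟨by norm_num⟩
  refine prim_of_orderOf (by norm_num) (by norm_num) (by norm_num) ?_
  exact orderOf_eq_prime (by decide) (by decide)

/-- **Sporadic groups and the Tits group, by order.** -/
theorem row_sporList (R : Row p k S) (hS : Nat.card S ∈ H437.sporList) : False := by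
  have hq := two_le R.hp R.hk
  have hbd : ∀ r : ℕ, r.Prime → r ∣ Nat.card S → r ≤ 71 := fun r hr hd =>
    (Nat.Prime.dvd_factorial hr).1 (hd.trans (spor_smooth' _ hS))
  obtain ⟨h19, h703, h37⟩ := spor_nineteen _ hS
  obtain ⟨x, hx⟩ := (R.top 18 (by decide)).elt (by decide)
  have hdvd : NN (p ^ k) 18 ∣ Nat.card S := hx ▸ orderOf_dvd_natCard x
  have hpr : ∀ r : ℕ, r.Prime → r ∣ NN (p ^ k) 18 → r = 19 ∨ r = 37 := by
    intro r hr hd
    have h1 := hbd r hr (hd.trans hdvd)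
    obtain ⟨t, ht⟩ := dvd_sub_one (prim_NN18 (by omega) hr hd)
    have h2 := hr.two_le
    have h3 : t = 0 ∨ t = 1 ∨ t = 2 ∨ t = 3 := by omega
    rcases h3 with rfl | rfl | rfl | rfl
    · omega
    · left; omega
    · right; omega
    · exfalso
      have : r = 55 := by omega
      subst this
      norm_num at hr
  have hsm : NN (p ^ k) 18 ≤ 37 := by
    obtain ⟨r, hr, hrN⟩ := Nat.exists_prime_and_dvd (n := NN (p ^ k) 18) (by have := one_lt_NN18 hq; omega)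
    obtain ⟨l, hl⟩ := hrN
    by_cases hl1 : l = 1
    · subst hl1
      have := hpr r hr (by rw [hl]; exact dvd_mul_right _ _)
      omega
    exfalso
    obtain ⟨s, hs, hsl⟩ := Nat.exists_prime_and_dvd hl1
    have hd : r * s ∣ Nat.card S := (mul_dvd_mul_left r hsl).trans (hl ▸ hdvd)
    rcases hpr r hr (by rw [hl]; exact dvd_mul_right _ _) with rfl | rfl <;>
      rcases hpr s hs (by rw [hl]; exact hsl.mul_left _) with rfl | rfl
    · exact h19 hd
    · exact h703 hd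
    · exact h703 (by rwa [mul_comm] at hd)
    · exact h37 hd
  have hq2 := NN18_small hq hsm
  have hp2 : p = 2 := by
    have h1 : p ∣ 2 := hq2 ▸ dvd_pow_self p (by have := R.hk; omega)
    exact (Nat.prime_dvd_prime_iff_eq R.hp Nat.prime_two).1 h1
  have h1 := (R.even hp2 7 (by decide)).dvd 127 (by rw [hq2]; exact prim_127)
  have := hbd 127 (by norm_num) h1
  omega

/-- the same, by name -/
theorem row_spor_name {g : Grp} (R : Row p k S) (hg : IsNamed g S) (h : ordN g ∈ H437.sporList) : False :=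
  row_sporList R (by rw [hg.ord]; exact h)

/-! ### Exceptional groups of small rank -/

theorem no_cover {v c : ℕ} (R : Row p k S) (hv : IsPrimePow v) (hc : Cover S v c) (h5 : c ≤ 5) : False := by
  classical
  obtain ⟨ρ, hpr, hdv, hna, h3, h7⟩ := exists_coq R
  obtain ⟨w, f, hw, hf, rfl⟩ := (isPrimePow_nat_iff v).1 hv
  have key : (ρ.erase w).card ≤ c := by
    refine hc.card_le _ (fun r hr => ?_) fun r hr s hs hrs => ?_
    · obtain ⟨hrp, hrC⟩ := Finset.mem_erase.1 hr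
      refine ⟨hpr r hrC, h3 r hrC, fun hd => hrp ?_, hdv r hrC⟩
      exact (Nat.prime_dvd_prime_iff_eq (hpr r hrC) hw).1 ((hpr r hrC).dvd_of_dvd_pow hd)
    · exact hna r (Finset.mem_of_mem_erase hr) s (Finset.mem_of_mem_erase hs) hrs
  have h2 := Finset.pred_card_le_card_erase (s := ρ) (a := w)
  omega

variable {v : ℕ}

theorem row_g2 (R : Row p k S) (hg : IsNamed (.g2 v) S) : False :=
  no_cover R (hg.cond : 3 ≤ v ∧ IsPrimePow v).2 (cov_g2 hg) (by norm_num)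

theorem row_f4 (R : Row p k S) (hg : IsNamed (.f4 v) S) : False :=
  no_cover R (hg.cond : IsPrimePow v) (cov_f4 hg) (by norm_num)

theorem row_e6 (R : Row p k S) (hg : IsNamed (.e6 v) S) : False :=
  no_cover R (hg.cond : IsPrimePow v) (cov_e6 hg) (by norm_num)

theorem row_te6 (R : Row p k S) (hg : IsNamed (.te6 v) S) : False :=
  no_cover R (hg.cond : IsPrimePow v) (cov_te6 hg) (by norm_num)

theorem row_td4 (R : Row p k S) (hg : IsNamed (.td4 v) S) : False :=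
  no_cover R (hg.cond : IsPrimePow v) (cov_td4 hg) (by norm_num)

theorem row_sz (R : Row p k S) (hg : IsNamed (.sz v) S) : False :=
  no_cover R (Nat.prime_two.isPrimePow.pow (by norm_num)) (cov_sz hg) (by norm_num)

theorem row_ree (R : Row p k S) (hg : IsNamed (.ree v) S) : False :=
  no_cover R (Nat.prime_three.isPrimePow.pow (by norm_num)) (cov_ree hg) (by norm_num)

theorem row_tf4 (R : Row p k S) (hg : IsNamed (.tf4 v) S) : False :=
  no_cover R (Nat.prime_two.isPrimePow.pow (by norm_num)) (cov_tf4 hg) (by norm_num)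

theorem row_tits (R : Row p k S) (hg : IsNamed .tits S) : False := row_spor_name R hg (by decide +kernel)

/-- the names of the sporadic groups and of the Tits group -/
def sporNames : List Grp :=
  [.m11, .m12, .m22, .m23, .m24, .j1, .j2, .j3, .j4, .co1, .co2, .co3, .mcl, .hs, .suz, .he, .ru, .on, .ly,
    .fi22, .fi23, .fi24, .hn, .th, .b, .m, .tits]

theorem ord_mem : ∀ g ∈ sporNames, ordN g ∈ H437.sporList := by decide +kernel

theorem row_sporadic {g : Grp} (R : Row p k S) (hg : IsNamed g S) (h : g ∈ sporNames) : False :=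
  row_spor_name R hg (ord_mem g h)

end Cfsg.Agent.H196.E7
end
end
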